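import Cfsg.Agent.Lib.SmithN.Core

/-!
The structure modulo the 2-core inside a 2-local subgroup, in the ambient group.
-/

set_option autoImplicit false
set_option linter.style.haveILetI false

open Subgroup CfsgLib.PLoc

namespace CfsgLib.SmithN

variable {G : Type*} [Group G] [Finite G]

/-- The standing hypotheses. -/
structure Amb (G : Type*) [Group G] [Finite G] : Prop where
  charP : ∀ N : Subgroup G, IsPGroup 2 N → N ≠ ⊥ → CfsgLib.Even.HasCharP 2 (normalizer (N : Set G))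
  solv : ∀ N : Subgroup G, IsPGroup 2 N → N ≠ ⊥ → Group.IsSolvable ↥(normalizer (N : Set G))
  cent : ∀ S : Sylow 2 G, centralizer (Oz (S : Subgroup G) : Set G) ≤ normalizer ((S : Subgroup G) : Set G)
  twoCore : Cfsg.pCore 2 G = ⊥

/-- In a 2-local subgroup the centralizer of `Ω₁(Z(T))` normalizes the Sylow subgroup `T`. -/
theorem Amb.cent_local (amb : Amb G) {N K T : Subgroup G} (hN : IsPGroup 2 N)
    (hK : K = normalizer (N : Set G)) (hT : IsSyl T K) :
    K ⊓ centralizer (Oz T : Set G) ≤ normalizer (T : Set G) := by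
  haveI := Fact.mk Nat.prime_two
  obtain ⟨S, hS⟩ := hT.two.exists_le_sylow
  have hNT : N ≤ T := hT.le_of_normal hN (hK ▸ le_normalizer) (hT.le.trans hK.le)
  have hOz : Oz (S : Subgroup G) ≤ Oz T := by
    intro x hx
    obtain ⟨h1, h2, h3⟩ := mem_Oz.1 hx
    have hxK : x ∈ K := by
      rw [hK]
      refine centralizer_le_normalizer _ (mem_centralizer_iff.2 fun q hq => ?_)
      exact h2 q (hS (hNT hq))
    have hT' := hT.max (T ⊔ zpowers x) (S.isPGroup'.to_le (sup_le hS (zpowers_le.2 h1))) le_sup_left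
      (sup_le hT.le (zpowers_le.2 hxK))
    exact mem_Oz.2 ⟨hT'.le (mem_sup_right (mem_zpowers x)), fun s hs => h2 s (hS hs), h3⟩
  intro g hg
  have hgS := amb.cent S (centralizer_le hOz hg.2)
  rw [mem_normalizer_iff_map_conj_eq]
  show T.map (MulAut.conj g).toMonoidHom = T
  have h1 : T.map (MulAut.conj g).toMonoidHom ≤ (S : Subgroup G) ⊓ K := le_inf
    ((Subgroup.map_mono hS).trans (map_conj_of_mem hgS).le)
    ((Subgroup.map_mono hT.le).trans (map_conj_of_mem (le_normalizer hg.1 : g ∈ normalizer (K : Set G))).le)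
  have h2 : (S : Subgroup G) ⊓ K = T :=
    hT.max _ (S.isPGroup'.to_le inf_le_left) (le_inf hS hT.le) inf_le_right
  exact eq_of_le_of_card_ge (h1.trans h2.le) (card_map_of_injective (conj_injective g)).ge

/-- The structure modulo the 2-core of a solvable subgroup of characteristic 2. -/
theorem core_ambient {K T : Subgroup G} [Group.IsSolvable K] (hK : CfsgLib.Even.HasCharP 2 K)
    (hT : IsSyl T K) (hZ : K ⊓ centralizer (Oz T : Set G) ≤ normalizer (T : Set G)) :
    ∃ (n : ℕ) (L0 : Subgroup G) (p0 : ↥L0 →* (Fin n → Equiv.Perm (Fin 3))),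
      L0 ≤ K ∧ K ≤ normalizer (L0 : Set G) ∧ CfsgLib.Even.pOf 2 K ≤ L0 ∧ joinMaxAb 0 T ≤ L0 ∧
      Function.Surjective p0 ∧ p0.ker.map L0.subtype = CfsgLib.Even.pOf 2 K ∧
      (∀ i, ∃ j : ↥L0, (j : G) ∈ joinMaxAb 0 T ∧ p0 j i ≠ 1 ∧ ∀ k, k ≠ i → p0 j k = 1) ∧
      Bm T ≤ joinMaxAb 0 T ⊔ CfsgLib.Even.pOf 2 K ∧
      K ≤ (K ⊓ normalizer (T : Set G)) ⊔ L0 ⊔ (K ⊓ normalizer (joinMaxAb 0 T : Set G)) := by
  classical
  haveI := Fact.mk Nat.prime_two
  haveI := CfsgLib.Solvable.pCore_normal 2 ↥K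
  have hc : centralizer (Cfsg.pCore 2 ↥K : Set ↥K) ≤ Cfsg.pCore 2 ↥K := (CfsgLib.Even.hasCharP_iff K).1 hK
  have hinj : Function.Injective K.subtype := K.subtype_injective
  obtain ⟨TK, hTK⟩ : ∃ U : Sylow 2 ↥K, (U : Subgroup ↥K).map K.subtype = T := by
    obtain ⟨U, hU⟩ := (hT.two.comap_of_injective K.subtype hinj).exists_le_sylow
    exact ⟨U, hT.max _ (U.isPGroup'.map _) (fun x hx => ⟨⟨x, hT.le hx⟩, hU hx, rfl⟩) (map_subtype_le _)⟩
  have hF : Cfsg.fittingSubgroup ↥K = Cfsg.pCore 2 ↥K := by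
    refine le_antisymm (CfsgLib.Balance.fitting_le_pCore ?_) ?_
    · rw [eq_bot_iff]
      intro x hx
      haveI := CfsgLib.Solvable.pPrimeCore_normal 2 ↥K
      have hcop := CfsgLib.Solvable.pPrimeCore_card_coprime 2 ↥K
      have hdis : Cfsg.pPrimeCore 2 ↥K ⊓ Cfsg.pCore 2 ↥K = ⊥ := by
        obtain ⟨k, hk⟩ := IsPGroup.iff_card.1 (CfsgLib.Solvable.pCore_isPGroup 2 ↥K)
        exact inf_eq_bot_of_coprime (hk ▸ Nat.Coprime.pow_right k hcop)
      have hxc : x ∈ centralizer (Cfsg.pCore 2 ↥K : Set ↥K) := mem_centralizer_iff.2 fun q hq =>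
        ((commute_of_normal_of_disjoint _ _ inferInstance inferInstance (disjoint_iff.2 hdis) x q hx hq).eq).symm
      exact hdis.le ⟨hx, hc hxc⟩
    · exact le_sSup ⟨inferInstance, (CfsgLib.Solvable.pCore_isPGroup 2 ↥K).isNilpotent⟩
  have hZK : centralizer (((TK : Subgroup ↥K) ⊓ centralizer ((TK : Subgroup ↥K) : Set ↥K) : Subgroup ↥K) : Set ↥K)
      ≤ normalizer ((TK : Subgroup ↥K) : Set ↥K) := by
    intro g hg
    have h1 : (g : G) ∈ normalizer (T : Set G) := hZ ⟨g.2, mem_centralizer_iff.2 fun z hz => by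
      obtain ⟨z1, z2, z3⟩ := mem_Oz.1 hz
      rw [← hTK] at z1
      obtain ⟨z', hz', rfl⟩ := z1
      refine congrArg Subtype.val (mem_centralizer_iff.1 hg z' ⟨hz', mem_centralizer_iff.2 fun s hs => ?_⟩)
      exact Subtype.ext (z2 _ (hTK ▸ mem_map_of_mem K.subtype hs))⟩
    refine mem_normalizer_fintype fun x hx => ?_
    have h2 := (mem_normalizer_iff.1 h1 (x : G)).1 (hTK ▸ mem_map_of_mem K.subtype hx)
    rw [← hTK] at h2
    obtain ⟨y, hy, hyx⟩ := h2
    rwa [show g * x * g⁻¹ = y from Subtype.ext hyx.symm]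
  obtain ⟨n, Y0, p0, hYn, hRY, hJY, hps, hker, hlift, hB, htop⟩ := local_core hF TK hZK
  haveI := hYn
  have hR : (Cfsg.pCore 2 ↥K).map K.subtype = CfsgLib.Even.pOf 2 K := rfl
  have hJ : (joinMaxAb 0 (TK : Subgroup ↥K)).map K.subtype = joinMaxAb 0 T := by
    rw [← joinMaxAb_map _ hinj, hTK]
  let L0 := Y0.map K.subtype
  let e : ↥Y0 ≃* ↥L0 := Y0.equivMapOfInjective K.subtype hinj
  refine ⟨n, L0, p0.comp e.symm.toMonoidHom, map_subtype_le _, ?_, hR ▸ Subgroup.map_mono hRY,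
    hJ ▸ Subgroup.map_mono hJY, hps.comp e.symm.surjective, ?_, ?_, ?_, ?_⟩
  · have h := le_normalizer_map (H := Y0) K.subtype
    rw [normalizer_eq_top, ← MonoidHom.range_eq_map, range_subtype] at h
    exact h
  · rw [← hR, ← hker, Subgroup.map_map]
    ext x
    constructor
    · rintro ⟨y, hy, rfl⟩
      refine ⟨e.symm y, hy, ?_⟩
      exact (congrArg Subtype.val (e.apply_symm_apply y) :)
    · rintro ⟨y, hy, rfl⟩
      refine ⟨e y, ?_, rfl⟩
      show p0 (e.symm (e y)) = 1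
      rw [e.symm_apply_apply]; exact hy
  · intro i
    obtain ⟨j, hj, h1, h2⟩ := hlift i
    refine ⟨e j, hJ ▸ mem_map_of_mem K.subtype hj, ?_, fun k hk => ?_⟩
    · show p0 (e.symm (e j)) i ≠ 1
      rwa [e.symm_apply_apply]
    · show p0 (e.symm (e j)) k = 1
      rw [e.symm_apply_apply]; exact h2 k hk
  · rw [← hTK, Bm_map _ hinj, hTK, ← hJ, ← hR, ← Subgroup.map_sup]
    exact Subgroup.map_mono hB
  · have h1 : (normalizer ((TK : Subgroup ↥K) : Set ↥K) ⊔ Y0 ⊔
        normalizer (joinMaxAb 0 (TK : Subgroup ↥K) : Set ↥K)).map K.subtype = K := by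
      rw [htop, ← MonoidHom.range_eq_map, range_subtype]
    conv_lhs => rw [← h1]
    rw [Subgroup.map_sup, Subgroup.map_sup]
    refine sup_le_sup (sup_le_sup_right (le_inf (map_subtype_le _) ?_) _) (le_inf (map_subtype_le _) ?_)
    · exact (le_normalizer_map K.subtype).trans_eq (congrArg (fun H : Subgroup G => normalizer (H : Set G)) hTK)
    · exact (le_normalizer_map K.subtype).trans_eq (congrArg (fun H : Subgroup G => normalizer (H : Set G)) hJ)

end CfsgLib.SmithN
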