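import Cfsg.Prelude.Def_CaseTheorems
import Cfsg.Prelude.Def_Transfer
import Cfsg.Prelude.Def_PLocal
import Cfsg.Agent.Lib.PLocal.ZJ
import Cfsg.Agent.Lib.Even.CharP
import Cfsg.Agent.Lib.Balance.Orbit
import Cfsg.Agent.Lib.Solvable.CoprimeAction

/-!
Baumann subgroups, the subgroups with quotient `S₃` over them, and generalities.
-/

set_option autoImplicit false
set_option linter.style.haveILetI false

open Subgroup CfsgLib.PLoc

namespace CfsgLib.SmithN

variable {G : Type*} [Group G]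

/-- The Baumann subgroup. -/
def Bm (P : Subgroup G) : Subgroup G := P ⊓ centralizer (interMaxAb 0 P : Set G)

/-- `Ω₁(Z(T))`. -/
def Oz (T : Subgroup G) : Subgroup G := Cfsg.omegaOne 2 (T ⊓ centralizer (T : Set G))

/-- The subgroup generated by the elements of odd order. -/
def O2r (X : Subgroup G) : Subgroup G := closure {g | g ∈ X ∧ Odd (orderOf g)}

/-- A maximal 2-subgroup of `K`. -/
structure IsSyl (T K : Subgroup G) : Prop where
  le : T ≤ K
  two : IsPGroup 2 T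
  max : ∀ P : Subgroup G, IsPGroup 2 P → T ≤ P → P ≤ K → P = T

/-- A subgroup with Sylow subgroup `B`, quotient `S₃` by its 2-core and generated by conjugates of `B`. -/
structure Par (B X : Subgroup G) : Prop where
  le : B ≤ X
  two : IsPGroup 2 B
  card : Nat.card X = 3 * Nat.card B
  hom : ∃ f : ↥X →* Equiv.Perm (Fin 3), Function.Surjective f ∧ IsPGroup 2 f.ker
  charP : CfsgLib.Even.HasCharP 2 X
  notcent : ¬ X ≤ centralizer (Oz B : Set G)
  gen : ∀ K : Subgroup G, B ≤ K → X ≤ normalizer (K : Set G) → X ≤ K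

/-- Every 2-group over `B` in a 2-local subgroup containing `X` has Baumann subgroup `B`. -/
def Good (B X : Subgroup G) : Prop :=
  ∀ N P : Subgroup G, N ≠ ⊥ → IsPGroup 2 N → X ≤ normalizer (N : Set G) → IsPGroup 2 P →
    P ≤ normalizer (N : Set G) → B ≤ P → Bm P = B

theorem conj_injective (g : G) : Function.Injective (MulAut.conj g).toMonoidHom := (MulAut.conj g).injective

theorem map_conj_of_mem {g : G} {H : Subgroup G} (hg : g ∈ normalizer (H : Set G)) :
    H.map (MulAut.conj g).toMonoidHom = H := mem_normalizer_iff_map_conj_eq.1 hg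

theorem mem_Oz {T : Subgroup G} {x : G} :
    x ∈ Oz T ↔ x ∈ T ∧ (∀ s ∈ T, s * x = x * s) ∧ x * x = 1 := by
  constructor
  · intro hx
    refine closure_induction (fun y hy => ?_) ⟨one_mem _, fun s _ => by simp, by simp⟩ ?_ ?_ hx
    · obtain ⟨⟨hyS, hyc⟩, hy2⟩ := hy
      exact ⟨hyS, fun s hs => hyc s hs, by rw [← pow_two]; exact hy2⟩
    · rintro a b - - ⟨haS, hac, ha2⟩ ⟨hbS, hbc, hb2⟩
      refine ⟨mul_mem haS hbS, fun s hs => ?_, ?_⟩
      · rw [← mul_assoc, hac s hs, mul_assoc, hbc s hs, mul_assoc]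
      · rw [Commute.mul_mul_mul_comm (hac b hbS), ha2, hb2, one_mul]
    · rintro a - ⟨haS, hac, ha2⟩
      refine ⟨inv_mem haS, fun s hs => ?_, by rw [← mul_inv_rev, ha2, inv_one]⟩
      exact ((Commute.inv_right (show Commute s a from hac s hs))).eq
  · rintro ⟨hxS, hxc, hx2⟩
    exact subset_closure ⟨⟨hxS, fun s hs => hxc s hs⟩, by rw [pow_two]; exact hx2⟩

theorem Oz_le (T : Subgroup G) : Oz T ≤ T := fun _ hx => (mem_Oz.1 hx).1

theorem le_centralizer_Oz (T : Subgroup G) : T ≤ centralizer (Oz T : Set G) :=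
  fun s hs => mem_centralizer_iff.2 fun z hz => ((mem_Oz.1 hz).2.1 s hs).symm

theorem Bm_le (P : Subgroup G) : Bm P ≤ P := inf_le_left

theorem joinMaxAb_le_Bm (P : Subgroup G) : joinMaxAb 0 P ≤ Bm P :=
  le_inf (joinMaxAb_le 0 P) (le_centralizer_iff.1 (interMaxAb_le_centralizer 0 P))

section fin

variable [Finite G]

theorem center_le_inter (T : Subgroup G) : T ⊓ centralizer (T : Set G) ≤ interMaxAb 0 T := fun x hx =>
  Subgroup.mem_sInf.2 fun _ hA => mem_of_commute hA hx.1 (pow_zero x) fun a ha => hx.2 a (hA.le ha)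

theorem Oz_le_inter (T : Subgroup G) : Oz T ≤ interMaxAb 0 T := fun _ hx =>
  center_le_inter T ⟨(mem_Oz.1 hx).1, fun s hs => (mem_Oz.1 hx).2.1 s hs⟩

theorem Oz_le_Oz_Bm (T : Subgroup G) : Oz T ≤ Oz (Bm T) := fun x hx => by
  obtain ⟨h1, h2, h3⟩ := mem_Oz.1 hx
  refine mem_Oz.2 ⟨⟨h1, fun z hz => ?_⟩, fun s hs => h2 s hs.1, h3⟩
  exact h2 z (joinMaxAb_le 0 T (mem_interMaxAb_iff.1 hz).1)

theorem interMaxAb_eq_of_join {P Q : Subgroup G} (h : joinMaxAb 0 P = joinMaxAb 0 Q) :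
    interMaxAb 0 P = interMaxAb 0 Q := by
  ext x; rw [mem_interMaxAb_iff, mem_interMaxAb_iff, h]

theorem join_eq_of_between {P D : Subgroup G} (hPD : P ≤ D) (hJ : joinMaxAb 0 D ≤ P) :
    joinMaxAb 0 P = joinMaxAb 0 D := joinMaxAb_eq_of_le hPD hJ

theorem Bm_map {H : Type*} [Group H] [Finite H] (f : G →* H) (hf : Function.Injective f) (P : Subgroup G) :
    Bm (P.map f) = (Bm P).map f := by
  rw [Bm, Bm, interMaxAb_map f hf]
  ext y
  constructor
  · rintro ⟨⟨x, hx, rfl⟩, hc⟩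
    exact ⟨x, ⟨hx, fun z hz => hf (by rw [map_mul, map_mul]; exact hc _ (mem_map_of_mem f hz))⟩, rfl⟩
  · rintro ⟨x, ⟨h1, h2⟩, rfl⟩
    refine ⟨mem_map_of_mem f h1, ?_⟩
    rintro _ ⟨z, hz, rfl⟩
    rw [← map_mul, ← map_mul, h2 z hz]

theorem normalizer_le_normalizer_Bm (P : Subgroup G) :
    normalizer (P : Set G) ≤ normalizer (Bm P : Set G) := fun g hg => by
  rw [mem_normalizer_iff_map_conj_eq]
  show (Bm P).map (MulAut.conj g).toMonoidHom = Bm P
  rw [← Bm_map _ (conj_injective g), map_conj_of_mem hg]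

theorem normalizer_join_le_normalizer_centralizer_inter (P : Subgroup G) :
    normalizer (joinMaxAb 0 P : Set G) ≤
      normalizer ((centralizer (interMaxAb 0 P : Set G) : Subgroup G) : Set G) :=
  (normalizer_join_le_normalizer_interMaxAb 0 P).trans (normalizer_le_normalizer_centralizer _)

omit [Finite G] in
theorem IsSyl.exists_conj [Finite G] {T K : Subgroup G} (h : IsSyl T K) {P : Subgroup G} (hP : IsPGroup 2 P)
    (hPK : P ≤ K) : ∃ k ∈ K, P.map (MulAut.conj k).toMonoidHom ≤ T := by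
  haveI := Fact.mk Nat.prime_two
  obtain ⟨U, hU⟩ := (h.two.comap_of_injective K.subtype K.subtype_injective).exists_le_sylow
  have hUT : (U : Subgroup K).map K.subtype = T := by
    refine h.max _ (U.isPGroup'.map _) (fun x hx => ⟨⟨x, h.le hx⟩, hU hx, rfl⟩) (map_subtype_le _)
  obtain ⟨Q, hQ⟩ := (hP.comap_of_injective K.subtype K.subtype_injective).exists_le_sylow
  obtain ⟨k, hk⟩ := MulAction.exists_smul_eq K Q U
  refine ⟨k, k.2, ?_⟩
  rintro _ ⟨x, hx, rfl⟩
  rw [← hUT, ← hk, Sylow.coe_subgroup_smul]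
  exact ⟨k * ⟨x, hPK hx⟩ * k⁻¹, ⟨⟨x, hPK hx⟩, hQ hx, rfl⟩, rfl⟩

theorem exists_isSyl {P K : Subgroup G} (hP : IsPGroup 2 P) (hPK : P ≤ K) :
    ∃ T, IsSyl T K ∧ P ≤ T := by
  obtain ⟨U, hU⟩ := (hP.comap_of_injective K.subtype K.subtype_injective).exists_le_sylow
  refine ⟨(U : Subgroup K).map K.subtype, ⟨map_subtype_le _, U.isPGroup'.map _, fun Q hQ hUQ hQK => ?_⟩,
    fun x hx => ⟨⟨x, hPK hx⟩, hU hx, rfl⟩⟩
  refine le_antisymm (fun x hx => ?_) hUQ
  have h := U.3 (hQ.comap_of_injective K.subtype K.subtype_injective)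
    (fun y hy => hUQ ⟨y, hy, rfl⟩)
  exact ⟨⟨x, hQK hx⟩, h ▸ hx, rfl⟩

/-- A normal 2-subgroup lies in every maximal 2-subgroup. -/
theorem IsSyl.le_of_normal {T K N : Subgroup G} (h : IsSyl T K) (hN : IsPGroup 2 N) (hNK : N ≤ K)
    (hn : T ≤ normalizer (N : Set G)) : N ≤ T :=
  le_sup_right.trans (h.max _ (h.two.to_sup_of_normal_right' hN hn) le_sup_left (sup_le h.le hNK)).le

/-- If a maximal 2-subgroup of `K` contains all 2-elements of `C`, conjugations preserve the intersection. -/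
theorem map_conj_inf_le {T C : Subgroup G} {g : G} (hT : IsPGroup 2 T)
    (huniq : ∀ P : Subgroup G, IsPGroup 2 P → P ≤ C → P ≤ T)
    (hg : g ∈ normalizer (C : Set G)) : g ∈ normalizer ((T ⊓ C : Subgroup G) : Set G) := by
  rw [mem_normalizer_iff_map_conj_eq]
  show (T ⊓ C).map (MulAut.conj g).toMonoidHom = T ⊓ C
  refine eq_of_le_of_card_ge ?_ (card_map_of_injective (conj_injective g)).ge
  have h1 : (T ⊓ C).map (MulAut.conj g).toMonoidHom ≤ C :=
    (Subgroup.map_mono inf_le_right).trans (map_conj_of_mem hg).le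
  exact le_inf (huniq _ ((hT.to_le inf_le_left).map _) h1) h1

theorem O2r_le (X : Subgroup G) : O2r X ≤ X := (closure_le _).2 fun _ hg => hg.1

omit [Finite G] in
theorem mem_O2r {X : Subgroup G} {g : G} (hg : g ∈ X) (ho : Odd (orderOf g)) : g ∈ O2r X :=
  subset_closure ⟨hg, ho⟩

omit [Finite G] in
theorem normalizer_le_normalizer_O2r (X : Subgroup G) :
    normalizer (X : Set G) ≤ normalizer (O2r X : Set G) := by
  have key : ∀ g ∈ normalizer (X : Set G), O2r X ≤ (O2r X).comap (MulAut.conj g).toMonoidHom := by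
    intro g hg
    rw [O2r, closure_le]
    rintro x ⟨hx, ho⟩
    refine subset_closure ⟨(mem_normalizer_iff.1 hg x).1 hx, ?_⟩
    rwa [orderOf_injective (MulAut.conj g).toMonoidHom (MulAut.conj g).injective x]
  intro g hg
  rw [mem_normalizer_iff]
  intro x
  refine ⟨fun hx => key g hg hx, fun hx => ?_⟩
  have h := key g⁻¹ (inv_mem hg) hx
  simpa [mul_assoc] using h

theorem O2r_mono {X Y : Subgroup G} (h : X ≤ Y) : O2r X ≤ O2r Y :=
  closure_mono fun _ hg => ⟨h hg.1, hg.2⟩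

omit [Finite G] in
theorem odd_eq_one {x : G} {P : Subgroup G} (hP : IsPGroup 2 P) (hx : x ∈ P) (ho : Odd (orderOf x)) :
    x = 1 := by
  haveI := Fact.mk Nat.prime_two
  obtain ⟨k, hk⟩ := IsPGroup.iff_orderOf.1 hP ⟨x, hx⟩
  rw [Subgroup.orderOf_mk] at hk
  rcases Nat.eq_zero_or_pos k with rfl | hk0
  · exact orderOf_eq_one_iff.1 hk
  · exact absurd (hk ▸ dvd_pow_self 2 hk0.ne') (fun h => (Nat.not_even_iff_odd.2 ho) (even_iff_two_dvd.2 h))

namespace Par

variable {B X Y : Subgroup G}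

theorem syl (h : Par B X) : IsSyl B X := by
  refine ⟨h.le, h.two, fun P hP hBP hPX => (eq_of_le_of_card_ge hBP ?_).symm⟩
  haveI := Fact.mk Nat.prime_two
  obtain ⟨k, hk⟩ := IsPGroup.iff_card.1 hP
  have h1 : Nat.card P ∣ 3 * Nat.card B := h.card ▸ card_dvd_of_le hPX
  rw [hk] at h1 ⊢
  exact Nat.le_of_dvd Nat.card_pos ((Nat.Coprime.pow_left k (by decide)).dvd_of_dvd_mul_left h1)

theorem two_mul_core (h : Par B X) :
    Nat.card B = 2 * Nat.card (CfsgLib.Even.pOf 2 X) ∧ CfsgLib.Even.pOf 2 X ≤ B := by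
  haveI := Fact.mk Nat.prime_two
  obtain ⟨f, hf, hker⟩ := h.hom
  have hp : Cfsg.pCore 2 ↥X = f.ker := by
    refine le_antisymm ?_ (CfsgLib.Solvable.le_pCore inferInstance hker)
    haveI := CfsgLib.Solvable.pCore_normal 2 ↥X
    rw [← Subgroup.map_eq_bot_iff]
    set N := (Cfsg.pCore 2 ↥X).map f with hN
    have hNn : N.Normal := Subgroup.Normal.map inferInstance f hf
    have hN2 : IsPGroup 2 N := (CfsgLib.Solvable.pCore_isPGroup 2 ↥X).map f
    rw [eq_bot_iff_forall]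
    intro r hr
    by_contra hr1
    obtain ⟨g, hg⟩ : ∃ g : Equiv.Perm (Fin 3), g * r * g⁻¹ ≠ 1 ∧ g * r * g⁻¹ ≠ r := by
      have key : ∀ r : Equiv.Perm (Fin 3), r ≠ 1 → r * r = 1 → ∃ g, g * r * g⁻¹ ≠ 1 ∧ g * r * g⁻¹ ≠ r := by
        decide
      refine key r hr1 ?_
      obtain ⟨k, hk⟩ := hN2 ⟨r, hr⟩
      have key2 : ∀ r : Equiv.Perm (Fin 3), r * r = 1 ∨ r ^ 3 = 1 := by decide
      refine (key2 r).resolve_right fun h3 => hr1 ?_
      have h4 : r ^ 2 ^ k = 1 := congrArg Subtype.val hk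
      have := pow_gcd_eq_one.2 ⟨h3, h4⟩
      rwa [Nat.Coprime.pow_right k (show Nat.Coprime 3 2 by decide), pow_one] at this
    have hNle : ∀ P : Subgroup (Equiv.Perm (Fin 3)), IsPGroup 2 P → Nat.card P ≤ 2 := by
      intro P hP
      obtain ⟨k, hk⟩ := IsPGroup.iff_card.1 hP
      have h6 : Nat.card P ∣ 6 := by
        have := Subgroup.card_subgroup_dvd_card P
        rwa [Nat.card_perm, Nat.card_fin] at this
      rcases Nat.lt_or_ge k 2 with hlt | hge
      · rw [hk]; interval_cases k <;> decide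
      · exact absurd ((pow_dvd_pow 2 hge).trans (hk ▸ h6)) (by decide)
    have h3 : Nat.card (Fin 3) ≤ Nat.card N := by
      refine Nat.card_le_card_of_injective ![⟨1, N.one_mem⟩, ⟨r, hr⟩, ⟨g * r * g⁻¹, hNn.conj_mem r hr g⟩] ?_
      intro i j hij
      fin_cases i <;> fin_cases j <;>
        simp [Subtype.ext_iff, hr1, Ne.symm hr1, hg.1, hg.2, Ne.symm hg.1, Ne.symm hg.2] at hij ⊢
    rw [Nat.card_fin] at h3
    exact absurd (h3.trans (hNle N hN2)) (by decide)
  have hc : Nat.card (CfsgLib.Even.pOf 2 X) = Nat.card f.ker := by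
    rw [CfsgLib.Even.pOf, card_map_of_injective X.subtype_injective, hp]
  have h6 : f.ker.index = 6 := by
    rw [Subgroup.index_ker, MonoidHom.range_eq_top.2 hf, Subgroup.card_top, Nat.card_perm, Nat.card_fin]
    decide
  have hcard := f.ker.card_mul_index
  rw [h6, h.card, ← hc] at hcard
  exact ⟨by omega, h.syl.le_of_normal (CfsgLib.Even.pOf_isPGroup X) (CfsgLib.Even.pOf_le X)
    (h.le.trans (CfsgLib.Even.le_normalizer_pOf X))⟩

theorem exists_odd (h : Par B X) : ∃ y ∈ X, orderOf y = 3 := by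
  haveI := Fact.mk Nat.prime_three
  obtain ⟨y, hy⟩ := exists_prime_orderOf_dvd_card' (G := ↥X) 3 (h.card ▸ dvd_mul_right 3 _)
  exact ⟨y, y.2, by rw [orderOf_coe]; exact hy⟩

theorem O2r_sup (h : Par B X) : O2r X ⊔ B = X := by
  refine eq_of_le_of_card_ge (sup_le (O2r_le X) h.le) (h.card ▸ ?_)
  obtain ⟨y, hy, hy3⟩ := h.exists_odd
  have h3 : 3 ∣ Nat.card ↥(O2r X ⊔ B : Subgroup G) := by
    rw [← hy3]
    exact Subgroup.orderOf_dvd_natCard _ (mem_sup_left (mem_O2r hy (by rw [hy3]; decide)))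
  refine Nat.le_of_dvd Nat.card_pos (Nat.Coprime.mul_dvd_of_dvd_of_dvd ?_ h3 (card_dvd_of_le le_sup_right))
  obtain ⟨k, hk⟩ := IsPGroup.iff_card.1 h.two
  rw [hk]
  exact Nat.Coprime.pow_right k (by decide)

theorem core_O2r_ne_bot (h : Par B X) : CfsgLib.Even.pOf 2 (O2r X) ≠ ⊥ := by
  haveI := Fact.mk Nat.prime_two
  intro hbot
  obtain ⟨y, hy, hy3⟩ := h.exists_odd
  have ho : Odd (orderOf y) := by rw [hy3]; decide
  have hyX := mem_O2r hy ho
  have hnO : X ≤ normalizer (O2r X : Set G) :=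
    le_normalizer.trans (normalizer_le_normalizer_O2r X)
  have hle : CfsgLib.Even.pOf 2 X ⊓ O2r X ≤ CfsgLib.Even.pOf 2 (O2r X) :=
    CfsgLib.Even.le_pOf inf_le_right
      ((O2r_le X).trans ((le_inf (CfsgLib.Even.le_normalizer_pOf X) hnO).trans
        inf_normalizer_le_normalizer_inf)) ((CfsgLib.Even.pOf_isPGroup X).to_le inf_le_left)
  have h1 := h.charP y hy fun q hq => by
    have hc : q * y * q⁻¹ * y⁻¹ ∈ CfsgLib.Even.pOf 2 X ⊓ O2r X := by
      refine ⟨?_, (O2r X).mul_mem ((mem_normalizer_iff.1 (hnO (CfsgLib.Even.pOf_le X hq)) y).1 hyX)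
        ((O2r X).inv_mem hyX)⟩
      have h2 := (mem_normalizer_iff.1 (CfsgLib.Even.le_normalizer_pOf (p := 2) X hy) q⁻¹).1 (inv_mem hq)
      have h3 := mul_mem hq h2
      simpa [mul_assoc] using h3
    have h4 := hle hc
    rw [hbot, mem_bot, mul_inv_eq_one, mul_inv_eq_iff_eq_mul] at h4
    exact h4
  have h5 := odd_eq_one (CfsgLib.Even.pOf_isPGroup X) h1 ho
  rw [h5, orderOf_one] at hy3
  exact absurd hy3 (by decide)

theorem inf_eq (hX : Par B X) (hY : Par B Y) (hne : X ≠ Y) : X ⊓ Y = B := by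
  refine le_antisymm ?_ (le_inf hX.le hY.le)
  have h1 : Nat.card B ∣ Nat.card ↥(X ⊓ Y) := card_dvd_of_le (le_inf hX.le hY.le)
  have h2 : Nat.card ↥(X ⊓ Y) ∣ 3 * Nat.card B := hX.card ▸ card_dvd_of_le inf_le_left
  obtain ⟨d, hd⟩ := h1
  rw [hd, mul_comm 3] at h2
  rcases (Nat.dvd_prime Nat.prime_three).1 (Nat.dvd_of_mul_dvd_mul_left Nat.card_pos h2) with rfl | rfl
  · exact (eq_of_le_of_card_ge (le_inf hX.le hY.le) (by omega)).ge
  · exfalso
    have hX' : X ⊓ Y = X := eq_of_le_of_card_ge inf_le_left (by rw [hX.card]; omega)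
    exact hne (eq_of_le_of_card_ge (inf_eq_left.1 hX') (by rw [hX.card, hY.card]))

theorem map (h : Par B X) {g : G} (hg : g ∈ normalizer (B : Set G)) :
    Par B (X.map (MulAut.conj g).toMonoidHom) := by
  haveI := Fact.mk Nat.prime_two
  set c := (MulAut.conj g).toMonoidHom with hc
  have hinj : Function.Injective c := conj_injective g
  have hB : B.map c = B := map_conj_of_mem hg
  have hcs : ∀ y, y ∈ Oz B → g⁻¹ * y * g ∈ Oz B := fun y hy => by
    have hgi := inv_mem hg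
    obtain ⟨h1, h2, h3⟩ := mem_Oz.1 hy
    refine mem_Oz.2 ⟨by simpa using (mem_normalizer_iff.1 hgi y).1 h1, fun s hs => ?_, ?_⟩
    · have h4 := h2 _ ((mem_normalizer_iff.1 hg s).1 hs)
      have h5 := congrArg (fun t => g⁻¹ * t * g) h4
      simpa [mul_assoc] using h5
    · calc g⁻¹ * y * g * (g⁻¹ * y * g) = g⁻¹ * (y * y) * g := by group
        _ = 1 := by rw [h3]; group
  let e : ↥X ≃* ↥(X.map c) := X.equivMapOfInjective c hinj
  refine ⟨hB ▸ Subgroup.map_mono h.le, h.two, by rw [card_map_of_injective hinj, h.card], ?_, ?_, ?_, ?_⟩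
  · obtain ⟨f, hf, hker⟩ := h.hom
    refine ⟨f.comp e.symm.toMonoidHom, hf.comp e.symm.surjective, ?_⟩
    rw [← MonoidHom.comap_ker]
    exact hker.comap_of_injective _ e.symm.injective
  · intro y hy hcy
    obtain ⟨x, hx, rfl⟩ := hy
    have hmap : ∀ q ∈ CfsgLib.Even.pOf 2 X, c q ∈ CfsgLib.Even.pOf 2 (X.map c) := fun q hq =>
      CfsgLib.Even.le_pOf (Subgroup.map_mono (CfsgLib.Even.pOf_le X))
        ((Subgroup.map_mono (CfsgLib.Even.le_normalizer_pOf X)).trans (le_normalizer_map c))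
        ((CfsgLib.Even.pOf_isPGroup X).map c) (mem_map_of_mem c hq)
    refine hmap x (h.charP x hx fun q hq => hinj ?_)
    rw [map_mul, map_mul]
    exact hcy _ (hmap q hq)
  · intro hle
    refine h.notcent fun x hx => mem_centralizer_iff.2 fun z hz => ?_
    have h1 := mem_centralizer_iff.1 (hle (mem_map_of_mem c hx)) (g * z * g⁻¹) (by
      obtain ⟨z1, z2, z3⟩ := mem_Oz.1 hz
      refine mem_Oz.2 ⟨(mem_normalizer_iff.1 hg z).1 z1, fun s hs => ?_, ?_⟩
      · have hs' : g⁻¹ * s * g ∈ B := by simpa using (mem_normalizer_iff.1 (inv_mem hg) s).1 hs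
        have h5 := congrArg (fun t => g * t * g⁻¹) (z2 _ hs')
        simpa [mul_assoc] using h5
      · calc g * z * g⁻¹ * (g * z * g⁻¹) = g * (z * z) * g⁻¹ := by group
          _ = 1 := by rw [z3]; group)
    exact hinj (by rw [map_mul, map_mul]; exact h1)
  · intro K hBK hK
    rw [map_le_iff_le_comap]
    refine h.gen _ (fun b hb => hBK (hB ▸ mem_map_of_mem c hb)) fun x hx => ?_
    have h1 := hK (mem_map_of_mem c hx)
    rw [mem_normalizer_iff] at h1 ⊢
    intro y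
    simp only [mem_comap, map_mul, map_inv]
    exact h1 (c y)

end Par

end fin

end CfsgLib.SmithN
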