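import Cfsg.Agent.S4302
import Cfsg.Agent.Lib.SmithN.Basic
import Cfsg.Agent.Lib.SmithN.Module
import Mathlib.GroupTheory.NoncommPiCoprod

/-!
The structure of a solvable group of characteristic 2 in which the centralizer of the centre of a Sylow
2-subgroup normalizes it: modulo the 2-core the normal closure of the Thompson subgroup is a product of
symmetric groups of degree three.
-/

set_option autoImplicit false
set_option linter.style.haveILetI false

open Cfsg

namespace CfsgLib.SmithN

open CfsgLib.FailFact CfsgLib.PLoc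

/-- A central extension by a group without involutions of a power of `S₃` which is generated by involutions
is trivial. -/
theorem injective_of_central {Q : Type*} [Group Q] [Finite Q] {n : ℕ} (f : Q →* (Fin n → Equiv.Perm (Fin 3)))
    (hf : Function.Surjective f) (hc : f.ker ≤ Subgroup.center Q) (hk : ∀ x ∈ f.ker, x * x = 1 → x = 1)
    (hgen : Subgroup.closure {x : Q | x * x = 1} = ⊤) : Function.Injective f := by
  classical
  have huniq : ∀ x y : Q, x * x = 1 → y * y = 1 → f x = f y → x = y := by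
    intro x y hx hy hxy
    have hker : x⁻¹ * y ∈ f.ker := by rw [MonoidHom.mem_ker, map_mul, map_inv, hxy, inv_mul_cancel]
    set k := x⁻¹ * y with hkdef
    have hkc : x * k = k * x := Subgroup.mem_center_iff.1 (hc hker) x
    have hy' : y = x * k := by rw [hkdef, mul_inv_cancel_left]
    have hk2 : k * k = 1 := by
      calc k * k = x * x * (k * k) := by rw [hx, one_mul]
        _ = x * (x * k) * k := by simp only [mul_assoc]
        _ = x * (k * x) * k := by rw [hkc]
        _ = (x * k) * (x * k) := by simp only [mul_assoc]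
        _ = 1 := by rw [← hy', hy]
    rw [hy', hk k hker hk2, mul_one]
  have hsq : ∀ z ∈ f.ker, ∃ w ∈ f.ker, w * w = z := by
    intro z hz
    let sq : f.ker → f.ker := fun w => w * w
    have hinj : Function.Injective sq := by
      intro a b hab
      have hab' : (a : Q) * a = (b : Q) * b := congrArg Subtype.val hab
      have hcm : Commute (a : Q) (b : Q)⁻¹ := (Subgroup.mem_center_iff.1 (hc (inv_mem b.2)) a)
      have h1 : ((a : Q) * (b : Q)⁻¹) * ((a : Q) * (b : Q)⁻¹) = 1 := by
        rw [Commute.mul_mul_mul_comm hcm.symm, hab', ← mul_inv_rev, mul_inv_cancel]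
      exact Subtype.ext (mul_inv_eq_one.1 (hk _ (mul_mem a.2 (inv_mem b.2)) h1))
    obtain ⟨w, hw⟩ := (Finite.injective_iff_surjective.1 hinj) ⟨z, hz⟩
    exact ⟨w, w.2, congrArg Subtype.val hw⟩
  have hlift : ∀ s : Fin n → Equiv.Perm (Fin 3), s * s = 1 → ∃ x : Q, x * x = 1 ∧ f x = s := by
    intro s hs
    obtain ⟨x, rfl⟩ := hf s
    obtain ⟨w, hw, hw2⟩ := hsq (x * x) (by rw [MonoidHom.mem_ker, map_mul, hs])
    refine ⟨x * w⁻¹, ?_, by rw [map_mul, map_inv, MonoidHom.mem_ker.1 hw, inv_one, mul_one]⟩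
    rw [Commute.mul_mul_mul_comm (show Commute w⁻¹ x from (Subgroup.mem_center_iff.1 (hc (inv_mem hw)) x).symm),
      ← hw2, ← mul_inv_rev, mul_inv_cancel]
  let D : Fin n → Subgroup Q := fun i => Subgroup.closure {x : Q | x * x = 1 ∧ ∀ k, k ≠ i → f x k = 1}
  have hDsupp : ∀ i, ∀ d ∈ D i, ∀ k, k ≠ i → f d k = 1 := by
    intro i d hd k hki
    refine Subgroup.closure_induction (fun x hx => hx.2 k hki) ?_ ?_ ?_ hd
    · rw [map_one]; rfl
    · intro a b _ _ ha hb; rw [map_mul, Pi.mul_apply, ha, hb, one_mul]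
    · intro a _ ha; rw [map_inv, Pi.inv_apply, ha, inv_one]
  have hcommD : Pairwise fun i j => ∀ x y : Q, x ∈ D i → y ∈ D j → Commute x y := by
    intro i j hij x y hx hy
    have h1 : D i ≤ Subgroup.centralizer (D j : Set Q) := by
      rw [Subgroup.le_centralizer_iff, Subgroup.closure_le]
      rintro b ⟨hb2, hb⟩
      rw [SetLike.mem_coe, Subgroup.mem_centralizer_iff]
      intro a ha
      refine Subgroup.closure_induction (p := fun a _ => a * b = b * a) ?_ (by rw [one_mul, mul_one]) ?_ ?_ ha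
      · rintro a ⟨ha2, ha⟩
        have h2 : f (a * b * a⁻¹) = f b := by
          funext k
          rw [map_mul, map_mul, map_inv, Pi.mul_apply, Pi.mul_apply, Pi.inv_apply]
          by_cases hki : k = i
          · rw [hb k (hki ▸ hij), mul_one, mul_inv_cancel]
          · rw [ha k hki, one_mul, inv_one, mul_one]
        have h3 : a * b * a⁻¹ * (a * b * a⁻¹) = 1 := by
          calc a * b * a⁻¹ * (a * b * a⁻¹) = a * (b * b) * a⁻¹ := by group
            _ = 1 := by rw [hb2, mul_one, mul_inv_cancel]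
        exact mul_inv_eq_iff_eq_mul.1 (huniq _ _ h3 hb2 h2)
      · intro a c _ _ ha hc'
        rw [mul_assoc, hc', ← mul_assoc, ha, mul_assoc]
      · intro a _ ha
        exact ((show Commute a b from ha).inv_left).eq
    exact (Subgroup.mem_centralizer_iff.1 (h1 hx) y hy).symm
  let φ : (∀ i, D i) →* Q := Subgroup.noncommPiCoprod hcommD
  have hfφ : ∀ (d : ∀ i, D i) (i : Fin n), f (φ d) i = f (d i : Q) i := by
    intro d i
    have h : (Pi.evalMonoidHom _ i).comp (f.comp φ) =
        ((Pi.evalMonoidHom _ i).comp f).comp ((D i).subtype.comp (Pi.evalMonoidHom (fun j => D j) i)) := by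
      refine MonoidHom.pi_ext fun j x => ?_
      show f (φ (Pi.mulSingle j x)) i = f ((Pi.mulSingle j x : ∀ k, D k) i : Q) i
      rw [Subgroup.noncommPiCoprod_mulSingle]
      by_cases hji : j = i
      · subst hji; rw [Pi.mulSingle_eq_same]
      · rw [Pi.mulSingle_eq_of_ne (Ne.symm hji), OneMemClass.coe_one, map_one, hDsupp j x x.2 i (Ne.symm hji)]
        rfl
    exact DFunLike.congr_fun h d
  have hDinj : ∀ i, ∀ d ∈ D i, f d i = 1 → d = 1 := by
    intro i
    have h01 : (Pi.mulSingle i (Equiv.swap 0 1) : Fin n → Equiv.Perm (Fin 3)) * Pi.mulSingle i (Equiv.swap 0 1) = 1 := by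
      rw [← Pi.mulSingle_mul, Equiv.swap_mul_self, Pi.mulSingle_one]
    have h12 : (Pi.mulSingle i (Equiv.swap 1 2) : Fin n → Equiv.Perm (Fin 3)) * Pi.mulSingle i (Equiv.swap 1 2) = 1 := by
      rw [← Pi.mulSingle_mul, Equiv.swap_mul_self, Pi.mulSingle_one]
    obtain ⟨a, ha, hfa⟩ := hlift _ h01
    obtain ⟨b, hb, hfb⟩ := hlift _ h12
    have haba : a * b * a * (a * b * a) = 1 := by
      calc a * b * a * (a * b * a) = a * b * (a * a) * b * a := by group
        _ = a * (b * b) * a := by rw [ha]; group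
        _ = 1 := by rw [hb, mul_one, ha]
    have hbab : b * a * b * (b * a * b) = 1 := by
      calc b * a * b * (b * a * b) = b * a * (b * b) * a * b := by group
        _ = b * (a * a) * b := by rw [hb]; group
        _ = 1 := by rw [ha, mul_one, hb]
    have heq : a * b * a = b * a * b := by
      refine huniq _ _ haba hbab ?_
      simp only [map_mul, hfa, hfb, ← Pi.mulSingle_mul]
      congr 1
      decide
    set E : Set Q := {1, a, b, a * b, b * a, a * b * a} with hE
    have hmulE : ∀ e ∈ E, a * e ∈ E ∧ b * e ∈ E := by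
      intro e he
      simp only [hE, Set.mem_insert_iff, Set.mem_singleton_iff] at he ⊢
      have e1 : ∀ x, a * (a * x) = x := fun x => by rw [← mul_assoc, ha, one_mul]
      have e2 : ∀ x, b * (b * x) = x := fun x => by rw [← mul_assoc, hb, one_mul]
      have e3 : b * (a * b) = a * (b * a) := by simp only [← mul_assoc]; exact heq.symm
      have e4 : b * (a * (b * a)) = a * b := by rw [← e3, e2]
      rcases he with rfl | rfl | rfl | rfl | rfl | rfl <;> simp only [mul_assoc] <;>
        simp [e1, e2, e3, e4, ha, hb]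
    have hDE : ∀ d ∈ D i, ∀ e ∈ E, d * e ∈ E ∧ d⁻¹ * e ∈ E := by
      intro d hd
      refine Subgroup.closure_induction (p := fun d _ => ∀ e ∈ E, d * e ∈ E ∧ d⁻¹ * e ∈ E) ?_ ?_ ?_ ?_ hd
      · rintro x ⟨hx2, hxs⟩ e he
        have hxi : x⁻¹ = x := inv_eq_of_mul_eq_one_right hx2
        have hcases : ∀ r : Equiv.Perm (Fin 3), r * r = 1 →
            r = 1 ∨ r = Equiv.swap 0 1 ∨ r = Equiv.swap 1 2 ∨ r = Equiv.swap 0 1 * Equiv.swap 1 2 * Equiv.swap 0 1 := by
          decide
        have hfx : f x = Pi.mulSingle i (f x i) := by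
          funext k
          by_cases hki : k = i
          · subst hki; rw [Pi.mulSingle_eq_same]
          · rw [Pi.mulSingle_eq_of_ne hki, hxs k hki]
        have hx4 : x = 1 ∨ x = a ∨ x = b ∨ x = a * b * a := by
          rcases hcases (f x i) (by rw [← Pi.mul_apply, ← map_mul, hx2, map_one]; rfl) with h | h | h | h
          · exact Or.inl (huniq _ _ hx2 (one_mul 1) (by rw [hfx, h, Pi.mulSingle_one, map_one]))
          · exact Or.inr (Or.inl (huniq _ _ hx2 ha (by rw [hfx, h, hfa])))
          · exact Or.inr (Or.inr (Or.inl (huniq _ _ hx2 hb (by rw [hfx, h, hfb]))))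
          · refine Or.inr (Or.inr (Or.inr (huniq _ _ hx2 haba ?_)))
            rw [hfx, h, map_mul, map_mul, hfa, hfb, ← Pi.mulSingle_mul, ← Pi.mulSingle_mul]
        rw [hxi]
        suffices h : x * e ∈ E from ⟨h, h⟩
        rcases hx4 with rfl | rfl | rfl | rfl
        · rwa [one_mul]
        · exact (hmulE e he).1
        · exact (hmulE e he).2
        · rw [mul_assoc, mul_assoc]
          exact (hmulE _ (hmulE _ (hmulE e he).1).2).1
      · intro e he
        rw [inv_one, one_mul]
        exact ⟨he, he⟩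
      · intro u v _ _ hu hv e he
        rw [mul_inv_rev, mul_assoc, mul_assoc]
        exact ⟨(hu _ (hv e he).1).1, (hv _ (hu e he).2).2⟩
      · intro u _ hu e he
        rw [inv_inv]
        exact (hu e he).symm
    intro d hd hd1
    have hdE := (hDE d hd 1 (by simp [hE])).1
    rw [mul_one] at hdE
    simp only [hE, Set.mem_insert_iff, Set.mem_singleton_iff] at hdE
    rcases hdE with rfl | rfl | rfl | rfl | rfl | rfl
    · rfl
    all_goals
      exfalso
      simp only [map_mul, hfa, hfb, Pi.mul_apply, Pi.mulSingle_eq_same] at hd1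
      revert hd1
      decide
  have hinvol : ∀ x : Q, x * x = 1 → x ∈ φ.range := by
    intro x hx
    have hy : ∀ i, ∃ y : Q, y * y = 1 ∧ f y = Pi.mulSingle i (f x i) := fun i => hlift _ (by
      rw [← Pi.mulSingle_mul, ← Pi.mul_apply, ← map_mul, hx, map_one, Pi.one_apply, Pi.mulSingle_one])
    choose y hy2 hfy using hy
    have hyD : ∀ i, y i ∈ D i := fun i => Subgroup.subset_closure
      ⟨hy2 i, fun k hk => by rw [hfy, Pi.mulSingle_eq_of_ne hk]⟩
    refine ⟨fun i => ⟨y i, hyD i⟩, huniq _ _ ?_ hx ?_⟩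
    · rw [← map_mul]
      convert map_one φ
      funext i
      exact Subtype.ext (hy2 i)
    · funext i
      rw [hfφ, hfy, Pi.mulSingle_eq_same]
  rw [injective_iff_map_eq_one]
  intro q hq
  obtain ⟨d, rfl⟩ : q ∈ φ.range := by
    have h : Subgroup.closure {x : Q | x * x = 1} ≤ φ.range := (Subgroup.closure_le _).2 fun x hx => hinvol x hx
    exact h (hgen ▸ Subgroup.mem_top q)
  suffices h : d = 1 by rw [h, map_one]
  funext i
  refine Subtype.ext (hDinj i _ (d i).2 ?_)
  rw [← hfφ, hq]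
  rfl

/-- The structure modulo the 2-core. -/
theorem local_core {X : Type*} [Group X] [Finite X] [Group.IsSolvable X]
    (hF : Cfsg.fittingSubgroup X = Cfsg.pCore 2 X) (T : Sylow 2 X)
    (hZ : Subgroup.centralizer (((T : Subgroup X) ⊓ Subgroup.centralizer ((T : Subgroup X) : Set X) : Subgroup X) : Set X)
      ≤ Subgroup.normalizer ((T : Subgroup X) : Set X)) :
    ∃ (n : ℕ) (Y0 : Subgroup X) (p0 : ↥Y0 →* (Fin n → Equiv.Perm (Fin 3))),
      Y0.Normal ∧ Cfsg.pCore 2 X ≤ Y0 ∧ joinMaxAb 0 (T : Subgroup X) ≤ Y0 ∧ Function.Surjective p0 ∧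
      p0.ker.map Y0.subtype = Cfsg.pCore 2 X ∧
      (∀ i, ∃ j : ↥Y0, (j : X) ∈ joinMaxAb 0 (T : Subgroup X) ∧ p0 j i ≠ 1 ∧ ∀ k, k ≠ i → p0 j k = 1) ∧
      Bm (T : Subgroup X) ≤ joinMaxAb 0 (T : Subgroup X) ⊔ Cfsg.pCore 2 X ∧
      Subgroup.normalizer ((T : Subgroup X) : Set X) ⊔ Y0 ⊔
        Subgroup.normalizer (joinMaxAb 0 (T : Subgroup X) : Set X) = ⊤ := by
  classical
  haveI := Fact.mk Nat.prime_two
  haveI hFn := CfsgLib.Solvable.fittingSubgroup_normal X
  set Z0 : Subgroup X := (T : Subgroup X) ⊓ Subgroup.centralizer ((T : Subgroup X) : Set X) with hZ0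
  set C := (Subgroup.centralizer (Z0 : Set X)).normalCore with hC
  set J := Cfsg.thompsonSubgroupAOf (T : Subgroup X) with hJ
  set Y := Subgroup.normalClosure (J : Set X) with hY
  haveI hCn : C.Normal := Subgroup.normalCore_normal _
  have hFT : Cfsg.fittingSubgroup X ≤ (T : Subgroup X) := hF ▸ CfsgLib.Solvable.pCore_le_sylow T
  -- maximal abelian subgroups
  set MA := Cfsg.maxAbelianSubgroups (T : Subgroup X) with hMA
  have hAJ : ∀ A ∈ MA, A.map (T : Subgroup X).subtype ≤ J := fun A hA =>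
    Subgroup.map_mono (le_sSup hA)
  have hmax : ∀ (B : Subgroup X), B ≤ (T : Subgroup X) → (∀ a ∈ B, ∀ b ∈ B, a * b = b * a) →
      ∀ A ∈ MA, Nat.card B ≤ Nat.card A := by
    intro B hBT hBc A hA
    rw [← Nat.card_congr (Subgroup.subgroupOfEquivOfLe hBT).toEquiv]
    exact hA.2 _ ⟨⟨fun a b => Subtype.ext (Subtype.ext (hBc _ a.2 _ b.2))⟩⟩
  haveI hYn : Y.Normal := Subgroup.normalClosure_normal
  have hJ0 : J = joinMaxAb 0 (T : Subgroup X) := joinMaxAb_zero _
  have hfrat : C ⊔ Y ⊔ Subgroup.normalizer (J : Set X) = ⊤ := (Cfsg.Agent.S4302.result hF T).1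
  -- the module
  set F := Cfsg.fittingSubgroup X with hFdef
  have hZ0F : Z0 ≤ F := fun z hz => CfsgLib.Solvable.centralizer_fittingSubgroup_le
    (Subgroup.mem_centralizer_iff.2 fun f hf => Subgroup.mem_centralizer_iff.1 hz.2 f (hFT hf))
  set V0 := Subgroup.normalClosure (Z0 : Set X) with hV0
  haveI hV0n : V0.Normal := Subgroup.normalClosure_normal
  have hV0Z : V0 ≤ F ⊓ Subgroup.centralizer (F : Set X) := Subgroup.normalClosure_le_normal fun z hz =>
    ⟨hZ0F hz, Subgroup.mem_centralizer_iff.2 fun f hf => Subgroup.mem_centralizer_iff.1 hz.2 f (hFT hf)⟩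
  have hV0c : ∀ a ∈ V0, ∀ b ∈ V0, a * b = b * a := fun a ha b hb =>
    (Subgroup.mem_centralizer_iff.1 (hV0Z ha).2 b (hV0Z hb).1).symm
  let V : Subgroup X :=
    { carrier := {v | v ∈ V0 ∧ v ^ 2 = 1}
      one_mem' := ⟨V0.one_mem, one_pow 2⟩
      mul_mem' := fun {a b} ha hb => ⟨V0.mul_mem ha.1 hb.1, by
        rw [(show Commute a b from hV0c a ha.1 b hb.1).mul_pow, ha.2, hb.2, one_mul]⟩
      inv_mem' := fun {a} ha => ⟨V0.inv_mem ha.1, by rw [inv_pow, ha.2, inv_one]⟩ }
  haveI hVn : V.Normal := ⟨fun v hv g => ⟨hV0n.conj_mem v hv.1 g, by rw [conj_pow, hv.2, mul_one, mul_inv_cancel]⟩⟩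
  have hVT : V ≤ (T : Subgroup X) := fun v hv => hFT (hV0Z hv.1).1
  have hCV0 : C = Subgroup.centralizer (V0 : Set X) := by
    apply le_antisymm
    · rw [Subgroup.le_centralizer_iff]
      refine Subgroup.normalClosure_le_normal fun z hz => ?_
      exact Subgroup.mem_centralizer_iff.2 fun c hc =>
        (Subgroup.mem_centralizer_iff.1 (Subgroup.normalCore_le _ hc) z hz).symm
    · exact Subgroup.normal_le_normalCore.2 (Subgroup.centralizer_le fun z hz => Subgroup.subset_normalClosure hz)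
  have hsplit : ∀ (g : X), ∃ k : ℕ, Odd (orderOf (g ^ 2 ^ k)) := by
    intro g
    obtain ⟨k, m, hm, hk⟩ := Nat.exists_eq_two_pow_mul_odd (orderOf_pos g).ne'
    refine ⟨k, ?_⟩
    rw [orderOf_pow_of_dvd (pow_ne_zero _ (by norm_num)) ⟨m, hk⟩, hk, Nat.mul_div_cancel_left _ (by positivity)]
    exact hm
  have hT2 : IsPGroup 2 (T : Subgroup X) := T.2
  -- two-groups modulo `C`
  have hR : ∀ R : Subgroup X, R.Normal → C ≤ R → (∀ g ∈ R, ∃ k : ℕ, g ^ 2 ^ k ∈ C) → R ≤ C := by
    intro R hRn hCR hR2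
    refine Subgroup.normal_le_normalCore.2 ?_
    obtain ⟨P, hP⟩ := Cfsg.Agent.S4302.exists_sylow_map_eq_inf T R
    set W := Subgroup.centralizer (Z0 : Set X)
    have hPW : (P : Subgroup R).map R.subtype ≤ W := by
      rw [hP]
      exact fun x hx => Subgroup.mem_centralizer_iff.2 fun z hz =>
        (Subgroup.mem_centralizer_iff.1 hz.2 x hx.1).symm
    have htop : W.subgroupOf R = ⊤ := by
      rw [← Subgroup.index_eq_one]
      have h2 : ¬ 2 ∣ (W.subgroupOf R).index := fun h => P.not_dvd_index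
        (h.trans (Subgroup.index_dvd_of_le fun x hx => hPW ⟨x, hx, rfl⟩))
      set CR := C.subgroupOf R with hCRdef
      have h3 : ∃ j, CR.index = 2 ^ j := by
        have hq : IsPGroup 2 (R ⧸ CR) := by
          intro x
          obtain ⟨g, rfl⟩ := QuotientGroup.mk_surjective x
          obtain ⟨k, hk⟩ := hR2 g g.2
          refine ⟨k, ?_⟩
          rw [← QuotientGroup.mk_pow, QuotientGroup.eq_one_iff]
          exact hk
        exact IsPGroup.iff_card.1 hq
      obtain ⟨j, hj⟩ := h3
      have h4 : (W.subgroupOf R).index ∣ 2 ^ j := hj ▸ Subgroup.index_dvd_of_le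
        (fun x hx => (Subgroup.normalCore_le W hx : (x : X) ∈ W))
      obtain ⟨i, -, hi⟩ := (Nat.dvd_prime_pow Nat.prime_two).1 h4
      rcases Nat.eq_zero_or_pos i with rfl | hi0
      · exact hi
      · exact absurd (hi ▸ dvd_pow_self 2 hi0.ne') h2
    exact Subgroup.subgroupOf_eq_top.1 htop
  have hCV : Subgroup.centralizer (V : Set X) = C := by
    apply le_antisymm
    · refine hR _ inferInstance ?_ fun g hg => ?_
      · rw [hCV0]; exact Subgroup.centralizer_le fun v hv => hv.1
      · obtain ⟨k, hk⟩ := hsplit g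
        refine ⟨k, ?_⟩
        set h := g ^ 2 ^ k with hh
        have hhV : h ∈ Subgroup.centralizer (V : Set X) := Subgroup.pow_mem _ hg _
        rw [hCV0, Subgroup.mem_centralizer_iff]
        have key : ∀ j : ℕ, ∀ v ∈ V0, v ^ 2 ^ j = 1 → v * h = h * v := by
          intro j
          induction j with
          | zero => intro v _ hv1; rw [pow_zero, pow_one] at hv1; rw [hv1, one_mul, mul_one]
          | succ j ih =>
            intro v hv hv1
            have h1 := ih (v ^ 2) (V0.pow_mem hv 2) (by rw [← pow_mul, ← pow_succ', hv1])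
            set u := v⁻¹ * (h * v * h⁻¹) with hu
            have hu0 : u ∈ V0 := V0.mul_mem (V0.inv_mem hv) (hV0n.conj_mem v hv h)
            have hu2 : u ^ 2 = 1 := by
              rw [hu, (show Commute v⁻¹ (h * v * h⁻¹) from hV0c _ (V0.inv_mem hv) _ (hV0n.conj_mem v hv h)).mul_pow,
                conj_pow, ← h1]
              group
            have hhu : u * h = h * u := Subgroup.mem_centralizer_iff.1 hhV u ⟨hu0, hu2⟩
            have hi : ∀ i : ℕ, h ^ i * v * (h ^ i)⁻¹ = v * u ^ i := by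
              intro i
              induction i with
              | zero => simp
              | succ i ihi =>
                calc h ^ (i + 1) * v * (h ^ (i + 1))⁻¹ = h * (h ^ i * v * (h ^ i)⁻¹) * h⁻¹ := by
                      rw [pow_succ']; group
                  _ = (h * v * h⁻¹) * (h * u ^ i * h⁻¹) := by rw [ihi]; group
                  _ = v * u * u ^ i := by
                      rw [((show Commute h u from hhu.symm).pow_right i).eq, mul_inv_cancel_right, hu,
                        mul_inv_cancel_left]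
                  _ = v * u ^ (i + 1) := by rw [pow_succ', mul_assoc]
            have h2 := hi (orderOf h)
            obtain ⟨m, hm⟩ := hk
            rw [pow_orderOf_eq_one, one_mul, inv_one, mul_one, hm, pow_succ, pow_mul, hu2, one_pow, one_mul,
              left_eq_mul] at h2
            rw [hu, inv_mul_eq_one, eq_mul_inv_iff_mul_eq] at h2
            exact h2
        intro v hv
        obtain ⟨j, hj⟩ := hT2 ⟨v, hFT (hV0Z hv).1⟩
        exact key j v hv (congrArg Subtype.val hj)
    · rw [hCV0]; exact Subgroup.centralizer_le fun v hv => hv.1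
  -- the representation
  letI : CommGroup V := { (inferInstance : Group V) with
    mul_comm := fun a b => Subtype.ext (hV0c a a.2.1 b b.2.1) }
  haveI : Module (ZMod 2) (Additive V) := AddCommGroup.zmodModule fun x => by
    apply Additive.toMul.injective
    rw [toMul_nsmul, toMul_zero]
    exact Subtype.ext x.toMul.2.2
  haveI : Finite (Additive V) := inferInstanceAs (Finite V)
  let f0 : X → Module.End (ZMod 2) (Additive V) := fun g =>
    (MonoidHom.toAdditive (MulAut.conjNormal (H := V) g).toMonoidHom).toZModLinearMap 2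
  have hf1 : f0 1 = 1 := by
    apply LinearMap.ext; intro v
    apply Additive.toMul.injective
    show MulAut.conjNormal (H := V) (1 : X) v.toMul = v.toMul
    rw [map_one]; rfl
  have hfm : ∀ g h : X, f0 (g * h) = f0 g * f0 h := fun g h => by
    apply LinearMap.ext; intro v
    apply Additive.toMul.injective
    show MulAut.conjNormal (H := V) (g * h) v.toMul = MulAut.conjNormal g (MulAut.conjNormal h v.toMul)
    rw [map_mul]; rfl
  let ρ0 : X →* Module.End (ZMod 2) (Additive V) := { toFun := f0, map_one' := hf1, map_mul' := hfm }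
  have hρ0 : ∀ (g : X) (v : Additive V), ρ0 g v = v ↔ g * ((v.toMul : V) : X) = (v.toMul : V) * g := by
    intro g v
    rw [← Additive.toMul.injective.eq_iff, Subtype.ext_iff,
      show (((ρ0 g v).toMul : V) : X) = g * (v.toMul : V) * g⁻¹ from MulAut.conjNormal_apply g v.toMul,
      mul_inv_eq_iff_eq_mul]
  have hone : ∀ g, ρ0 g = 1 ↔ g ∈ C := by
    intro g
    rw [← hCV, Subgroup.mem_centralizer_iff]
    constructor
    · intro h v hv
      exact ((hρ0 g (Additive.ofMul ⟨v, hv⟩)).1 (by rw [h]; rfl)).symm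
    · intro h
      exact LinearMap.ext fun v => (hρ0 g v).2 (h _ v.toMul.2).symm
  set π := QuotientGroup.mk' C with hπ
  have hπs : Function.Surjective π := QuotientGroup.mk'_surjective C
  have hker : π.ker = C := QuotientGroup.ker_mk' C
  let ρ : Representation (ZMod 2) (X ⧸ C) (Additive V) := QuotientGroup.lift C ρ0 fun g hg => (hone g).2 hg
  have hρ : Function.Injective ρ := by
    intro a b h
    obtain ⟨a, rfl⟩ := hπs a
    obtain ⟨b, rfl⟩ := hπs b
    have h' : ρ0 a = ρ0 b := h
    show QuotientGroup.mk' C a = QuotientGroup.mk' C b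
    rw [QuotientGroup.mk'_apply, QuotientGroup.mk'_apply, QuotientGroup.eq, ← hone, map_mul, ← h', ← map_mul,
      inv_mul_cancel, map_one]
  haveI : Group.IsSolvable (X ⧸ C) := Group.isSolvable_of_surjective hπs
  have hO2 : Cfsg.pCore 2 (X ⧸ C) = ⊥ := by
    haveI := CfsgLib.Solvable.pCore_normal 2 (X ⧸ C)
    set R := (Cfsg.pCore 2 (X ⧸ C)).comap π with hRdef
    have hle : R ≤ C := hR R (Subgroup.Normal.comap inferInstance π)
      (fun c hc => by
        rw [hRdef, Subgroup.mem_comap, show π c = 1 from (QuotientGroup.eq_one_iff c).2 hc]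
        exact one_mem _)
      fun g hg => by
        obtain ⟨k, hk⟩ := (CfsgLib.Solvable.pCore_isPGroup 2 (X ⧸ C)) ⟨π g, hg⟩
        exact ⟨k, (QuotientGroup.eq_one_iff _).1 (congrArg Subtype.val hk)⟩
    rw [← Subgroup.map_comap_eq_self_of_surjective hπs (Cfsg.pCore 2 (X ⧸ C)), eq_bot_iff, ← hRdef]
    rintro _ ⟨x, hx, rfl⟩
    exact Subgroup.mem_bot.2 ((QuotientGroup.eq_one_iff x).2 (hle hx))
  -- the offenders
  have hoff : ∀ A ∈ MA, (A.map (T : Subgroup X).subtype).map π ≤
      Subgroup.closure {d | d ∈ (A.map (T : Subgroup X).subtype).map π ∧ IsTv ρ d} := by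
    intro A hA
    set A' := A.map (T : Subgroup X).subtype with hA'
    have hA'T : A' ≤ (T : Subgroup X) := Subgroup.map_subtype_le _
    have hA'c : ∀ a ∈ A', ∀ b ∈ A', a * b = b * a := by
      rintro _ ⟨a, ha, rfl⟩ _ ⟨b, hb, rfl⟩
      rw [← map_mul, ← map_mul]
      exact congrArg _ (congrArg Subtype.val (hA.1.is_comm.comm ⟨a, ha⟩ ⟨b, hb⟩))
    have hA'card : Nat.card A' = Nat.card A := Subgroup.card_map_of_injective Subtype.coe_injective
    refine offender_le_closure ρ hρ hO2 ((hT2.to_le hA'T).map π) ?_ ?_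
    · rintro _ ⟨a, ha, rfl⟩ _ ⟨b, hb, rfl⟩
      rw [← map_mul, ← map_mul, hA'c a ha b hb]
    intro B hB
    have hfix : ∀ B0 : Subgroup X, Nat.card (fixSub ρ (B0.map π)) =
        Nat.card (V ⊓ Subgroup.centralizer (B0 : Set X) : Subgroup X) := by
      intro B0
      refine Nat.card_congr
        { toFun := fun z => ⟨((z : Additive V).toMul : V), ((z : Additive V).toMul).2,
            Subgroup.mem_centralizer_iff.2 fun b hb => (hρ0 b _).1 (z.2 (π b) ⟨b, hb, rfl⟩)⟩
          invFun := fun x => ⟨Additive.ofMul ⟨(x : X), x.2.1⟩, ?_⟩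
          left_inv := fun z => rfl
          right_inv := fun x => rfl }
      rintro _ ⟨b, hb, rfl⟩
      exact (hρ0 b _).2 (Subgroup.mem_centralizer_iff.1 x.2.2 b hb)
    set B0 := A' ⊓ B.comap π with hB0
    have hB0map : B0.map π = B := by
      refine le_antisymm ((Subgroup.map_mono inf_le_right).trans (Subgroup.map_comap_le _ _)) fun x hx => ?_
      obtain ⟨a, ha, rfl⟩ := hB hx
      exact ⟨a, ⟨ha, hx⟩, rfl⟩
    have hCB : A' ⊓ π.ker ≤ B0 := fun x hx => ⟨hx.1, by
      show π x ∈ B
      rw [MonoidHom.mem_ker.1 hx.2]; exact one_mem _⟩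
    have hkerB : B0 ⊓ π.ker = A' ⊓ π.ker :=
      le_antisymm (inf_le_inf_right _ inf_le_left) (le_inf hCB inf_le_right)
    set U := V ⊓ Subgroup.centralizer (B0 : Set X) with hU
    have hnorm : B0 ≤ Subgroup.normalizer (U : Set X) :=
      (Subgroup.le_centralizer_iff.1 inf_le_right : B0 ≤ Subgroup.centralizer (U : Set X)).trans
        (Subgroup.centralizer_le_normalizer _)
    have h1 := CfsgLib.PLoc.card_sup_mul_card_inf hnorm
    have hUU : U ≤ Subgroup.centralizer (U : Set X) := fun u hu =>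
      Subgroup.mem_centralizer_iff.2 fun u' hu' => hV0c u' hu'.1.1 u hu.1.1
    have hBB : B0 ≤ Subgroup.centralizer (B0 : Set X) := fun b hb =>
      Subgroup.mem_centralizer_iff.2 fun b' hb' => hA'c b' hb'.1 b hb.1
    have hS : B0 ⊔ U ≤ Subgroup.centralizer ((B0 ⊔ U : Subgroup X) : Set X) := by
      refine sup_le ?_ ?_ <;> rw [Subgroup.le_centralizer_iff] <;> refine sup_le ?_ ?_
      · exact hBB
      · exact inf_le_right
      · exact Subgroup.le_centralizer_iff.1 inf_le_right
      · exact hUU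
    have h2 := hmax (B0 ⊔ U) (sup_le (inf_le_left.trans hA'T) (inf_le_left.trans hVT))
      (fun a ha b hb => Subgroup.mem_centralizer_iff.1 (hS hb) a ha) A hA
    rw [← hA'card] at h2
    have h3 : Nat.card ↥(B0 ⊓ U) ≤ Nat.card ↥(V ⊓ Subgroup.centralizer (A' : Set X)) :=
      Subgroup.card_le_of_le fun x hx => ⟨hx.2.1, Subgroup.mem_centralizer_iff.2 fun a ha => hA'c a ha x hx.1.1⟩
    have h4 : Nat.card B0 * Nat.card U ≤ Nat.card A' * Nat.card ↥(V ⊓ Subgroup.centralizer (A' : Set X)) := by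
      rw [← h1]; exact Nat.mul_le_mul h2 h3
    rw [← Cfsg.Agent.S4302.card_map_mul_card_inf π B0, ← Cfsg.Agent.S4302.card_map_mul_card_inf π A', hkerB] at h4
    refine Nat.le_of_mul_le_mul_right (c := Nat.card ↥(A' ⊓ π.ker)) ?_ Nat.card_pos
    unfold meas
    rw [← hB0map, hfix B0, hfix A']
    calc _ = Nat.card ↥(B0.map π) * Nat.card ↥(A' ⊓ π.ker) * Nat.card U := by ring
      _ ≤ _ := h4
      _ = _ := by ring
  -- the structure of the transvection group
  set Jm := J.map π with hJm
  have hJ2 : IsPGroup 2 Jm := (hT2.to_le (Subgroup.map_subtype_le _)).map π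
  have hJgen : Jm ≤ Subgroup.closure {d | d ∈ Jm ∧ IsTv ρ d} := by
    rw [hJm, hJ, Cfsg.thompsonSubgroupAOf, Subgroup.map_map, Subgroup.map_le_iff_le_comap,
      Cfsg.thompsonSubgroupA]
    refine sSup_le fun A hA => ?_
    rw [← Subgroup.map_le_iff_le_comap, ← Subgroup.map_map]
    refine (hoff A hA).trans (Subgroup.closure_mono fun d hd => ⟨?_, hd.2⟩)
    have := Subgroup.map_mono (f := π) (hAJ A hA) hd.1
    rwa [hJ, Cfsg.thompsonSubgroupAOf, Subgroup.map_map] at this
  set D : Set (X ⧸ C) := {d | ∃ g : X ⧸ C, ∃ d0 ∈ Jm, IsTv ρ d0 ∧ d = g * d0 * g⁻¹} with hD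
  have hYD : Y.map π = Subgroup.closure D := by
    apply le_antisymm
    · rw [Subgroup.map_le_iff_le_comap]
      haveI : (Subgroup.closure D).Normal := by
        refine ⟨fun x hx g => ?_⟩
        have hle : Subgroup.closure D ≤ (Subgroup.closure D).comap (MulAut.conj g).toMonoidHom := by
          rw [Subgroup.closure_le]
          rintro _ ⟨h, d0, hd0, htv, rfl⟩
          exact Subgroup.subset_closure ⟨g * h, d0, hd0, htv, by simp [mul_assoc]⟩
        exact hle hx
      refine Subgroup.normalClosure_le_normal fun j hj => ?_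
      have h0 : Jm ≤ Subgroup.closure D := hJgen.trans (Subgroup.closure_mono fun d hd =>
        ⟨1, d, hd.1, hd.2, by rw [one_mul, inv_one, mul_one]⟩)
      exact h0 (Subgroup.mem_map_of_mem π hj)
    · rw [Subgroup.closure_le]
      rintro _ ⟨h, _, ⟨j, hj, rfl⟩, -, rfl⟩
      exact (hYn.map π hπs).conj_mem _ ⟨j, Subgroup.subset_normalClosure hj, rfl⟩ h
  have hXl : ∀ g : X ⧸ C, ∃ l ∈ Subgroup.closure D, ∃ m ∈ Subgroup.normalizer (Jm : Set (X ⧸ C)), g = l * m := by
    intro g
    obtain ⟨g, rfl⟩ := hπs g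
    obtain ⟨a, ha, m, hm, rfl⟩ := Subgroup.mem_sup_of_normal_left.1
      (hfrat ▸ Subgroup.mem_top g : g ∈ (C ⊔ Y) ⊔ Subgroup.normalizer (J : Set X))
    obtain ⟨c, hc, y, hy, rfl⟩ := Subgroup.mem_sup_of_normal_left.1 ha
    refine ⟨π y, hYD ▸ Subgroup.mem_map_of_mem π hy, π m,
      Subgroup.le_normalizer_map π (Subgroup.mem_map_of_mem π hm), ?_⟩
    rw [map_mul, map_mul, show π c = 1 from (QuotientGroup.eq_one_iff c).2 hc, one_mul]
  obtain ⟨hJD, n, e, he, hfix⟩ := offender_structure hρ hO2 Jm hJ2 hJgen D hD hXl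
  -- the kernel
  haveI hRn := CfsgLib.Solvable.pCore_normal 2 X
  set R := Cfsg.pCore 2 X with hRdef
  have hCT : C ≤ Subgroup.normalizer ((T : Subgroup X) : Set X) := (Subgroup.normalCore_le _).trans hZ
  have hRT : R ≤ (T : Subgroup X) := CfsgLib.Solvable.pCore_le_sylow T
  have hRC : R ≤ C := Subgroup.normal_le_normalCore.2 fun r hr => Subgroup.mem_centralizer_iff.2 fun z hz =>
    (Subgroup.mem_centralizer_iff.1 hz.2 r (hRT hr)).symm
  have huniq : ∀ P : Subgroup X, IsPGroup 2 P → P ≤ C → P ≤ (T : Subgroup X) := fun P hP hPC x hx => by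
    have h1 := hP.inf_normalizer_sylow T
    exact (h1.le ⟨hx, hCT (hPC hx)⟩).2
  have hTCn : ((T : Subgroup X) ⊓ C).Normal := Subgroup.normalizer_eq_top_iff.1 (eq_top_iff.2 fun g _ =>
    map_conj_inf_le hT2 huniq (by rw [Subgroup.normalizer_eq_top]; exact Subgroup.mem_top g))
  have hTC : (T : Subgroup X) ⊓ C ≤ R := CfsgLib.Solvable.le_pCore hTCn (hT2.to_le inf_le_left)
  set Y0 := R ⊔ Y with hY0
  haveI hY0n : Y0.Normal := inferInstance
  have hY0map : Y0.map π = Subgroup.closure D := by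
    rw [hY0, Subgroup.map_sup, hYD, (Subgroup.map_eq_bot_iff R).2 (hker.symm ▸ hRC), bot_sup_eq]
  let pq : ↥Y0 →* ↥(Subgroup.closure D) :=
    (π.comp Y0.subtype).codRestrict _ fun y => hY0map ▸ Subgroup.mem_map_of_mem π y.2
  have hpq : Function.Surjective pq := fun d => by
    obtain ⟨y, hy, hy'⟩ := (hY0map.symm ▸ d.2 : (d : X ⧸ C) ∈ Y0.map π)
    exact ⟨⟨y, hy⟩, Subtype.ext hy'⟩
  let p0 : ↥Y0 →* (Fin n → Equiv.Perm (Fin 3)) := e.toMonoidHom.comp pq
  have hp0s : Function.Surjective p0 := e.surjective.comp hpq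
  have hp0k : ∀ y : ↥Y0, p0 y = 1 ↔ (y : X) ∈ C := by
    intro y
    show e (pq y) = 1 ↔ _
    rw [map_eq_one_iff e e.injective, Subtype.ext_iff]
    exact QuotientGroup.eq_one_iff (y : X)
  have hlift : ∀ i, ∃ j : ↥Y0, (j : X) ∈ J ∧ p0 j i ≠ 1 ∧ ∀ k, k ≠ i → p0 j k = 1 := by
    intro i
    obtain ⟨d, ⟨j, hj, hjd⟩, h1, h2⟩ := he i
    have heq : pq ⟨j, Subgroup.mem_sup_right (Subgroup.subset_normalClosure hj)⟩ = d := Subtype.ext hjd
    refine ⟨⟨j, Subgroup.mem_sup_right (Subgroup.subset_normalClosure hj)⟩, hj, ?_, fun k hk => ?_⟩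
    · show e (pq _) i ≠ 1
      rwa [heq]
    · show e (pq _) k = 1
      rw [heq]; exact h2 k hk
  -- the extension is trivial
  set R0 := R.subgroupOf Y0 with hR0
  have hR0ker : R0 ≤ p0.ker := fun y hy => (hp0k y).2 (hRC hy)
  let pQ : ↥Y0 ⧸ R0 →* (Fin n → Equiv.Perm (Fin 3)) := QuotientGroup.lift R0 p0 hR0ker
  have hcomm : ∀ y ∈ Y0, ∀ c ∈ C, y * c * y⁻¹ * c⁻¹ ∈ R := by
    set q := QuotientGroup.mk' R with hq
    have hqs : Function.Surjective q := QuotientGroup.mk'_surjective R
    haveI : (C.map q).Normal := hCn.map q hqs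
    have hW : Y0 ≤ (Subgroup.centralizer (C.map q : Set (X ⧸ R))).comap q := by
      refine sup_le (fun r hr => ?_) (Subgroup.normalClosure_le_normal fun t ht => ?_)
      · rw [Subgroup.mem_comap, show q r = 1 from (QuotientGroup.eq_one_iff r).2 hr]; exact one_mem _
      · have htT : t ∈ (T : Subgroup X) := Subgroup.map_subtype_le _ ht
        rw [SetLike.mem_coe, Subgroup.mem_comap, Subgroup.mem_centralizer_iff]
        rintro _ ⟨c, hc, rfl⟩
        have h1 : t * c * t⁻¹ * c⁻¹ ∈ R := hTC ⟨by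
            have h3 : c * t⁻¹ * c⁻¹ ∈ (T : Subgroup X) :=
              (Subgroup.mem_normalizer_iff.1 (hCT hc) t⁻¹).1 (Subgroup.inv_mem _ htT)
            rw [show t * c * t⁻¹ * c⁻¹ = t * (c * t⁻¹ * c⁻¹) by simp only [mul_assoc]]
            exact Subgroup.mul_mem _ htT h3,
          Subgroup.mul_mem _ (hCn.conj_mem c hc t) (inv_mem hc)⟩
        have h2 : q (t * c * t⁻¹ * c⁻¹) = 1 := (QuotientGroup.eq_one_iff _).2 h1
        rw [map_mul, map_mul, map_mul, map_inv, map_inv, mul_inv_eq_one, mul_inv_eq_iff_eq_mul] at h2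
        exact h2.symm
    intro y hy c hc
    refine (QuotientGroup.eq_one_iff _).1 ?_
    show q _ = 1
    rw [map_mul, map_mul, map_mul, map_inv, map_inv, ← Subgroup.mem_centralizer_iff.1 (hW hy) _
      (Subgroup.mem_map_of_mem q hc), mul_inv_cancel_right, mul_inv_cancel]
  have hpQker : ∀ z : ↥Y0 ⧸ R0, z ∈ pQ.ker → ∃ y : ↥Y0, (y : X) ∈ C ∧ (QuotientGroup.mk y : ↥Y0 ⧸ R0) = z := by
    intro z hz
    obtain ⟨y, rfl⟩ := QuotientGroup.mk_surjective z
    exact ⟨y, (hp0k y).1 hz, rfl⟩
  have hinj : Function.Injective pQ := by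
    refine injective_of_central pQ (fun s => ?_) ?_ ?_ ?_
    · obtain ⟨y, hy⟩ := hp0s s
      exact ⟨QuotientGroup.mk y, hy⟩
    · intro z hz
      obtain ⟨c, hc, rfl⟩ := hpQker z hz
      rw [Subgroup.mem_center_iff]
      intro w
      obtain ⟨y, rfl⟩ := QuotientGroup.mk_surjective w
      rw [← QuotientGroup.mk_mul, ← QuotientGroup.mk_mul, QuotientGroup.eq, hR0, Subgroup.mem_subgroupOf]
      have h1 := hcomm ((y : X))⁻¹ (inv_mem y.2) (c : X) hc
      have h2 := hRn.conj_mem _ h1 ((c : X))⁻¹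
      simpa [mul_assoc] using h2
    · intro z hz hz2
      obtain ⟨c, hc, rfl⟩ := hpQker z hz
      rw [← QuotientGroup.mk_mul, QuotientGroup.eq_one_iff] at hz2
      rw [QuotientGroup.eq_one_iff]
      have hsq2 : (c : X) * c ∈ R := hz2
      have h2g : IsPGroup 2 (Subgroup.zpowers (c : X)) := by
        obtain ⟨k, hk⟩ := (CfsgLib.Solvable.pCore_isPGroup 2 X) ⟨_, hsq2⟩
        have hk' : (c : X) ^ 2 ^ (k + 1) = 1 := by
          rw [pow_succ', pow_mul, pow_two]; exact congrArg Subtype.val hk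
        obtain ⟨m, -, hm⟩ := (Nat.dvd_prime_pow Nat.prime_two).1 (orderOf_dvd_of_pow_eq_one hk')
        exact IsPGroup.of_card (n := m) (by rw [Nat.card_zpowers, hm])
      exact hTC ⟨huniq _ h2g (Subgroup.zpowers_le.2 hc) (Subgroup.mem_zpowers _), hc⟩
    · rw [eq_top_iff]
      set Inv : Set X := {y | y ∈ Y0 ∧ y * y ∈ R} with hInv
      have hInvn : (Subgroup.closure Inv).Normal := by
        refine ⟨fun x hx g => ?_⟩
        have hle : Subgroup.closure Inv ≤ (Subgroup.closure Inv).comap (MulAut.conj g).toMonoidHom := by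
          rw [Subgroup.closure_le]
          rintro y ⟨hy, hy2⟩
          refine Subgroup.subset_closure ⟨hY0n.conj_mem y hy g, ?_⟩
          show g * y * g⁻¹ * (g * y * g⁻¹) ∈ R
          have := hRn.conj_mem _ hy2 g
          simpa [mul_assoc] using this
        exact hle hx
      have hY0I : Y0 ≤ Subgroup.closure Inv := by
        refine sup_le (fun r hr => Subgroup.subset_closure ⟨Subgroup.mem_sup_left hr, mul_mem hr hr⟩)
          (Subgroup.normalClosure_le_normal fun j hj => Subgroup.subset_closure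
            ⟨Subgroup.mem_sup_right (Subgroup.subset_normalClosure hj), hTC ⟨?_, ?_⟩⟩)
        · exact mul_mem (Subgroup.map_subtype_le _ hj) (Subgroup.map_subtype_le _ hj)
        · have hjY : j ∈ Y0 := Subgroup.mem_sup_right (Subgroup.subset_normalClosure hj)
          refine (hp0k (⟨j, hjY⟩ * ⟨j, hjY⟩)).1 ?_
          funext k
          rw [map_mul, Pi.mul_apply, Pi.one_apply]
          have h2 : IsPGroup 2 (((Jm.subgroupOf (Subgroup.closure D)).map e.toMonoidHom).map
              (Pi.evalMonoidHom (fun _ => Equiv.Perm (Fin 3)) k)) :=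
            ((hJ2.of_equiv (Subgroup.subgroupOfEquivOfLe hJD).symm).map _).map _
          have hmem : p0 ⟨j, hjY⟩ k ∈ ((Jm.subgroupOf (Subgroup.closure D)).map e.toMonoidHom).map
              (Pi.evalMonoidHom (fun _ => Equiv.Perm (Fin 3)) k) :=
            ⟨_, ⟨pq ⟨j, hjY⟩, show π j ∈ Jm from Subgroup.mem_map_of_mem π hj, rfl⟩, rfl⟩
          by_cases h1 : p0 ⟨j, hjY⟩ k = 1
          · rw [h1, one_mul]
          · rcases eq_one_or_eq h2 hmem h1 (mul_mem hmem hmem) with h | h
            · exact h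
            · exact absurd (mul_eq_left.1 h) h1
      intro z _
      obtain ⟨⟨y, hy⟩, rfl⟩ := QuotientGroup.mk_surjective z
      have h := hY0I hy
      let M : Subgroup X := ((Subgroup.closure {x : ↥Y0 ⧸ R0 | x * x = 1}).comap (QuotientGroup.mk' R0)).map
        Y0.subtype
      have hM : Subgroup.closure Inv ≤ M := by
        rw [Subgroup.closure_le]
        rintro w ⟨hw, hw2⟩
        refine ⟨⟨w, hw⟩, Subgroup.subset_closure ?_, rfl⟩
        show (QuotientGroup.mk ⟨w, hw⟩ : ↥Y0 ⧸ R0) * QuotientGroup.mk ⟨w, hw⟩ = 1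
        rw [← QuotientGroup.mk_mul, QuotientGroup.eq_one_iff]
        exact hw2
      obtain ⟨w, hw, hwy⟩ := hM h
      rwa [show w = ⟨y, hy⟩ from Subtype.ext hwy] at hw
  have hkerR : p0.ker.map Y0.subtype = R := by
    apply le_antisymm
    · rintro _ ⟨y, hy, rfl⟩
      have h1 : (QuotientGroup.mk y : ↥Y0 ⧸ R0) = 1 := hinj (by rw [map_one]; exact hy)
      exact (QuotientGroup.eq_one_iff y).1 h1
    · intro r hr
      exact ⟨⟨r, Subgroup.mem_sup_left hr⟩, (hp0k _).2 (hRC hr), rfl⟩
  refine ⟨n, Y0, p0, hY0n, le_sup_left, ?_, hp0s, hkerR, ?_, ?_, ?_⟩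
  · rw [← hJ0]; exact fun j hj => Subgroup.mem_sup_right (Subgroup.subset_normalClosure hj)
  · rw [← hJ0]; exact hlift
  · intro u hu
    rw [← hJ0]
    have hfixu : ∀ z ∈ fixSub ρ Jm, ρ (π u) z = z := by
      intro z hz
      show ρ0 u z = z
      rw [hρ0]
      have hzZ : ((z.toMul : V) : X) ∈ interMaxAb 0 (T : Subgroup X) := by
        refine Subgroup.mem_sInf.2 fun A hA => mem_of_commute hA (hVT z.toMul.2) (pow_zero _) fun a ha => ?_
        exact (hρ0 a z).1 (hz (π a) (Subgroup.mem_map_of_mem π (hJ0.symm ▸ le_joinMaxAb hA ha)))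
      exact (Subgroup.mem_centralizer_iff.1 hu.2 _ hzZ).symm
    obtain ⟨j, hj, hju⟩ := hfix (π u) hfixu
    have h1 : j⁻¹ * u ∈ C := QuotientGroup.eq.1 hju
    have h2 := hTC ⟨Subgroup.mul_mem (T : Subgroup X)
      (Subgroup.inv_mem (T : Subgroup X) (Subgroup.map_subtype_le _ hj)) hu.1, h1⟩
    rw [show u = j * (j⁻¹ * u) by rw [mul_inv_cancel_left]]
    exact mul_mem (Subgroup.mem_sup_left hj) (Subgroup.mem_sup_right h2)
  · rw [← hJ0, eq_top_iff, ← hfrat]
    exact sup_le (sup_le (hCT.trans (le_sup_left.trans le_sup_left))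
      ((show Y ≤ Y0 from le_sup_right).trans (le_sup_right.trans le_sup_left))) le_sup_right

end CfsgLib.SmithN
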