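import Cfsg.Agent.Lib.SmithN.Structure
import Cfsg.Agent.Lib.SmithTwo.Common
import Cfsg.Agent.Lib.TwoFusion.AlperinRankTwo.TwoGroup
import Cfsg.Agent.S0112
import Cfsg.Agent.S0113

/-!
Tools for the final statements: strong embedding and 2-groups with a self-centralizing four-group.
-/

set_option autoImplicit false
set_option linter.style.haveILetI false

open Subgroup
open scoped Pointwise

namespace CfsgLib.SmithN

/-- A 2-group with a self-centralizing four-group is dihedral or semidihedral. -/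
theorem isDQ_of_selfCentralizing_four {R : Type*} [Group R] [Finite R] (hR : IsPGroup 2 R) (W : Subgroup R)
    (hW : Nat.card W = 4) (hsq : ∀ w ∈ W, w * w = 1) (hc : centralizer (W : Set R) = W) :
    CfsgLib.TwoFusion.AlperinRankTwo.IsDQ R := by
  classical
  haveI := Fact.mk Nat.prime_two
  obtain ⟨n, hn⟩ := IsPGroup.iff_card.1 hR
  have hn2 : 2 ≤ n := by
    have h := Subgroup.card_le_card_group W
    rw [hW, hn, show (4 : ℕ) = 2 ^ 2 by norm_num] at h
    exact (Nat.pow_le_pow_iff_right (by norm_num)).1 h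
  rcases hn2.eq_or_lt with h2 | h3
  · subst h2
    have htop : W = ⊤ := Subgroup.eq_top_of_le_card W (by rw [hW, hn]; norm_num)
    haveI : Nontrivial R := Finite.one_lt_card_iff_nontrivial.1 (by rw [hn]; norm_num)
    haveI : IsKleinFour R := ⟨by rw [hn]; norm_num, by
      refine Monoid.exponent_eq_prime_iff Nat.prime_two |>.2 fun x hx => ?_
      exact orderOf_eq_prime (by rw [pow_two]; exact hsq x (htop ▸ mem_top x)) hx⟩
    exact Or.inl ⟨2, le_rfl, IsKleinFour.nonempty_mulEquiv⟩
  have hW2 : Nat.card W = 2 ^ 2 := by rw [hW]; norm_num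
  have hcl := Cfsg.Agent.S0112.result n hn W hW2 hc
  obtain ⟨C, hC, hCi⟩ := Cfsg.Agent.S0113.result n h3 hn hcl
  have hna : ∃ x y : R, x * y ≠ y * x := by
    by_contra h
    push Not at h
    have htop : centralizer (W : Set R) = ⊤ := eq_top_iff.2 fun x _ => mem_centralizer_iff.2 fun w _ => h w x
    rw [htop] at hc
    have h4 := hW
    rw [← hc, Subgroup.card_top, hn] at h4
    have : 2 ^ 3 ≤ 2 ^ n := Nat.pow_le_pow_right (by norm_num) h3
    omega
  obtain ⟨⟨u, huW⟩, hu⟩ : ∃ u : W, orderOf u = 2 := exists_prime_orderOf_dvd_card' 2 (by rw [hW]; norm_num)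
  rw [Subgroup.orderOf_mk] at hu
  obtain ⟨v, hvW, hv1, hvu⟩ : ∃ v ∈ W, v ≠ 1 ∧ v ≠ u := by
    by_contra hcon
    push Not at hcon
    have hle : W ≤ zpowers u := fun v hv => by
      by_cases h1 : v = 1
      · rw [h1]; exact one_mem _
      · rw [hcon v hv h1]; exact mem_zpowers u
    have := Subgroup.card_le_of_le hle
    rw [hW, Nat.card_zpowers, hu] at this
    omega
  refine CfsgLib.TwoFusion.AlperinRankTwo.isDQ_of_cyclic_index_two hR hna
    (orderOf_eq_prime (by rw [pow_two]; exact hsq v hvW) hv1) hu hvu C hC hCi ?_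
  by_contra hcon
  push Not at hcon
  obtain ⟨h8, hsq'⟩ := hcon
  have hn4 : 4 ≤ n := by
    by_contra h
    have : 2 ^ n ≤ 2 ^ 3 := Nat.pow_le_pow_right (by norm_num) (by omega)
    omega
  haveI := hR.isNilpotent
  have hcomm : ∀ a b : R ⧸ center R, a * b = b * a := by
    intro a b
    obtain ⟨a, rfl⟩ := QuotientGroup.mk_surjective a
    obtain ⟨b, rfl⟩ := QuotientGroup.mk_surjective b
    have hq : ∀ x : R, (x : R ⧸ center R) * x = 1 := fun x => by
      rw [← QuotientGroup.mk_mul, QuotientGroup.eq_one_iff, mem_center_iff, ← sq]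
      exact fun g => mul_inv_eq_iff_eq_mul.mp (hsq' x g)
    have h1 := hq (a * b)
    rw [QuotientGroup.mk_mul] at h1
    calc (a : R ⧸ center R) * b = ((a : R ⧸ center R) * b)⁻¹ := (inv_eq_of_mul_eq_one_right h1).symm
      _ = _ := by rw [mul_inv_rev, inv_eq_of_mul_eq_one_right (hq a), inv_eq_of_mul_eq_one_right (hq b)]
  letI : CommGroup (R ⧸ center R) := { (inferInstance : Group (R ⧸ center R)) with mul_comm := hcomm }
  have h1 := nilpotencyClass_quotient_center (G := R)
  have h2 : Group.nilpotencyClass (R ⧸ center R) ≤ 1 := CommGroup.nilpotencyClass_le_one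
  omega

variable {G : Type*} [Group G] [Finite G]

/-- A proper subgroup containing `N(S)` and the centralizers of its involutions is strongly embedded. -/
theorem stronglyEmbedded_of {S : Sylow 2 G} {M : Subgroup G} (hM : M ≠ ⊤) (heven : Even (Nat.card G))
    (hN : normalizer ((S : Subgroup G) : Set G) ≤ M)
    (hc : ∀ t ∈ M, orderOf t = 2 → centralizer ({t} : Set G) ≤ M) : Cfsg.IsStronglyEmbedded M := by
  haveI := Fact.mk Nat.prime_two
  have hSM : (S : Subgroup G) ≤ M := le_normalizer.trans hN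
  have hz : ∀ P : Sylow 2 G, ∃ z, orderOf z = 2 ∧ z ∈ (P : Subgroup G) ∧ ∀ s ∈ (P : Subgroup G), s * z = z * s := by
    intro P
    haveI : Nontrivial (P : Subgroup G) := by
      rw [Subgroup.nontrivial_iff_ne_bot]
      intro h
      have h2 := P.dvd_card_of_dvd_card heven.two_dvd
      rw [h, Subgroup.card_bot] at h2
      exact absurd h2 (by decide)
    haveI := P.isPGroup'.center_nontrivial
    obtain ⟨⟨c, hcZ⟩, hc'⟩ := exists_prime_orderOf_dvd_card' (G := center (P : Subgroup G)) 2 (by
      obtain ⟨k, hk⟩ := IsPGroup.iff_card.1 (P.isPGroup'.to_subgroup (center (P : Subgroup G)))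
      rw [hk]
      refine dvd_pow_self 2 fun h => ?_
      rw [h, pow_zero] at hk
      exact (Finite.one_lt_card (α := center (P : Subgroup G))).ne' hk)
    rw [Subgroup.orderOf_mk, ← orderOf_coe] at hc'
    exact ⟨(c : G), hc', c.2, fun s hs => congrArg Subtype.val (mem_center_iff.1 hcZ ⟨s, hs⟩)⟩
  refine ⟨hM, ?_, fun g hg => ?_⟩
  · obtain ⟨z, hz2, hzS, -⟩ := hz S
    rw [even_iff_two_dvd, ← hz2]
    exact Subgroup.orderOf_dvd_natCard _ (hSM hzS)
  · rw [← Nat.not_even_iff_odd, even_iff_two_dvd]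
    intro hdvd
    obtain ⟨⟨t, htM, htmap⟩, ht⟩ := exists_prime_orderOf_dvd_card' 2 hdvd
    obtain ⟨m, hmM, hmt⟩ := mem_map.1 htmap
    rw [← orderOf_coe] at ht
    change orderOf t = 2 at ht
    have hgt : g * m * g⁻¹ = t := hmt
    have hm2 : orderOf m = 2 := by
      rw [← CfsgLib.SmithTwo.orderOf_conj' g m, hgt]; exact ht
    -- centralizers of involutions on the conjugate
    have hc' : ∀ u : G, orderOf u = 2 → g⁻¹ * u * g ∈ M → ∀ c ∈ centralizer ({u} : Set G), g⁻¹ * c * g ∈ M := by
      intro u hu2 huM c hcu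
      refine hc (g⁻¹ * u * g) huM (by simpa using (CfsgLib.SmithTwo.orderOf_conj' g⁻¹ u).trans hu2) ?_
      have h := mem_centralizer_singleton_iff.1 hcu
      refine mem_centralizer_singleton_iff.2 ?_
      calc g⁻¹ * c * g * (g⁻¹ * u * g) = g⁻¹ * (c * u) * g := by group
        _ = g⁻¹ * (u * c) * g := by rw [h]
        _ = g⁻¹ * u * g * (g⁻¹ * c * g) := by group
    obtain ⟨a, ha, hta⟩ := CfsgLib.SmithTwo.exists_conj_mem_sylow_of_le hSM htM
      (CfsgLib.SmithTwo.mul_self_of_two ht)
    obtain ⟨z, hz2, -, hzc⟩ := hz (a • S)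
    have hzt : z ∈ centralizer ({t} : Set G) := mem_centralizer_singleton_iff.2 (hzc t hta).symm
    have hzg : g⁻¹ * z * g ∈ M := hc' t ht (by rw [← hgt]; simpa [mul_assoc] using hmM) z hzt
    have hS1 : ((g⁻¹ • (a • S) : Sylow 2 G) : Subgroup G) ≤ M := by
      intro x hx
      have hx' := (CfsgLib.Transfer.mem_sylow_smul_iff g⁻¹ (a • S) x).1 hx
      rw [inv_inv] at hx'
      have := hc' z hz2 hzg (g * x * g⁻¹) (mem_centralizer_singleton_iff.2 (hzc _ hx'))
      simpa [mul_assoc] using this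
    obtain ⟨m', hm', hmeq⟩ := CfsgLib.Transfer.exists_mem_smul_eq (g⁻¹ • (a • S)) S hS1 hSM
    rw [← mul_smul, ← mul_smul] at hmeq
    have h := hN (Sylow.smul_eq_iff_mem_normalizer.1 hmeq)
    refine hg ?_
    have h2 : g⁻¹ ∈ M := by
      have := mul_mem (mul_mem (inv_mem hm') h) (inv_mem ha)
      simpa [mul_assoc] using this
    simpa using inv_mem h2

theorem pResidual_eq_closure_odd :
    Cfsg.pResidual 2 G = closure {g : G | Odd (orderOf g)} := by
  rw [Cfsg.pResidual]
  congr 1
  ext g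
  show Nat.Coprime (orderOf g) 2 ↔ Odd (orderOf g)
  exact Nat.coprime_two_right

/-- Strong embedding transports along isomorphisms. -/
theorem stronglyEmbedded_congr {A C : Type*} [Group A] [Group C] (e : A ≃* C) {M : Subgroup A}
    (h : Cfsg.IsStronglyEmbedded M) : Cfsg.IsStronglyEmbedded (M.map e.toMonoidHom) := by
  obtain ⟨h1, h2, h3⟩ := h
  have hinj : Function.Injective e.toMonoidHom := e.injective
  refine ⟨fun ht => h1 ?_, by rwa [card_map_of_injective hinj], fun g hg => ?_⟩
  · apply map_injective hinj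
    rw [ht, Subgroup.map_top_of_surjective _ e.surjective]
  · have hg' : e.symm g ∉ M := fun hm => hg ⟨_, hm, e.apply_symm_apply g⟩
    have heq : (M ⊓ M.map (MulAut.conj (e.symm g)).toMonoidHom).map e.toMonoidHom =
        M.map e.toMonoidHom ⊓ (M.map e.toMonoidHom).map (MulAut.conj g).toMonoidHom := by
      rw [map_inf _ _ _ hinj, Subgroup.map_map, Subgroup.map_map]
      congr 2
      ext x
      simp
    rw [← heq, card_map_of_injective hinj]
    exact h3 _ hg'

end CfsgLib.SmithN
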