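import Cfsg.Agent.Lib.SmithN.Local
import Cfsg.Agent.S2858
import Cfsg.Agent.Lib.SmithTwo.Four

/-!
Groups of characteristic 2 type with solvable 2-local subgroups in which the centralizer of `Ω₁(Z(S))`
normalizes `S`: either there is a subgroup containing `N(S)` and the centralizers of its involutions, or two
subgroups with quotient `S₃` over a common 2-group have no common normal subgroup.
-/

set_option autoImplicit false
set_option linter.style.haveILetI false

open Subgroup CfsgLib.PLoc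

namespace CfsgLib.SmithN

variable {G : Type*} [Group G] [Finite G]

theorem exists_normalizing' {P K : Subgroup G} (hP : IsPGroup 2 P) (hKP : K < P) :
    ∃ s ∈ P, s ∉ K ∧ s ∈ normalizer (K : Set G) := by
  obtain ⟨s, hsP, hsK, hs⟩ := CfsgLib.SmithTwo.exists_normalizing hP hKP
  exact ⟨s, hsP, hsK, mem_normalizer_fintype hs⟩

/-- The largest order of an abelian subgroup. -/
noncomputable def abMax (P : Subgroup G) : ℕ := Nat.card ↥(Classical.choose (exists_isMaxAb 0 P) : Subgroup G)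

theorem abMax_eq {P A : Subgroup G} (hA : IsMaxAb 0 P A) : abMax P = Nat.card A := by
  have h := Classical.choose_spec (exists_isMaxAb 0 P)
  exact le_antisymm (hA.max _ h.le h.comm h.exp) (h.max _ hA.le hA.comm hA.exp)

theorem abMax_mono {P Q : Subgroup G} (h : P ≤ Q) : abMax P ≤ abMax Q := by
  obtain ⟨A, hA⟩ := exists_isMaxAb 0 P
  obtain ⟨A', hA'⟩ := exists_isMaxAb 0 Q
  rw [abMax_eq hA, abMax_eq hA']
  exact hA'.max A (hA.le.trans h) hA.comm hA.exp

theorem abMax_lt (P : Subgroup G) : abMax P < Nat.card G + 1 :=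
  Nat.lt_succ_of_le (Subgroup.card_le_card_group _)

theorem join_mono {P Q : Subgroup G} (h : P ≤ Q) (he : abMax P = abMax Q) :
    joinMaxAb 0 P ≤ joinMaxAb 0 Q := sSup_le fun A hA => le_joinMaxAb
  ⟨hA.le.trans h, hA.comm, hA.exp, fun B hB hc hx => by
    obtain ⟨A', hA'⟩ := exists_isMaxAb 0 Q
    rw [← abMax_eq hA, he, abMax_eq hA']
    exact hA'.max B hB hc hx⟩

theorem abMax_map {H : Type*} [Group H] [Finite H] (f : G →* H) (hf : Function.Injective f) (P : Subgroup G) :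
    abMax (P.map f) = abMax P := by
  obtain ⟨A, hA⟩ := exists_isMaxAb 0 P
  rw [abMax_eq ((isMaxAb_map_iff f hf 0 P A).2 hA), abMax_eq hA, card_map_of_injective hf]

/-- The key by which 2-subgroups are compared. -/
noncomputable def key (P : Subgroup G) : ℕ :=
  ((abMax P * (Nat.card G + 1) + Nat.card (joinMaxAb 0 P)) * (Nat.card G + 1) + Nat.card (Bm P)) *
    (Nat.card G + 1) + Nat.card P

theorem key_map (g : G) (P : Subgroup G) : key (P.map (MulAut.conj g).toMonoidHom) = key P := by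
  rw [key, key, abMax_map _ (conj_injective g), joinMaxAb_map _ (conj_injective g),
    Bm_map _ (conj_injective g), card_map_of_injective (conj_injective g),
    card_map_of_injective (conj_injective g), card_map_of_injective (conj_injective g)]

theorem digit_le {N a a' b b' : ℕ} (hb' : b' < N) (h : a * N + b ≤ a' * N + b') :
    a ≤ a' ∧ (a = a' → b ≤ b') := by
  refine ⟨?_, fun e => by subst e; omega⟩
  by_contra hlt
  push Not at hlt
  have h1 : (a' + 1) * N ≤ a * N := Nat.mul_le_mul_right N hlt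
  rw [Nat.add_mul, one_mul] at h1
  omega

theorem key_le {P Q : Subgroup G} (h : key P ≤ key Q) :
    abMax P ≤ abMax Q ∧ (abMax P = abMax Q → Nat.card (joinMaxAb 0 P) ≤ Nat.card (joinMaxAb 0 Q) ∧
      (Nat.card (joinMaxAb 0 P) = Nat.card (joinMaxAb 0 Q) → Nat.card (Bm P) ≤ Nat.card (Bm Q) ∧
        (Nat.card (Bm P) = Nat.card (Bm Q) → Nat.card P ≤ Nat.card Q))) := by
  have hlt : ∀ R : Subgroup G, Nat.card R < Nat.card G + 1 := fun R =>
    Nat.lt_succ_of_le (Subgroup.card_le_card_group R)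
  obtain ⟨h1, h1'⟩ := digit_le (hlt Q) h
  obtain ⟨h2, h2'⟩ := digit_le (hlt _) h1
  obtain ⟨h3, h3'⟩ := digit_le (hlt _) h2
  refine ⟨h3, fun e1 => ⟨h3' e1, fun e2 => ?_⟩⟩
  have e12 : abMax P * (Nat.card G + 1) + Nat.card (joinMaxAb 0 P) =
      abMax Q * (Nat.card G + 1) + Nat.card (joinMaxAb 0 Q) := by rw [e1, e2]
  exact ⟨h2' e12, fun e3 => h1' (by rw [e12, e3])⟩

/-- A 2-group over `B(T)` with key at most that of `T` has the same Thompson and Baumann subgroups. -/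
theorem eq_of_key_le {T P : Subgroup G} (hBP : Bm T ≤ P) (h : key P ≤ key T) :
    joinMaxAb 0 P = joinMaxAb 0 T ∧ Bm P = Bm T := by
  obtain ⟨A, hA⟩ := exists_isMaxAb 0 T
  obtain ⟨h1, h2⟩ := key_le h
  have hJP : joinMaxAb 0 T ≤ P := (joinMaxAb_le_Bm T).trans hBP
  have ha : abMax P = abMax T := by
    refine le_antisymm h1 ?_
    obtain ⟨A', hA'⟩ := exists_isMaxAb 0 P
    rw [abMax_eq hA, abMax_eq hA']
    exact hA'.max A ((le_joinMaxAb hA).trans hJP) hA.comm hA.exp
  obtain ⟨h3, h4⟩ := h2 ha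
  have hJ : joinMaxAb 0 T ≤ joinMaxAb 0 P := sSup_le fun A hA => le_joinMaxAb
    ⟨(le_joinMaxAb hA).trans hJP, hA.comm, hA.exp, fun B hB hc hx => by
      obtain ⟨A', hA'⟩ := exists_isMaxAb 0 P
      rw [← abMax_eq hA, ← ha, abMax_eq hA']
      exact hA'.max B hB hc hx⟩
  have hJeq := eq_of_le_of_card_ge hJ h3
  obtain ⟨h5, -⟩ := h4 (by rw [hJeq])
  have hB : Bm T ≤ Bm P := le_inf hBP (interMaxAb_eq_of_join hJeq ▸ inf_le_right)
  exact ⟨hJeq.symm, (eq_of_le_of_card_ge hB h5).symm⟩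

theorem key_lt {T P : Subgroup G} (h : T < P) : key T < key P := by
  by_contra hle
  push Not at hle
  obtain ⟨h1, h2⟩ := eq_of_key_le ((Bm_le T).trans h.le) hle
  obtain ⟨-, h3⟩ := key_le hle
  have ha : abMax P = abMax T := le_antisymm (key_le hle).1 (abMax_mono h.le)
  have h4 := ((h3 ha).2 (by rw [h1])).2 (by rw [h2])
  exact h.ne (eq_of_le_of_card_ge h.le h4)

variable {B X Y : Subgroup G}

/-- `X` and `Y` have no common nontrivial normal subgroup in `B`. -/
def NoCommon (B X Y : Subgroup G) : Prop :=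
  ∀ N : Subgroup G, N ≤ B → X ≤ normalizer (N : Set G) → Y ≤ normalizer (N : Set G) → N = ⊥

theorem pair (amb : Amb G) (hX : Par B X) (hY : Par B Y) (hgX : Good B X) :
    Y ≤ normalizer (O2r X : Set G) ∨ NoCommon B X Y := by
  by_cases h : ∃ N : Subgroup G, N ≤ B ∧ X ≤ normalizer (N : Set G) ∧ Y ≤ normalizer (N : Set G) ∧ N ≠ ⊥
  · obtain ⟨N, hNB, hXN, hYN, hN1⟩ := h
    left
    have hN2 : IsPGroup 2 N := hX.two.to_le hNB
    obtain ⟨T, hT, hBT⟩ := exists_isSyl hX.two (hX.le.trans hXN)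
    have := amb.solv N hN2 hN1
    have hBm : Bm T = B := hgX N T hN1 hN2 hXN hT.two hT.le hBT
    have hloc := (local_main (amb.charP N hN2 hN1) hT (amb.cent_local hN2 rfl hT)).2.1
    rw [hBm] at hloc
    exact hloc X Y hX hXN hY hYN
  · right
    intro N h1 h2 h3
    by_contra h4
    exact h ⟨N, h1, h2, h3, h4⟩

theorem map_pOf {H : Type*} [Group H] [Finite H] (e : G →* H) (he : Function.Injective e) (X : Subgroup G) :
    (CfsgLib.Even.pOf 2 X).map e = CfsgLib.Even.pOf 2 (X.map e) := by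
  haveI := Fact.mk Nat.prime_two
  refine le_antisymm (CfsgLib.Even.le_pOf (Subgroup.map_mono (CfsgLib.Even.pOf_le X))
    ((Subgroup.map_mono (CfsgLib.Even.le_normalizer_pOf X)).trans (le_normalizer_map e))
    ((CfsgLib.Even.pOf_isPGroup X).map e)) ?_
  rw [← Subgroup.map_comap_eq_self (((CfsgLib.Even.pOf_le (p := 2) (X.map e))).trans (map_le_range e X))]
  refine Subgroup.map_mono (CfsgLib.Even.le_pOf ?_ ?_ ((CfsgLib.Even.pOf_isPGroup _).comap_of_injective e he))
  · exact (Subgroup.comap_mono (CfsgLib.Even.pOf_le _)).trans (comap_map_eq_self_of_injective he X).le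
  · intro x hx
    have h1 := CfsgLib.Even.le_normalizer_pOf (p := 2) (X.map e) (mem_map_of_mem e hx)
    rw [mem_normalizer_iff] at h1 ⊢
    intro y
    simp only [mem_comap, map_mul, map_inv]
    exact h1 (e y)

/-- The amalgam argument. -/
theorem amalgam (hX : Par B X) (hY : Par B Y) (hno : NoCommon B X Y) :
    ((Nonempty (↥X ≃* Equiv.Perm (Fin 4)) ∧ Nonempty (↥Y ≃* Equiv.Perm (Fin 4))) ∨
      (Nonempty (↥X ≃* Multiplicative (ZMod 2) × Equiv.Perm (Fin 4)) ∧
        Nonempty (↥Y ≃* Multiplicative (ZMod 2) × Equiv.Perm (Fin 4)))) := by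
  haveI := Fact.mk Nat.prime_two
  have hne : X ≠ Y := by
    rintro rfl
    have h1 := hno _ hX.two_mul_core.2 (CfsgLib.Even.le_normalizer_pOf X) (CfsgLib.Even.le_normalizer_pOf X)
    obtain ⟨y, hy, hy3⟩ := hX.exists_odd
    have h2 := hX.charP y hy fun q hq => by
      rw [h1, mem_bot] at hq
      rw [hq, one_mul, mul_one]
    rw [h1, mem_bot] at h2
    rw [h2, orderOf_one] at hy3
    exact absurd hy3 (by decide)
  set W := X ⊔ Y with hW
  set f := W.subtype with hf
  have hinj : Function.Injective f := W.subtype_injective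
  have hXW : X ≤ W := le_sup_left
  have hYW : Y ≤ W := le_sup_right
  have hBW : B ≤ W := hX.le.trans hXW
  have hmX : (X.subgroupOf W).map f = X := map_subgroupOf_eq_of_le hXW
  have hmY : (Y.subgroupOf W).map f = Y := map_subgroupOf_eq_of_le hYW
  have hmB : (B.subgroupOf W).map f = B := map_subgroupOf_eq_of_le hBW
  have hside : ∀ Z : Subgroup G, Par B Z → (hZW : Z ≤ W) →
      ((Z.subgroupOf W) ⊓ centralizer (Cfsg.pCoreOf 2 (Z.subgroupOf W) : Set ↥W) ≤
        Cfsg.pCoreOf 2 (Z.subgroupOf W)) ∧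
      (∃ S : Sylow 2 ↥(Z.subgroupOf W), (S : Subgroup ↥(Z.subgroupOf W)) =
        (B.subgroupOf W).subgroupOf (Z.subgroupOf W)) ∧
      Nonempty (↥(Z.subgroupOf W) ⧸ Cfsg.pCore 2 ↥(Z.subgroupOf W) ≃* Equiv.Perm (Fin 3)) ∧
      ¬ (Z.subgroupOf W) ≤ centralizer (Cfsg.omegaOne 2
        (B.subgroupOf W ⊓ centralizer (B.subgroupOf W : Set ↥W)) : Set ↥W) := by
    intro Z hZ hZW
    have hmZ : (Z.subgroupOf W).map f = Z := map_subgroupOf_eq_of_le hZW
    have hmO : (CfsgLib.Even.pOf 2 (Z.subgroupOf W)).map f = CfsgLib.Even.pOf 2 Z := by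
      rw [map_pOf f hinj, hmZ]
    refine ⟨?_, ?_, ?_, ?_⟩
    · rintro ⟨x, hxW⟩ hx
      have hxc : x ∈ CfsgLib.Even.pOf 2 Z := by
        refine hZ.charP x hx.1 fun q hq => ?_
        rw [← hmO] at hq
        obtain ⟨q', hq', rfl⟩ := hq
        exact congrArg Subtype.val (mem_centralizer_iff.1 hx.2 q' hq')
      rw [← hmO] at hxc
      obtain ⟨x', hx', hxx'⟩ := hxc
      rwa [show (⟨x, hxW⟩ : ↥W) = x' from Subtype.ext hxx'.symm]
    · have hB2 : IsPGroup 2 ↥((B.subgroupOf W).subgroupOf (Z.subgroupOf W)) :=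
        (hZ.two.comap_of_injective f hinj).comap_of_injective _ (Subgroup.subtype_injective _)
      refine ⟨hB2.toSylow ?_, rfl⟩
      have hc := ((B.subgroupOf W).subgroupOf (Z.subgroupOf W)).card_mul_index
      have hle : B.subgroupOf W ≤ Z.subgroupOf W := Subgroup.comap_mono hZ.le
      rw [Nat.card_congr (subgroupOfEquivOfLe hle).toEquiv, Nat.card_congr (subgroupOfEquivOfLe hBW).toEquiv,
        Nat.card_congr (subgroupOfEquivOfLe hZW).toEquiv, hZ.card, mul_comm 3] at hc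
      rw [Nat.eq_of_mul_eq_mul_left Nat.card_pos hc]
      decide
    · obtain ⟨φ, hφs, hφk⟩ := hZ.hom
      let e : ↥(Z.subgroupOf W) ≃* ↥Z := subgroupOfEquivOfLe hZW
      set ψ := φ.comp e.toMonoidHom with hψ
      have hψs : Function.Surjective ψ := hφs.comp e.surjective
      have hk : Cfsg.pCore 2 ↥(Z.subgroupOf W) = ψ.ker := by
        haveI := CfsgLib.Solvable.pCore_normal 2 ↥(Z.subgroupOf W)
        have hker2 : IsPGroup 2 ψ.ker := by
          rw [hψ, ← MonoidHom.comap_ker]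
          exact hφk.comap_of_injective _ e.injective
        refine le_antisymm ?_ (CfsgLib.Solvable.le_pCore inferInstance hker2)
        set D := (Cfsg.pCore 2 ↥(Z.subgroupOf W)).map (Z.subgroupOf W).subtype with hD
        have hDc : (CfsgLib.Even.pOf 2 (Z.subgroupOf W)) = D := rfl
        intro x hx
        have hx2 : ((x : ↥W) : G) ∈ CfsgLib.Even.pOf 2 Z := by
          rw [← hmO]; exact mem_map_of_mem f (mem_map_of_mem _ hx)
        -- the index of the core is six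
        obtain ⟨hc1, -⟩ := hZ.two_mul_core
        have hkle : (φ.ker).map Z.subtype ≤ CfsgLib.Even.pOf 2 Z :=
          Subgroup.map_mono (CfsgLib.Solvable.le_pCore inferInstance hφk)
        have h6 : φ.ker.index = 6 := by
          rw [Subgroup.index_ker, MonoidHom.range_eq_top.2 hφs, Subgroup.card_top, Nat.card_perm, Nat.card_fin]
          decide
        have hck := φ.ker.card_mul_index
        rw [h6, hZ.card] at hck
        have heq : (φ.ker).map Z.subtype = CfsgLib.Even.pOf 2 Z := eq_of_le_of_card_ge hkle (by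
          rw [card_map_of_injective Z.subtype_injective]; omega)
        rw [← heq] at hx2
        obtain ⟨z, hz, hzx⟩ := hx2
        rw [MonoidHom.mem_ker, hψ, MonoidHom.comp_apply,
          show e.toMonoidHom x = z from Subtype.ext hzx.symm]
        exact hz
      exact ⟨(QuotientGroup.quotientMulEquivOfEq hk).trans (QuotientGroup.quotientKerEquivOfSurjective ψ hψs)⟩
    · intro hle
      refine hZ.notcent fun x hx => mem_centralizer_iff.2 fun z hz => ?_
      obtain ⟨z1, z2, z3⟩ := mem_Oz.1 hz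
      have hz' : (⟨z, hBW z1⟩ : ↥W) ∈ Cfsg.omegaOne 2
          (B.subgroupOf W ⊓ centralizer (B.subgroupOf W : Set ↥W)) :=
        subset_closure ⟨⟨z1, mem_centralizer_iff.2 fun s hs => Subtype.ext (z2 _ hs)⟩,
          Subtype.ext (by rw [pow_two]; exact z3)⟩
      exact congrArg Subtype.val (mem_centralizer_iff.1 (hle (show (⟨x, hZW hx⟩ : ↥W) ∈ Z.subgroupOf W from hx)) _ hz')
  obtain ⟨a1, a2, a3, a4⟩ := hside X hX hXW
  obtain ⟨b1, b2, b3, b4⟩ := hside Y hY hYW
  have hall : ∀ (p : Subgroup ↥W → Prop), p (X.subgroupOf W) → p (Y.subgroupOf W) →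
      ∀ P ∈ ({X.subgroupOf W, Y.subgroupOf W} : Set (Subgroup ↥W)), p P := fun p h1 h2 P hP => by
    rcases hP with rfl | rfl
    · exact h1
    · exact h2
  have hgen : X.subgroupOf W ⊔ Y.subgroupOf W = ⊤ := by
    rw [← Subgroup.subgroupOf_sup hXW hYW, ← hW, subgroupOf_self]
  have hT : B.subgroupOf W = X.subgroupOf W ⊓ Y.subgroupOf W := by
    conv_lhs => rw [← hX.inf_eq hY hne]
    exact Subgroup.comap_inf _ _ _
  have h3 : ∀ N : Subgroup ↥W, N.Normal → N ≤ B.subgroupOf W → N = ⊥ := by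
    intro N hN hle
    have h1 : W ≤ normalizer ((N.map f : Subgroup G) : Set G) := by
      have h := le_normalizer_map (H := N) f
      rw [normalizer_eq_top, ← MonoidHom.range_eq_map, hf, range_subtype] at h
      exact h
    have h2 := hno (N.map f) ((Subgroup.map_mono hle).trans hmB.le) (hXW.trans h1) (hYW.trans h1)
    exact (map_eq_bot_iff_of_injective _ hinj).1 h2
  have key := Cfsg.Agent.S2858.result (X.subgroupOf W) (Y.subgroupOf W) hgen (B.subgroupOf W) hT
    (hall _ a1 b1) (hall _ a2 b2) h3 (hall _ a3 b3) (hall _ a4 b4)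
  have eX := subgroupOfEquivOfLe hXW
  have eY := subgroupOfEquivOfLe hYW
  rcases key with ⟨⟨c1⟩, ⟨c2⟩⟩ | ⟨⟨c1⟩, ⟨c2⟩⟩
  · exact Or.inl ⟨⟨eX.symm.trans c1⟩, ⟨eY.symm.trans c2⟩⟩
  · exact Or.inr ⟨⟨eX.symm.trans c1⟩, ⟨eY.symm.trans c2⟩⟩

/-- A family of such subgroups which pairwise normalize has a common nontrivial normal 2-subgroup. -/
theorem family {𝒳 : Set (Subgroup G)} (hpar : ∀ X ∈ 𝒳, Par B X) (hne : 𝒳.Nonempty)
    (hnorm : ∀ X ∈ 𝒳, ∀ Y ∈ 𝒳, Y ≤ normalizer (O2r X : Set G)) :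
    ∃ N : Subgroup G, IsPGroup 2 N ∧ N ≠ ⊥ ∧ (∀ X ∈ 𝒳, X ≤ normalizer (N : Set G)) ∧
      ∀ g : G, (∀ X ∈ 𝒳, X.map (MulAut.conj g).toMonoidHom ∈ 𝒳) → g ∈ normalizer (N : Set G) := by
  haveI := Fact.mk Nat.prime_two
  set U : Subgroup G := ⨆ X ∈ 𝒳, O2r X with hU
  have hle : ∀ X ∈ 𝒳, O2r X ≤ U := fun X hX => le_iSup₂ (f := fun Z (_ : Z ∈ 𝒳) => O2r Z) X hX
  have hUn : ∀ g : G, (∀ X ∈ 𝒳, ∃ Y ∈ 𝒳, (O2r X).map (MulAut.conj g).toMonoidHom ≤ O2r Y) →
      g ∈ normalizer (U : Set G) := by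
    intro g hg
    refine mem_normalizer_fintype fun x hx => ?_
    have : U ≤ U.comap (MulAut.conj g).toMonoidHom := iSup₂_le fun X hX => by
      obtain ⟨Y, hY, hXY⟩ := hg X hX
      exact Subgroup.map_le_iff_le_comap.1 (hXY.trans (hle Y hY))
    exact this hx
  obtain ⟨X₀, hX₀⟩ := hne
  refine ⟨CfsgLib.Even.pOf 2 U, CfsgLib.Even.pOf_isPGroup U, fun hbot => ?_, fun Y hY => ?_, fun g hg => ?_⟩
  · refine (hpar X₀ hX₀).core_O2r_ne_bot (le_bot_iff.1 (hbot ▸ ?_))
    have hUN : U ≤ normalizer (O2r X₀ : Set G) := iSup₂_le fun Y hY => (O2r_le Y).trans (hnorm X₀ hX₀ Y hY)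
    exact CfsgLib.Even.le_pOf ((CfsgLib.Even.pOf_le _).trans (hle X₀ hX₀))
      (hUN.trans (CfsgLib.Even.normalizer_le_normalizer_pOf (O2r X₀))) (CfsgLib.Even.pOf_isPGroup _)
  · refine fun y hy => CfsgLib.Even.normalizer_le_normalizer_pOf U (hUn y fun X hX => ⟨X, hX, ?_⟩)
    exact (map_conj_of_mem (hnorm X hX Y hY hy)).le
  · refine CfsgLib.Even.normalizer_le_normalizer_pOf U (hUn g fun X hX => ⟨_, hg X hX, ?_⟩)
    rw [O2r, MonoidHom.map_closure, closure_le]
    rintro _ ⟨x, ⟨hx, ho⟩, rfl⟩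
    refine mem_O2r (mem_map_of_mem _ hx) ?_
    rwa [orderOf_injective (MulAut.conj g).toMonoidHom (MulAut.conj g).injective x]

theorem Amb.normalizer_ne_top (amb : Amb G) {N : Subgroup G} (hN : IsPGroup 2 N) (hN1 : N ≠ ⊥) :
    normalizer (N : Set G) ≠ ⊤ := fun h => hN1 <| by
  haveI : N.Normal := normalizer_eq_top_iff.1 h
  exact le_bot_iff.1 (amb.twoCore ▸ le_sSup ⟨inferInstance, hN⟩)

/-- The dichotomy. -/
theorem global (amb : Amb G) (heven : Even (Nat.card G)) (S : Sylow 2 G) :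
    (∃ M : Subgroup G, M ≠ ⊤ ∧ normalizer ((S : Subgroup G) : Set G) ≤ M ∧
      ∀ t ∈ M, orderOf t = 2 → centralizer ({t} : Set G) ≤ M) ∨
    ∃ B X Y : Subgroup G, B ≤ (S : Subgroup G) ∧ Par B X ∧ Par B Y ∧ Good B X ∧ Good B Y ∧ NoCommon B X Y := by
  classical
  haveI := Fact.mk Nat.prime_two
  set SS : Subgroup G := (S : Subgroup G) with hSS
  have hS2 : IsPGroup 2 SS := S.isPGroup'
  set BS := Bm SS with hBS
  -- the Baumann subgroup of `S` is that of every 2-group over it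
  have hBmP : ∀ P : Subgroup G, IsPGroup 2 P → BS ≤ P → Bm P = BS := by
    intro P hP hBP
    obtain ⟨S', hS'⟩ := hP.exists_le_sylow
    obtain ⟨g, hg⟩ := MulAction.exists_smul_eq G S' S
    set c := (MulAut.conj g).toMonoidHom with hc
    have hPS : P.map c ≤ SS := by
      rintro _ ⟨x, hx, rfl⟩
      rw [hSS, ← hg, Sylow.coe_subgroup_smul]
      exact ⟨x, hS' hx, rfl⟩
    have hk : key P ≤ key SS := by
      rw [← key_map g P]
      rcases eq_or_lt_of_le hPS with h | h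
      · rw [h]
      · exact (key_lt h).le
    exact (eq_of_key_le hBP hk).2
  have hgoodS : ∀ X : Subgroup G, Good BS X := fun X N P _ _ _ hP _ hBP => hBmP P hP hBP
  have huniqS : ∀ U : Subgroup G, IsPGroup 2 U → U ≤ centralizer (interMaxAb 0 SS : Set G) → U ≤ SS := by
    intro U hU hUc u hu
    have h1 := hU.inf_normalizer_sylow S
    exact (h1.le ⟨hu, amb.cent S (centralizer_le (Oz_le_inter SS) (hUc hu))⟩).2
  have hNJB : normalizer (joinMaxAb 0 SS : Set G) ≤ normalizer (BS : Set G) := fun g hg =>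
    map_conj_inf_le hS2 huniqS (normalizer_join_le_normalizer_centralizer_inter SS hg)
  have hJ1 : joinMaxAb 0 SS ≠ ⊥ := by
    intro hJ
    obtain ⟨⟨x, hx⟩, hx1⟩ : ∃ x : SS, x ≠ 1 := by
      haveI : Nontrivial SS := by
        rw [Subgroup.nontrivial_iff_ne_bot]
        intro h
        have h2 : 2 ∣ Nat.card SS := by
          refine S.dvd_card_of_dvd_card ?_
          exact heven.two_dvd
        rw [h, Subgroup.card_bot] at h2
        exact absurd h2 (by decide)
      exact exists_ne 1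
    obtain ⟨A, hA⟩ := exists_isMaxAb 0 SS
    have hA0 : A = ⊥ := le_bot_iff.1 (hJ ▸ le_joinMaxAb hA)
    have h3 := hA.max (zpowers x) (zpowers_le.2 hx) inferInstance (fun _ _ => pow_zero _)
    rw [hA0, Subgroup.card_bot, Nat.card_zpowers] at h3
    exact hx1 (Subtype.ext (orderOf_eq_one_iff.1 (le_antisymm h3 (orderOf_pos x))))
  by_cases hpairS : ∃ X Y, Par BS X ∧ Par BS Y ∧ NoCommon BS X Y
  · obtain ⟨X, Y, hX, hY, hno⟩ := hpairS
    exact Or.inr ⟨BS, X, Y, Bm_le SS, hX, hY, hgoodS X, hgoodS Y, hno⟩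
  push Not at hpairS
  obtain ⟨M, hMtop, hNJM, hparM⟩ : ∃ M : Subgroup G, M ≠ ⊤ ∧ normalizer (joinMaxAb 0 SS : Set G) ≤ M ∧
      ∀ X, Par BS X → X ≤ M := by
    by_cases hne : {X | Par BS X}.Nonempty
    · obtain ⟨N, hN, hN1, hXN, hgN⟩ := family (fun X hX => hX) hne (fun X hX Y hY =>
        (pair amb hX hY (hgoodS X)).resolve_right (hpairS X Y hX hY))
      exact ⟨_, amb.normalizer_ne_top hN hN1, fun g hg => hgN g fun X hX => Par.map hX (hNJB hg), hXN⟩
    · exact ⟨_, amb.normalizer_ne_top (hS2.to_le (joinMaxAb_le 0 SS)) hJ1, le_rfl,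
        fun X hX => absurd ⟨X, hX⟩ hne⟩
  have hNSM : normalizer (SS : Set G) ≤ M := (normalizer_le_normalizer_joinMaxAb 0 SS).trans hNJM
  have hSM : SS ≤ M := le_normalizer.trans hNSM
  by_cases hcent : ∀ t ∈ M, orderOf t = 2 → centralizer ({t} : Set G) ≤ M
  · exact Or.inl ⟨M, hMtop, hNSM, hcent⟩
  push Not at hcent
  obtain ⟨t, htM, ht2, htC⟩ := hcent
  -- a maximal pair
  let 𝒯 : Set (Subgroup G) := {T | IsPGroup 2 T ∧ T ≤ M ∧
    ∃ R : Subgroup G, R ≠ ⊥ ∧ IsPGroup 2 R ∧ ¬ normalizer (R : Set G) ≤ M ∧ T ≤ normalizer (R : Set G)}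
  have h𝒯 : 𝒯.Nonempty := by
    have hz : IsPGroup 2 (zpowers t) :=
      IsPGroup.of_card (n := 1) (by rw [Nat.card_zpowers, ht2, pow_one])
    refine ⟨zpowers t, hz, zpowers_le.2 htM, zpowers t, ?_, hz, fun h => htC ?_, le_normalizer⟩
    · rw [Ne, zpowers_eq_bot]
      intro h
      rw [h, orderOf_one] at ht2
      exact absurd ht2 (by decide)
    · refine fun c hc => h (centralizer_le_normalizer _ (mem_centralizer_iff.2 fun z hz => ?_))
      obtain ⟨i, rfl⟩ := mem_zpowers_iff.1 hz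
      exact ((show Commute t c from (mem_centralizer_singleton_iff.1 hc).symm).zpow_left i).eq
  obtain ⟨T0, hT0, hmax0⟩ := Set.exists_max_image 𝒯 key (Set.toFinite _) h𝒯
  have hSylM : IsSyl SS M := ⟨hSM, hS2, fun P hP hle _ => S.3 hP hle⟩
  obtain ⟨m, hm, hmT⟩ := hSylM.exists_conj hT0.1 hT0.2.1
  set T := T0.map (MulAut.conj m).toMonoidHom with hTdef
  have hT𝒯 : T ∈ 𝒯 := by
    obtain ⟨hT02, hT0M, R, hR1, hR2, hRn, hTR⟩ := hT0
    refine ⟨hT02.map _, hmT.trans hSM, R.map (MulAut.conj m).toMonoidHom, ?_, hR2.map _, fun h => hRn ?_, ?_⟩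
    · rw [Ne, map_eq_bot_iff_of_injective _ (conj_injective m)]; exact hR1
    · intro x hx
      have h1 : m * x * m⁻¹ ∈ M := h (le_normalizer_map _ ⟨x, hx, rfl⟩)
      have h2 := mul_mem (mul_mem (inv_mem hm) h1) hm
      simpa [mul_assoc] using h2
    · exact (Subgroup.map_mono hTR).trans (le_normalizer_map _)
  have hmax : ∀ P ∈ 𝒯, key P ≤ key T := fun P hP => by
    rw [hTdef, key_map]; exact hmax0 P hP
  obtain ⟨hT2, hTM, R, hR1, hR2, hRn, hTR⟩ := hT𝒯
  have hTS : T ≤ SS := hmT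
  set K := normalizer (R : Set G) with hK
  -- `T` is a Sylow subgroup of `N(R)`
  have hbig : T < SS → ∀ R' : Subgroup G, R' ≠ ⊥ → IsPGroup 2 R' →
      (∀ s ∈ SS, s ∈ normalizer (T : Set G) → s ∈ normalizer (R' : Set G)) → normalizer (R' : Set G) ≤ M := by
    intro hlt R' hR'1 hR'2 hnorm
    by_contra hnot
    obtain ⟨s, hsS, hsT, hsn⟩ := exists_normalizing' hS2 hlt
    set P := SS ⊓ normalizer (T : Set G) with hP
    have hTP : T < P := lt_of_le_of_ne (le_inf hTS le_normalizer) fun h =>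
      hsT (h.ge (mem_inf.2 ⟨hsS, hsn⟩))
    exact absurd (hmax P ⟨hS2.to_le inf_le_left, inf_le_left.trans hSM, R', hR'1, hR'2, hnot,
      fun x hx => hnorm x hx.1 hx.2⟩) (not_le.2 (key_lt hTP))
  have hT1 : T ≠ ⊥ := by
    intro h
    have h1 := hmax (zpowers t) ?_
    · have h2 : T < zpowers t := by
        rw [h, bot_lt_iff_ne_bot, Ne, zpowers_eq_bot]
        intro e
        rw [e, orderOf_one] at ht2
        exact absurd ht2 (by decide)
      exact absurd h1 (not_le.2 (key_lt h2))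
    · have hz : IsPGroup 2 (zpowers t) :=
        IsPGroup.of_card (n := 1) (by rw [Nat.card_zpowers, ht2, pow_one])
      refine ⟨hz, zpowers_le.2 htM, zpowers t, ?_, hz, fun h => htC ?_, le_normalizer⟩
      · rw [Ne, zpowers_eq_bot]
        intro e
        rw [e, orderOf_one] at ht2
        exact absurd ht2 (by decide)
      · refine fun c hc => h (centralizer_le_normalizer _ (mem_centralizer_iff.2 fun z hz => ?_))
        obtain ⟨i, rfl⟩ := mem_zpowers_iff.1 hz
        exact ((show Commute t c from (mem_centralizer_singleton_iff.1 hc).symm).zpow_left i).eq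
  have hNTM : normalizer (T : Set G) ≤ M := by
    rcases eq_or_lt_of_le hTS with h | h
    · rw [h]; exact hNSM
    · exact hbig h T hT1 hT2 fun s _ hs => hs
  have hTsyl : IsSyl T K := by
    refine ⟨hTR, hT2, fun P hP hTP hPK => ?_⟩
    by_contra hne
    obtain ⟨s, hsP, hsT, hsn⟩ := exists_normalizing' hP (lt_of_le_of_ne hTP (Ne.symm hne))
    have hlt : T < P ⊓ M := lt_of_le_of_ne (le_inf hTP hTM) fun h =>
      hsT (h.ge ⟨hsP, hNTM hsn⟩)
    exact absurd (hmax _ ⟨hP.to_le inf_le_left, inf_le_right, R, hR1, hR2, hRn, inf_le_left.trans hPK⟩)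
      (not_le.2 (key_lt hlt))
  have := amb.solv R hR2 hR1
  obtain ⟨hgen, -, -⟩ := local_main (amb.charP R hR2 hR1) hTsyl (amb.cent_local hR2 hK hTsyl)
  have hJTM : normalizer (joinMaxAb 0 T : Set G) ≤ M := by
    rcases eq_or_lt_of_le hTS with h | h
    · rw [h]; exact hNJM
    · refine hbig h _ (fun hJ => ?_) (hT2.to_le (joinMaxAb_le 0 T))
        fun s _ hs => normalizer_le_normalizer_joinMaxAb 0 T hs
      obtain ⟨A, hA⟩ := exists_isMaxAb 0 T
      obtain ⟨⟨x, hx⟩, hx1⟩ : ∃ x : T, x ≠ 1 := by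
        haveI : Nontrivial T := (Subgroup.nontrivial_iff_ne_bot T).2 hT1
        exact exists_ne 1
      have hA0 : A = ⊥ := le_bot_iff.1 (hJ ▸ le_joinMaxAb hA)
      have h3 := hA.max (zpowers x) (zpowers_le.2 hx) inferInstance (fun _ _ => pow_zero _)
      rw [hA0, Subgroup.card_bot, Nat.card_zpowers] at h3
      exact hx1 (Subtype.ext (orderOf_eq_one_iff.1 (le_antisymm h3 (orderOf_pos x))))
  obtain ⟨X₁, hX₁, hX₁M⟩ : ∃ X, Par (Bm T) X ∧ ¬ X ≤ M := by
    by_contra hcon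
    push Not at hcon
    exact hRn (hgen M (inf_le_right.trans hNTM) (inf_le_right.trans hJTM) fun X hX _ => hcon X hX)
  have hTlt : T < SS := lt_of_le_of_ne hTS fun h => hX₁M (hparM X₁ (by rw [hBS, ← h]; exact hX₁))
  -- goodness
  have hgood : ∀ X, Par (Bm T) X → ¬ X ≤ M → Good (Bm T) X := by
    intro X hX hXM N P hN1 hN2 hXN hP hPN hBP
    have hNnot : ¬ normalizer (N : Set G) ≤ M := fun h => hXM (hXN.trans h)
    obtain ⟨hJ, hB⟩ := eq_of_key_le (le_inf hBP ((Bm_le T).trans hTM))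
      (hmax (P ⊓ M) ⟨hP.to_le inf_le_left, inf_le_right, N, hN1, hN2, hNnot, inf_le_left.trans hPN⟩)
    have hPM : P ⊓ M = P := by
      by_contra hne
      obtain ⟨s, hsP, hsPM, hsn⟩ := exists_normalizing' hP (lt_of_le_of_ne inf_le_left hne)
      have h1 := normalizer_le_normalizer_joinMaxAb 0 (P ⊓ M) hsn
      rw [hJ] at h1
      exact hsPM ⟨hsP, hJTM h1⟩
    rwa [hPM] at hB
  by_cases hpairT : ∃ X Y, (Par (Bm T) X ∧ ¬ X ≤ M) ∧ (Par (Bm T) Y ∧ ¬ Y ≤ M) ∧ NoCommon (Bm T) X Y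
  · obtain ⟨X, Y, ⟨hX, hXM⟩, ⟨hY, hYM⟩, hno⟩ := hpairT
    exact Or.inr ⟨Bm T, X, Y, (Bm_le T).trans hTS, hX, hY, hgood X hX hXM, hgood Y hY hYM, hno⟩
  exfalso
  push Not at hpairT
  obtain ⟨N, hN2, hN1, hXN, hgN⟩ := family (𝒳 := {X | Par (Bm T) X ∧ ¬ X ≤ M}) (fun X hX => hX.1)
    ⟨X₁, hX₁, hX₁M⟩
    (fun X hX Y hY => (pair amb hX.1 hY.1 (hgood X hX.1 hX.2)).resolve_right (hpairT X Y hX hY))
  refine hX₁M ((hXN X₁ ⟨hX₁, hX₁M⟩).trans ?_)
  refine hbig hTlt N hN1 hN2 fun s hs hsn => hgN s fun X hX => ⟨Par.map hX.1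
    (normalizer_le_normalizer_Bm T hsn), fun h => hX.2 fun x hx => ?_⟩
  have h1 := h (mem_map_of_mem _ hx)
  have h2 := mul_mem (mul_mem (inv_mem (hSM hs)) h1) (hSM hs)
  simpa [mul_assoc] using h2

end CfsgLib.SmithN
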