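import Cfsg.Agent.Lib.SmithN.Ambient
import Cfsg.Agent.Lib.LocalEven.Baumann

/-!
The subgroups with quotient `S₃` over the Baumann subgroup inside a 2-local subgroup.
-/

set_option autoImplicit false
set_option linter.style.haveILetI false

open Subgroup CfsgLib.PLoc

namespace CfsgLib.SmithN

/-- The permutation of three letters as a matrix over the field with two elements. -/
def permMat (σ : Equiv.Perm (Fin 3)) : Matrix (Fin 2) (Fin 2) (ZMod 2) :=
  let v : Fin 3 → Fin 2 → ZMod 2 := ![![1, 0], ![0, 1], ![1, 1]]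
  Matrix.of fun r c => v (σ c.castSucc) r

theorem permMat_det : ∀ σ, (permMat σ).det = 1 := by decide

theorem permMat_mul : ∀ σ τ, permMat (σ * τ) = permMat σ * permMat τ := by decide

theorem permMat_inj : ∀ σ τ, permMat σ = permMat τ → σ = τ := by decide

theorem perm_center : ∀ σ : Equiv.Perm (Fin 3), (∀ τ, σ * τ = τ * σ) → σ = 1 := by decide

theorem perm_equiv_psl :
    Nonempty (Equiv.Perm (Fin 3) ≃* Matrix.ProjectiveSpecialLinearGroup (Fin 2) (ZMod 2)) := by
  let f : Equiv.Perm (Fin 3) →* Matrix.SpecialLinearGroup (Fin 2) (ZMod 2) :=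
    MonoidHom.mk' (fun σ => ⟨permMat σ, permMat_det σ⟩) fun σ τ => Subtype.ext (permMat_mul σ τ)
  have hfi : Function.Injective f := fun σ τ h => permMat_inj σ τ (congrArg Subtype.val h)
  have hfs : Function.Surjective f := by
    have hb : Function.Bijective f := (Nat.bijective_iff_injective_and_card f).2 ⟨hfi, by
      rw [CfsgLib.Linear.card_SL_two, Nat.card_perm, Nat.card_fin, ZMod.card]; decide⟩
    exact hb.2
  let g := (QuotientGroup.mk' (Subgroup.center (Matrix.SpecialLinearGroup (Fin 2) (ZMod 2)))).comp f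
  refine ⟨MulEquiv.ofBijective g ⟨?_, (QuotientGroup.mk'_surjective _).comp hfs⟩⟩
  rw [injective_iff_map_eq_one]
  intro σ hσ
  have h1 : f σ ∈ Subgroup.center _ := (QuotientGroup.eq_one_iff _).1 hσ
  exact perm_center σ fun τ => hfi (by rw [map_mul, map_mul]; exact (mem_center_iff.1 h1 (f τ)).symm)

/-- An element of `Fin n → S₃` as a product of its components. -/
theorem mem_of_mulSingle_mem {n : ℕ} (S : Subgroup (Fin n → Equiv.Perm (Fin 3)))
    (h : ∀ i r, Pi.mulSingle i r ∈ S) : S = ⊤ := by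
  have h1 : Subgroup.pi Set.univ (fun _ : Fin n => (⊤ : Subgroup (Equiv.Perm (Fin 3)))) ≤ S :=
    Subgroup.pi_le_iff.2 fun i => by
      rw [Subgroup.map_le_iff_le_comap]
      exact fun r _ => h i r
  exact eq_top_iff.2 fun f _ => h1 fun i _ => mem_top _

variable {G : Type*} [Group G] [Finite G]

/-- The structure of a 2-local subgroup in terms of the subgroups with quotient `S₃` over the Baumann
subgroup of its Sylow subgroup. -/
theorem local_main {K T : Subgroup G} [Group.IsSolvable K] (hK : CfsgLib.Even.HasCharP 2 K)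
    (hT : IsSyl T K) (hZ : K ⊓ centralizer (Oz T : Set G) ≤ normalizer (T : Set G)) :
    (∀ M : Subgroup G, K ⊓ normalizer (T : Set G) ≤ M → K ⊓ normalizer (joinMaxAb 0 T : Set G) ≤ M →
        (∀ X, Par (Bm T) X → X ≤ K → X ≤ M) → K ≤ M) ∧
    (∀ X Y, Par (Bm T) X → X ≤ K → Par (Bm T) Y → Y ≤ K → Y ≤ normalizer (O2r X : Set G)) ∧
    (∀ X Q : Subgroup G, Par (Bm T) X → X ≤ K → Q ≤ Bm T → K ≤ normalizer (Q : Set G) →
        Nat.card (Bm T) ≤ 2 * Nat.card Q → K ≤ normalizer (X : Set G)) := by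
  classical
  haveI := Fact.mk Nat.prime_two
  obtain ⟨n, L0, p0, hL0K, hKL0, hRL0, hJL0, hps, hker, hlift, hBJR, hgen⟩ := core_ambient hK hT hZ
  set R := CfsgLib.Even.pOf 2 K with hR
  set J := joinMaxAb 0 T with hJdef
  set B := Bm T with hBdef
  have hR2 : IsPGroup 2 R := CfsgLib.Even.pOf_isPGroup K
  have hKR : K ≤ normalizer (R : Set G) := CfsgLib.Even.le_normalizer_pOf K
  have hRT : R ≤ T := hT.le_of_normal hR2 (CfsgLib.Even.pOf_le K) (hT.le.trans hKR)
  have hJB : J ≤ B := joinMaxAb_le_Bm T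
  have hBT : B ≤ T := Bm_le T
  have hBL0 : B ≤ L0 := hBJR.trans (sup_le hJL0 hRL0)
  have hB2 : IsPGroup 2 B := hT.two.to_le hBT
  have hT0 : IsPGroup 2 ↥(T.subgroupOf L0) := hT.two.comap_of_injective L0.subtype L0.subtype_injective
  choose j hjJ hji hjk using hlift
  let s : Fin n → Equiv.Perm (Fin 3) := fun i => p0 (j i) i
  let Tt : Subgroup (Fin n → Equiv.Perm (Fin 3)) := Subgroup.pi Set.univ fun i => zpowers (s i)
  have hsingle : ∀ i, p0 (j i) = Pi.mulSingle i (s i) := fun i => by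
    funext k
    by_cases hki : k = i
    · subst hki; rw [Pi.mulSingle_eq_same]
    · rw [Pi.mulSingle_eq_of_ne hki]; exact hjk i k hki
  have himgT : (T.subgroupOf L0).map p0 ≤ Tt := by
    rintro _ ⟨x, hx, rfl⟩ i -
    have h2 := (hT0.map p0).map (Pi.evalMonoidHom (fun _ => Equiv.Perm (Fin 3)) i)
    rcases eq_one_or_eq h2 ⟨_, mem_map_of_mem p0 (show j i ∈ T.subgroupOf L0 from
        joinMaxAb_le 0 T (hjJ i)), rfl⟩ (hji i) ⟨_, mem_map_of_mem p0 hx, rfl⟩ with h | h
    · show p0 x i ∈ zpowers (s i)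
      rw [show p0 x i = 1 from h]; exact one_mem _
    · show p0 x i ∈ zpowers (s i)
      rw [show p0 x i = s i from h]; exact mem_zpowers _
  have himgB : Tt ≤ (B.subgroupOf L0).map p0 := Subgroup.pi_le_iff.2 fun i => by
    rw [Subgroup.map_le_iff_le_comap, zpowers_le, mem_comap]
    exact ⟨j i, hJB (hjJ i), hsingle i⟩
  have hkerm : ∀ x : ↥L0, p0 x = 1 → (x : G) ∈ R := fun x hx => hker ▸ mem_map_of_mem L0.subtype hx
  have hT0BR : T ⊓ L0 ≤ B ⊔ R := by
    intro x hx
    obtain ⟨b, hb, hbx⟩ := himgB (himgT (mem_map_of_mem p0 (show (⟨x, hx.2⟩ : ↥L0) ∈ T.subgroupOf L0 from hx.1)))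
    have h1 := hkerm (b⁻¹ * ⟨x, hx.2⟩) (by rw [map_mul, map_inv, hbx, inv_mul_cancel])
    rw [show x = (b : G) * ((b : G)⁻¹ * x) by rw [mul_inv_cancel_left]]
    exact mul_mem (mem_sup_left hb) (mem_sup_right h1)
  let E : Fin n → Subgroup (Fin n → Equiv.Perm (Fin 3)) := fun i =>
    Subgroup.pi Set.univ fun k => if k = i then ⊤ else zpowers (s k)
  let P : Fin n → Subgroup G := fun i => ((E i).comap p0).map L0.subtype
  have hPL0 : ∀ i, P i ≤ L0 := fun i => map_subtype_le _
  have hmemP : ∀ i (x : ↥L0), (x : G) ∈ P i ↔ p0 x ∈ E i := fun i x => by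
    constructor
    · rintro ⟨y, hy, hyx⟩
      rwa [show x = y from Subtype.ext hyx.symm]
    · exact fun h => ⟨x, h, rfl⟩
  have hTtE : ∀ i, Tt ≤ E i := fun i f hf k hk => by
    show f k ∈ if k = i then (⊤ : Subgroup (Equiv.Perm (Fin 3))) else zpowers (s k)
    split
    · exact mem_top _
    · exact hf k hk
  have hT0P : ∀ i, T ⊓ L0 ≤ P i := fun i x hx =>
    (hmemP i ⟨x, hx.2⟩).2 (hTtE i (himgT (mem_map_of_mem p0 (show (⟨x, hx.2⟩ : ↥L0) ∈ T.subgroupOf L0 from hx.1))))
  have hRP : ∀ i, R ≤ P i := fun i => (le_inf hRT hRL0).trans (hT0P i)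
  have hBP : ∀ i, B ≤ P i := fun i => (le_inf hBT hBL0).trans (hT0P i)
  have hPK : ∀ i, P i ≤ K := fun i => (hPL0 i).trans hL0K
  -- the coordinate homomorphisms
  let pc : ∀ i, ↥(P i) →* Equiv.Perm (Fin 3) := fun i =>
    ((Pi.evalMonoidHom (fun _ => Equiv.Perm (Fin 3)) i).comp p0).comp (Subgroup.inclusion (hPL0 i))
  have hpcs : ∀ i, Function.Surjective (pc i) := by
    intro i r
    obtain ⟨x, hx⟩ := hps (Pi.mulSingle i r)
    have hxP : (x : G) ∈ P i := (hmemP i x).2 (by
      rw [hx]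
      intro k _
      show (Pi.mulSingle i r : Fin n → Equiv.Perm (Fin 3)) k ∈ if k = i then (⊤ : Subgroup (Equiv.Perm (Fin 3))) else zpowers (s k)
      split
      · exact mem_top _
      · next h => rw [Pi.mulSingle_eq_of_ne h]; exact one_mem _)
    refine ⟨⟨x, hxP⟩, ?_⟩
    show p0 ⟨(x : G), _⟩ i = r
    rw [show (⟨(x : G), hPL0 i hxP⟩ : ↥L0) = x from Subtype.ext rfl, hx, Pi.mulSingle_eq_same]
  have hpck : ∀ i (x : ↥(P i)), pc i x = 1 → (x : G) ∈ T ⊓ L0 := by
    intro i x hx
    have hmem : p0 ⟨(x : G), hPL0 i x.2⟩ ∈ Tt := by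
      intro k _
      have h := (hmemP i ⟨(x : G), hPL0 i x.2⟩).1 x.2 k (Set.mem_univ k)
      by_cases hki : k = i
      · subst hki
        show p0 ⟨(x : G), _⟩ k ∈ zpowers (s k)
        rw [show p0 ⟨(x : G), hPL0 k x.2⟩ k = 1 from hx]; exact one_mem _
      · simpa [if_neg hki] using h
    obtain ⟨b, hb, hbx⟩ := himgB hmem
    have h1 := hkerm (b⁻¹ * ⟨(x : G), hPL0 i x.2⟩) (by rw [map_mul, map_inv, hbx, inv_mul_cancel])
    refine ⟨?_, hPL0 i x.2⟩
    rw [show (x : G) = (b : G) * ((b : G)⁻¹ * x) by rw [mul_inv_cancel_left]]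
    exact mul_mem (hBT hb) (hRT h1)
  have hcardP : ∀ i, Nat.card (P i) = 3 * Nat.card ↥(T ⊓ L0 : Subgroup G) := by
    intro i
    have h6 : (pc i).ker.index = 6 := by
      rw [Subgroup.index_ker, MonoidHom.range_eq_top.2 (hpcs i), Subgroup.card_top, Nat.card_perm, Nat.card_fin]
      decide
    have hk : (pc i).ker ≤ (T ⊓ L0).subgroupOf (P i) := fun x hx => hpck i x hx
    set W := (T ⊓ L0).subgroupOf (P i) with hW
    have hWc : Nat.card W = Nat.card ↥(T ⊓ L0 : Subgroup G) :=
      Nat.card_congr (subgroupOfEquivOfLe (hT0P i)).toEquiv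
    have hW2 : IsPGroup 2 W := (hT.two.to_le inf_le_left).comap_of_injective (P i).subtype (P i).subtype_injective
    have hrel := Subgroup.relIndex_mul_index hk
    rw [h6] at hrel
    have hcm := (pc i).ker.card_mul_index
    rw [h6] at hcm
    have hWm := W.card_mul_index
    -- the image of `W` is a 2-subgroup containing an involution
    have himg : Nat.card (W.map (pc i)) = 2 := by
      have h2 := hW2.map (pc i)
      have hmem : s i ∈ W.map (pc i) := ⟨⟨(j i : G), hT0P i ⟨joinMaxAb_le 0 T (hjJ i), (j i).2⟩⟩,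
        ⟨joinMaxAb_le 0 T (hjJ i), (j i).2⟩, by
          show p0 ⟨((j i : ↥L0) : G), _⟩ i = p0 (j i) i
          rfl⟩
      have heq : W.map (pc i) = zpowers (s i) := le_antisymm (fun r hr => by
        rcases eq_one_or_eq h2 hmem (hji i) hr with h | h
        · rw [h]; exact one_mem _
        · rw [h]; exact mem_zpowers _) (zpowers_le.2 hmem)
      rw [heq, Nat.card_zpowers]
      refine orderOf_eq_prime ?_ (hji i)
      rcases eq_one_or_eq h2 hmem (hji i) (mul_mem hmem hmem) with h | h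
      · rw [pow_two]; exact h
      · exact absurd (mul_eq_left.1 h) (hji i)
    have hrw : (pc i).ker.relIndex W = 2 := by rw [Subgroup.relIndex_ker]; exact himg
    rw [hrw] at hrel
    have hWi : W.index = 3 := by omega
    rw [hWi, hWc] at hWm
    omega
  -- the subgroups generated by the conjugates of `B`
  let M : Fin n → Subgroup G := fun i =>
    (normalClosure (B.subgroupOf (P i) : Set ↥(P i))).map (P i).subtype
  have hMP : ∀ i, M i ≤ P i := fun i => map_subtype_le _
  have hPM : ∀ i, P i ≤ normalizer (M i : Set G) := fun i => by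
    have h := le_normalizer_map (H := normalClosure (B.subgroupOf (P i) : Set ↥(P i))) (P i).subtype
    rw [normalizer_eq_top, ← MonoidHom.range_eq_map, range_subtype] at h
    exact h
  have hBM : ∀ i, B ≤ M i := fun i b hb =>
    ⟨⟨b, hBP i hb⟩, subset_normalClosure hb, rfl⟩
  have hMle : ∀ i (U : Subgroup G), B ≤ U → P i ≤ normalizer (U : Set G) → M i ≤ U := by
    intro i U hBU hU
    rw [Subgroup.map_le_iff_le_comap]
    haveI : (U.subgroupOf (P i)).Normal := Subgroup.normal_subgroupOf_of_le_normalizer hU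
    show normalClosure (B.subgroupOf (P i) : Set ↥(P i)) ≤ U.subgroupOf (P i)
    exact normalClosure_le_normal fun b hb => hBU hb
  -- an element of order three of `P i`
  have hy : ∀ i, ∃ y ∈ P i, y ∉ normalizer ((T ⊓ L0 : Subgroup G) : Set G) := by
    intro i
    obtain ⟨t, ht⟩ : ∃ t : Equiv.Perm (Fin 3), t * s i * t⁻¹ ≠ 1 ∧ t * s i * t⁻¹ ≠ s i := by
      have key : ∀ r : Equiv.Perm (Fin 3), r ≠ 1 → r ^ 3 ≠ 1 → ∃ g, g * r * g⁻¹ ≠ 1 ∧ g * r * g⁻¹ ≠ r := by
        decide
      refine key _ (hji i) fun h => hji i ?_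
      have h2 : IsPGroup 2 (((T.subgroupOf L0).map p0).map (Pi.evalMonoidHom (fun _ => Equiv.Perm (Fin 3)) i)) :=
        (hT0.map p0).map _
      refine odd_eq_one h2 ⟨_, mem_map_of_mem p0 (show j i ∈ T.subgroupOf L0 from joinMaxAb_le 0 T (hjJ i)), rfl⟩ ?_
      exact (show Odd 3 by decide).of_dvd_nat (orderOf_dvd_of_pow_eq_one h)
    obtain ⟨y, hy⟩ := hpcs i t
    refine ⟨y, y.2, fun hn => ?_⟩
    have hjT : (j i : G) ∈ T ⊓ L0 := ⟨joinMaxAb_le 0 T (hjJ i), (j i).2⟩
    have hc : (y : G) * (j i : G) * (y : G)⁻¹ ∈ T ⊓ L0 := (mem_normalizer_iff.1 hn _).1 hjT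
    have h2 := himgT (mem_map_of_mem p0
      (show (⟨_, hc.2⟩ : ↥L0) ∈ T.subgroupOf L0 from hc.1)) i (Set.mem_univ i)
    have hval : p0 (⟨(y : G), hPL0 i y.2⟩ * j i * ⟨(y : G), hPL0 i y.2⟩⁻¹) i = t * s i * t⁻¹ := by
      rw [map_mul, map_mul, map_inv, Pi.mul_apply, Pi.mul_apply, Pi.inv_apply,
        show p0 ⟨(y : G), hPL0 i y.2⟩ i = t from hy]
    have h3 : t * s i * t⁻¹ ∈ zpowers (s i) := hval ▸ h2
    have h4 : IsPGroup 2 (zpowers (s i)) := by
      refine (((hT0.map p0).map (Pi.evalMonoidHom (fun _ => Equiv.Perm (Fin 3)) i))).to_le (zpowers_le.2 ?_)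
      exact ⟨_, mem_map_of_mem p0 (show j i ∈ T.subgroupOf L0 from joinMaxAb_le 0 T (hjJ i)), rfl⟩
    rcases eq_one_or_eq h4 (mem_zpowers _) (hji i) h3 with h | h
    · exact ht.1 h
    · exact ht.2 h
  have hcharP : ∀ i, CfsgLib.Even.HasCharP 2 (P i) := fun i =>
    CfsgLib.Even.hasCharP_of_pOf_le hK (hRP i) (hPK i)
  have hnc : ∀ i, ∀ y ∈ P i, y ∉ normalizer ((T ⊓ L0 : Subgroup G) : Set G) →
      y ∉ centralizer (Oz T : Set G) := by
    intro i y hy hyn hyc
    refine hyn (inf_normalizer_le_normalizer_inf ⟨hZ ⟨hPK i hy, hyc⟩, ?_⟩)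
    exact hKL0 (hPK i hy)
  -- the Baumann argument
  have hbau : ∀ i, T ⊓ L0 ⊓ M i ≤ B := by
    intro i
    set S0 : Subgroup G := T ⊓ L0 with hS0
    have hS02 : IsPGroup 2 S0 := hT.two.to_le inf_le_left
    have hSc : Nat.card (S0.subgroupOf (P i)) = Nat.card S0 :=
      Nat.card_congr (subgroupOfEquivOfLe (hT0P i)).toEquiv
    have hidx : (S0.subgroupOf (P i)).index = 3 := by
      have h := (S0.subgroupOf (P i)).card_mul_index
      rw [hSc, hcardP i, mul_comm 3] at h
      exact Nat.eq_of_mul_eq_mul_left Nat.card_pos h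
    let SP : Sylow 2 ↥(P i) := (hS02.comap_of_injective (P i).subtype (P i).subtype_injective).toSylow (by
      show ¬ 2 ∣ (S0.subgroupOf (P i)).index
      rw [hidx]; decide)
    obtain ⟨e⟩ := perm_equiv_psl
    have hcP := (CfsgLib.Even.hasCharP_iff (P i)).1 (hcharP i)
    have hco : IsCoatom (S0.subgroupOf (P i)) := by
      refine ⟨fun h => ?_, fun U hU => ?_⟩
      · rw [h, Subgroup.index_top] at hidx; exact absurd hidx (by decide)
      · have h3 := Subgroup.relIndex_mul_index hU.le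
        rw [hidx] at h3
        rcases (Nat.dvd_prime Nat.prime_three).1 (Dvd.intro_left _ h3) with h | h
        · exact Subgroup.index_eq_one.1 h
        · exfalso
          rw [h] at h3
          have h4 : (S0.subgroupOf (P i)).relIndex U = 1 := by omega
          exact hU.ne (le_antisymm hU.le (Subgroup.relIndex_eq_one.1 h4))
    have hR1 : CfsgLib.LocalEven.Baumann.RankOne 2 SP (pc i).ker (ZMod 2) 1 := by
      refine ⟨hcP, ⟨S0.subgroupOf (P i), ⟨hco, le_rfl⟩, fun U hU => ?_⟩, le_rfl, by rw [ZMod.card]; norm_num,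
        e.toMonoidHom.comp (pc i), e.surjective.comp (hpcs i), ?_⟩
      · rcases hco.le_iff.1 (hU.2 : S0.subgroupOf (P i) ≤ U) with h | h
        · exact absurd h hU.1.1
        · exact h
      · ext x
        simp [MonoidHom.mem_ker]
    have hnot : ¬ ((SP : Subgroup ↥(P i)) ⊓ centralizer ((SP : Subgroup ↥(P i)) : Set ↥(P i))).Normal := by
      intro hn
      obtain ⟨y, hyP, hyn⟩ := hy i
      set Z0 := (SP : Subgroup ↥(P i)) ⊓ centralizer ((SP : Subgroup ↥(P i)) : Set ↥(P i)) with hZ0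
      haveI := hn
      have hSC : (SP : Subgroup ↥(P i)) ≤ centralizer (Z0 : Set ↥(P i)) := fun t ht =>
        mem_centralizer_iff.2 fun z hz => (mem_centralizer_iff.1 hz.2 t ht).symm
      have htop : centralizer (Z0 : Set ↥(P i)) = ⊤ := by
        rcases hco.le_iff.1 (hSC : S0.subgroupOf (P i) ≤ _) with h | h
        · exact h
        · exfalso
          apply hyn
          have hnn : (S0.subgroupOf (P i)).Normal := h ▸ (inferInstance : (centralizer (Z0 : Set ↥(P i))).Normal)
          exact (Subgroup.normal_subgroupOf_iff_le_normalizer (hT0P i)).1 hnn hyP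
      refine hnc i y hyP hyn (mem_centralizer_iff.2 fun z hz => ?_)
      obtain ⟨z1, z2, z3⟩ := mem_Oz.1 hz
      have hzR : z ∈ R := by
        refine hK z (hT.le z1) fun q hq => ?_
        exact z2 q (hRT hq)
      have hzS : z ∈ S0 := ⟨z1, hRL0 hzR⟩
      have hz0 : (⟨z, hT0P i hzS⟩ : ↥(P i)) ∈ Z0 :=
        ⟨hzS, mem_centralizer_iff.2 fun t ht => Subtype.ext (z2 _ ht.1)⟩
      exact congrArg Subtype.val
        (mem_centralizer_iff.1 (htop.ge (mem_top (⟨y, hyP⟩ : ↥(P i)))) _ hz0)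
    have hb := CfsgLib.LocalEven.Baumann.baumann hR1 hnot
    have hJ0 : joinMaxAb 0 T ≤ S0 := le_inf (joinMaxAb_le 0 T) hJL0
    have hinter : interMaxAb 0 S0 = interMaxAb 0 T :=
      interMaxAb_eq_of_join (join_eq_of_between inf_le_left hJ0)
    have hSmap : (SP : Subgroup ↥(P i)).map (P i).subtype = S0 := map_subgroupOf_eq_of_le (hT0P i)
    have hBS : Bm S0 = B := le_antisymm
      (fun x hx => ⟨hx.1.1, hinter ▸ hx.2⟩) (fun x hx => ⟨⟨hx.1, hBL0 hx⟩, hinter.symm ▸ hx.2⟩)
    have hBmap : (Bm (SP : Subgroup ↥(P i))).map (P i).subtype = B := by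
      rw [← Bm_map _ (P i).subtype_injective, hSmap, hBS]
    have hBsub : Bm (SP : Subgroup ↥(P i)) = B.subgroupOf (P i) := by
      rw [← hBmap]
      exact (comap_map_eq_self_of_injective (P i).subtype_injective _).symm
    intro x hx
    obtain ⟨w, hw, hwx⟩ := hx.2
    have hwS : w ∈ (SP : Subgroup ↥(P i)) := show (w : G) ∈ S0 by
      rw [show (w : G) = x from hwx]; exact hx.1
    have h5 : w ∈ Bm (SP : Subgroup ↥(P i)) := hb.le ⟨hwS, by
      change w ∈ normalClosure ((Bm (SP : Subgroup ↥(P i)) : Subgroup ↥(P i)) : Set ↥(P i))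
      rw [hBsub]; exact hw⟩
    rw [hBsub] at h5
    exact hwx ▸ h5
  -- the subgroups `M i` are as wanted
  have hMnot : ∀ i, ¬ M i ≤ T ⊓ L0 := by
    intro i hle
    obtain ⟨y, hyP, hyn⟩ := hy i
    have hMB : M i = B := le_antisymm ((le_inf hle le_rfl).trans (hbau i)) (hBM i)
    have hyB : y ∈ normalizer (B : Set G) := hMB ▸ hPM i hyP
    apply hyn
    have heq : T ⊓ L0 = B ⊔ R := le_antisymm hT0BR (sup_le (le_inf hBT hBL0) (le_inf hRT hRL0))
    rw [mem_normalizer_iff_map_conj_eq]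
    show (T ⊓ L0).map (MulAut.conj y).toMonoidHom = T ⊓ L0
    rw [heq, Subgroup.map_sup, map_conj_of_mem hyB, map_conj_of_mem (hKR (hPK i hyP))]
  have hPsup : ∀ i, P i = M i ⊔ (T ⊓ L0) := by
    intro i
    refine (eq_of_le_of_card_ge (sup_le (hMP i) (hT0P i)) ?_).symm
    set U := M i ⊔ (T ⊓ L0) with hU
    have h1 : Nat.card ↥(T ⊓ L0 : Subgroup G) ∣ Nat.card U := card_dvd_of_le le_sup_right
    have h2 : Nat.card U ∣ 3 * Nat.card ↥(T ⊓ L0 : Subgroup G) :=
      hcardP i ▸ card_dvd_of_le (sup_le (hMP i) (hT0P i))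
    obtain ⟨d, hd⟩ := h1
    rw [hd, mul_comm 3] at h2
    rcases (Nat.dvd_prime Nat.prime_three).1 (Nat.dvd_of_mul_dvd_mul_left Nat.card_pos h2) with rfl | rfl
    · exfalso
      refine hMnot i ?_
      have h3 : T ⊓ L0 = U := eq_of_le_of_card_ge le_sup_right (by omega)
      exact le_sup_left.trans h3.ge
    · rw [hcardP i, hd]; omega
  have hMcard : ∀ i, Nat.card (M i) = 3 * Nat.card B := by
    intro i
    have h := CfsgLib.PLoc.card_sup_mul_card_inf (H := T ⊓ L0) (N := M i) ((hT0P i).trans (hPM i))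
    have hinf : T ⊓ L0 ⊓ M i = B := le_antisymm (hbau i) (le_inf (le_inf hBT hBL0) (hBM i))
    rw [sup_comm, ← hPsup, hcardP, hinf] at h
    have hpos : 0 < Nat.card ↥(T ⊓ L0 : Subgroup G) := Nat.card_pos
    refine Nat.eq_of_mul_eq_mul_left hpos ?_
    rw [← h]; ring
  have hMpar : ∀ i, Par B (M i) := by
    intro i
    refine ⟨hBM i, hB2, hMcard i, ⟨(pc i).comp (Subgroup.inclusion (hMP i)), ?_, ?_⟩,
      CfsgLib.Even.hasCharP_of_normal (hcharP i) (hMP i) (hPM i), ?_, fun U hBU hU => ?_⟩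
    · -- surjectivity
      set f := (pc i).comp (Subgroup.inclusion (hMP i)) with hf
      have hn : f.range.Normal := by
        have h0 : f.range = ((M i).subgroupOf (P i)).map (pc i) := by
          ext r
          constructor
          · rintro ⟨x, rfl⟩; exact ⟨_, x.2, rfl⟩
          · rintro ⟨x, hx, rfl⟩; exact ⟨⟨x, hx⟩, rfl⟩
        rw [h0]
        haveI : ((M i).subgroupOf (P i)).Normal := Subgroup.normal_subgroupOf_of_le_normalizer (hPM i)
        exact Subgroup.Normal.map inferInstance _ (hpcs i)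
      have hmem : s i ∈ f.range := ⟨⟨(j i : G), hBM i (hJB (hjJ i))⟩, rfl⟩
      have key : ∀ r : Equiv.Perm (Fin 3), r ≠ 1 → r * r = 1 → ∀ g : Equiv.Perm (Fin 3),
          g = 1 ∨ (∃ a, g = a * r * a⁻¹) ∨ ∃ a c, g = a * r * a⁻¹ * (c * r * c⁻¹) := by decide +kernel
      have hs2 : s i * s i = 1 := by
        have h2 := (hT0.map p0).map (Pi.evalMonoidHom (fun _ => Equiv.Perm (Fin 3)) i)
        have hm : s i ∈ ((T.subgroupOf L0).map p0).map (Pi.evalMonoidHom (fun _ => Equiv.Perm (Fin 3)) i) :=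
          ⟨_, mem_map_of_mem p0 (show j i ∈ T.subgroupOf L0 from joinMaxAb_le 0 T (hjJ i)), rfl⟩
        rcases eq_one_or_eq h2 hm (hji i) (mul_mem hm hm) with h | h
        · exact h
        · exact absurd (mul_eq_left.1 h) (hji i)
      intro g
      rcases key (s i) (hji i) hs2 g with rfl | ⟨a, rfl⟩ | ⟨a, c, rfl⟩
      · exact ⟨1, map_one _⟩
      · exact hn.conj_mem _ hmem a
      · exact f.range.mul_mem (hn.conj_mem _ hmem a) (hn.conj_mem _ hmem c)
    · intro x
      have hx : ((x : ↥(M i)) : G) ∈ T ⊓ L0 := hpck i (Subgroup.inclusion (hMP i) x) x.2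
      obtain ⟨k, hk⟩ := hT.two ⟨_, hx.1⟩
      exact ⟨k, Subtype.ext (Subtype.ext (congrArg Subtype.val hk :))⟩
    · intro hle
      obtain ⟨y, hyP, hyn⟩ := hy i
      rw [hPsup i] at hyP
      have h1 : M i ⊔ (T ⊓ L0) ≤ centralizer (Oz T : Set G) :=
        sup_le (hle.trans (centralizer_le (Oz_le_Oz_Bm T))) (inf_le_left.trans (le_centralizer_Oz T))
      exact hnc i y (hPsup i ▸ hyP) hyn (h1 hyP)
    · refine (hMle i (M i ⊓ U) (le_inf (hBM i) hBU) ?_).trans inf_le_right
      rw [hPsup i]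
      have hMU : M i ≤ normalizer ((M i ⊓ U : Subgroup G) : Set G) :=
        (le_inf le_normalizer hU).trans inf_normalizer_le_normalizer_inf
      refine sup_le hMU ?_
      -- every conjugate of `B` under `T₀ M` is a conjugate under `M`
      intro t ht
      have htB : t ∈ normalizer (B : Set G) := normalizer_le_normalizer_Bm T (le_normalizer ht.1)
      have htM : t ∈ normalizer (M i : Set G) := hPM i (hT0P i ht)
      let U' : Subgroup G := closure {x | ∃ m ∈ M i, ∃ b ∈ B, x = m * b * m⁻¹}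
      have hU'M : M i ≤ U' := by
        refine hMle i U' (fun b hb => subset_closure ⟨1, one_mem _, b, hb, by simp⟩) fun p hp => ?_
        rw [hPsup i] at hp
        refine (?_ : M i ⊔ (T ⊓ L0) ≤ normalizer (U' : Set G)) hp
        rw [sup_le_iff]
        have hstep : ∀ g : G, g ∈ normalizer (M i : Set G) →
            (∀ b ∈ B, ∃ m ∈ M i, ∃ b' ∈ B, g * b * g⁻¹ = m * b' * m⁻¹) →
            U' ≤ U'.comap (MulAut.conj g).toMonoidHom := by
          intro g hg hgB
          rw [closure_le]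
          rintro _ ⟨m, hm, b, hb, rfl⟩
          obtain ⟨m', hm', b', hb', e'⟩ := hgB b hb
          refine subset_closure ⟨g * m * g⁻¹ * m', mul_mem ((mem_normalizer_iff.1 hg m).1 hm) hm', b', hb', ?_⟩
          calc g * (m * b * m⁻¹) * g⁻¹ = g * m * g⁻¹ * (g * b * g⁻¹) * (g * m⁻¹ * g⁻¹) := by group
            _ = g * m * g⁻¹ * (m' * b' * m'⁻¹) * (g * m⁻¹ * g⁻¹) := by rw [e']
            _ = _ := by group
        constructor
        · intro g hg
          refine mem_normalizer_fintype fun x hx => hstep g (le_normalizer hg) (fun b hb => ⟨g, hg, b, hb, rfl⟩) hx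
        · intro g hg
          refine mem_normalizer_fintype fun x hx => hstep g (hPM i (hT0P i hg)) (fun b hb => ⟨1, one_mem _,
            g * b * g⁻¹, (mem_normalizer_iff.1 (normalizer_le_normalizer_Bm T (le_normalizer hg.1)) b).1 hb,
            by simp⟩) hx
      have hU'U : U' ≤ M i ⊓ U := by
        rw [closure_le]
        rintro _ ⟨m, hm, b, hb, rfl⟩
        exact ⟨(M i).mul_mem ((M i).mul_mem hm (hBM i hb)) ((M i).inv_mem hm), (mem_normalizer_iff.1 (hU hm) b).1 (hBU hb)⟩
      have heq : M i ⊓ U = M i := le_antisymm inf_le_left (hU'M.trans hU'U)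
      rw [heq]; exact htM
  -- every subgroup over `B` is one of the `M i`
  have hclass : ∀ X, Par B X → X ≤ K → ∃ i, X = M i := by
    intro X hX hXK
    have hXL0 : X ≤ L0 := hX.gen L0 hBL0 (hXK.trans hKL0)
    set X0 := (X.subgroupOf L0).map p0 with hX0
    have hTX : Tt ≤ X0 := himgB.trans (Subgroup.map_mono fun x hx => hX.le hx)
    obtain ⟨y, hyX, hy3⟩ := hX.exists_odd
    have hyR : (y : G) ∉ R := fun h => by
      have h1 := odd_eq_one hR2 h (by rw [hy3]; decide)
      rw [h1, orderOf_one] at hy3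
      exact absurd hy3 (by decide)
    set f := p0 ⟨y, hXL0 hyX⟩ with hf
    have hf1 : f ≠ 1 := fun h => hyR (hkerm _ h)
    have hf3 : f ^ 3 = 1 := by
      rw [hf, ← map_pow]
      convert map_one p0
      exact Subtype.ext (by rw [SubgroupClass.coe_pow, ← hy3, pow_orderOf_eq_one]; rfl)
    obtain ⟨i, hfi⟩ : ∃ i, f i ≠ 1 := by
      by_contra h
      push Not at h
      exact hf1 (funext h)
    -- the elements of order three in the image form a subgroup of order three
    have hX03 : ∀ g ∈ X0, g ^ 3 = 1 → g = 1 ∨ g = f ∨ g = f * f := by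
      intro g hg hg3
      obtain ⟨φ, hφs, hφk⟩ := hX.hom
      obtain ⟨x, hx, rfl⟩ := hg
      set y' : ↥X := ⟨y, hyX⟩
      set x' : ↥X := ⟨(x : G), hx⟩
      have hodd : ∀ z : ↥X, φ z = 1 → (p0 ⟨(z : G), hXL0 z.2⟩) ^ 3 = 1 → p0 ⟨(z : G), hXL0 z.2⟩ = 1 := by
        intro z hz hz3
        obtain ⟨k, hk⟩ := hφk ⟨z, hz⟩
        have hk' : (z : G) ^ 2 ^ k = 1 := congrArg (fun w : φ.ker => ((w : ↥X) : G)) hk
        have h4 : (p0 ⟨(z : G), hXL0 z.2⟩) ^ 2 ^ k = 1 := by
          rw [← map_pow]; convert map_one p0; exact Subtype.ext hk'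
        have := pow_gcd_eq_one.2 ⟨hz3, h4⟩
        rwa [Nat.Coprime.pow_right k (show Nat.Coprime 3 2 by decide), pow_one] at this
      have key : ∀ a b : Equiv.Perm (Fin 3), b ^ 3 = 1 → b ≠ 1 → (a = 1 ∨ a = b ∨ a = b * b) ∨ a * a = 1 := by
        decide +kernel
      have hy'3 : φ y' ^ 3 = 1 := by
        rw [← map_pow, show y' ^ 3 = 1 from Subtype.ext (by
          rw [SubgroupClass.coe_pow, ← hy3]; exact pow_orderOf_eq_one y), map_one]
      have hy'1 : φ y' ≠ 1 := fun h => hf1 (hodd y' h hf3)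
      set p : ↥X →* (Fin n → Equiv.Perm (Fin 3)) := p0.comp (Subgroup.inclusion hXL0) with hp
      have hpx : p x' = p0 x := rfl
      have hpy : p y' = f := rfl
      have hker' : ∀ z, φ z = 1 → ∃ k : ℕ, p z ^ 2 ^ k = 1 := fun z hz => by
        obtain ⟨k, hk⟩ := hφk ⟨z, hz⟩
        exact ⟨k, by rw [← map_pow, show z ^ 2 ^ k = 1 from congrArg Subtype.val hk, map_one]⟩
      have hcomm : ∀ a b : Fin n → Equiv.Perm (Fin 3), a ^ 3 = 1 → b ^ 3 = 1 → (a * b) ^ 3 = 1 := by
        intro a b ha hb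
        have key2 : ∀ a b : Equiv.Perm (Fin 3), a ^ 3 = 1 → b ^ 3 = 1 → (a * b) ^ 3 = 1 := by decide +kernel
        funext k
        exact key2 _ _ (congrFun ha k) (congrFun hb k)
      have fin : ∀ z, φ z = 1 → p z ^ 3 = 1 → p z = 1 := fun z hz hz3 => hodd z hz hz3
      rcases key (φ x') (φ y') hy'3 hy'1 with h | h
      · rcases h with h | h | h
        · exact Or.inl (hpx ▸ fin x' h (hpx.symm ▸ hg3))
        · right; left
          have h1 := fin (x' * y' * y') (by rw [map_mul, map_mul, h, ← pow_two, ← pow_succ, hy'3])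
            (by
              rw [map_mul, map_mul, hpx, hpy]
              exact hcomm _ _ (hcomm _ _ hg3 hf3) hf3)
          rw [map_mul, map_mul, hpx, hpy] at h1
          calc p0 x = p0 x * f * f * f := by rw [mul_assoc, mul_assoc, ← pow_two, ← pow_succ', hf3, mul_one]
            _ = f := by rw [h1, one_mul]
        · right; right
          have h1 := fin (x' * y') (by rw [map_mul, h, mul_assoc, ← pow_two, ← pow_succ', hy'3])
            (by rw [map_mul, hpx, hpy]; exact hcomm _ _ hg3 hf3)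
          rw [map_mul, hpx, hpy] at h1
          calc p0 x = p0 x * f * (f * f) := by rw [mul_assoc, ← pow_two, ← pow_succ', hf3, mul_one]
            _ = f * f := by rw [h1, one_mul]
      · left
        have hcube : φ x' ^ 3 = φ x' := by rw [pow_succ, pow_two, h, one_mul]
        have h1 := fin (x' * x') (by rw [map_mul, h]) (by
          rw [map_mul, hpx]; exact hcomm _ _ hg3 hg3)
        rw [map_mul, hpx] at h1
        calc p0 x = p0 x ^ 3 * p0 x := by rw [hg3, one_mul]
          _ = (p0 x * p0 x) * (p0 x * p0 x) := by simp only [pow_succ, pow_zero, one_mul, mul_assoc]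
          _ = 1 := by rw [h1, one_mul]
    -- hence `f` is supported at a single coordinate
    have hsupp : ∀ k, k ≠ i → f k = 1 := by
      intro k hki
      by_contra hk
      have key : ∀ r x : Equiv.Perm (Fin 3), r ≠ 1 → r * r = 1 → x ^ 3 = 1 → x ≠ 1 → r * x * r⁻¹ = x * x := by
        decide +kernel
      have hsi : Pi.mulSingle i (s i) ∈ X0 := hTX fun l _ => by
        by_cases h : l = i
        · subst h
          show (Pi.mulSingle l (s l) : Fin n → Equiv.Perm (Fin 3)) l ∈ zpowers (s l)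
          rw [Pi.mulSingle_eq_same]; exact mem_zpowers _
        · show (Pi.mulSingle i (s i) : Fin n → Equiv.Perm (Fin 3)) l ∈ zpowers (s l)
          rw [Pi.mulSingle_eq_of_ne h]; exact one_mem _
      have hfX : f ∈ X0 := mem_map_of_mem p0 (show (⟨y, hXL0 hyX⟩ : ↥L0) ∈ X.subgroupOf L0 from hyX)
      set g := Pi.mulSingle i (s i) * f * (Pi.mulSingle i (s i))⁻¹ with hg
      have hgk : g k = f k := by
        rw [hg, Pi.mul_apply, Pi.mul_apply, Pi.inv_apply, Pi.mulSingle_eq_of_ne hki]; simp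
      have hs2 : s i * s i = 1 := by
        have h2 := (hT0.map p0).map (Pi.evalMonoidHom (fun _ => Equiv.Perm (Fin 3)) i)
        have hm : s i ∈ ((T.subgroupOf L0).map p0).map (Pi.evalMonoidHom (fun _ => Equiv.Perm (Fin 3)) i) :=
          ⟨_, mem_map_of_mem p0 (show j i ∈ T.subgroupOf L0 from joinMaxAb_le 0 T (hjJ i)), rfl⟩
        rcases eq_one_or_eq h2 hm (hji i) (mul_mem hm hm) with h | h
        · exact h
        · exact absurd (mul_eq_left.1 h) (hji i)
      have hgi : g i = f i * f i := by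
        rw [hg, Pi.mul_apply, Pi.mul_apply, Pi.inv_apply, Pi.mulSingle_eq_same]
        exact key _ _ (hji i) hs2 (congrFun hf3 i) hfi
      have hg3 : g ^ 3 = 1 := by rw [hg, conj_pow, hf3, mul_one, mul_inv_cancel]
      rcases hX03 g (mul_mem (mul_mem hsi hfX) (inv_mem hsi)) hg3 with h | h | h
      · rw [h] at hgk; exact hk hgk.symm
      · rw [h] at hgi
        exact hfi (left_eq_mul.1 hgi)
      · rw [h, Pi.mul_apply] at hgk
        exact hk (mul_eq_left.1 hgk)
    refine ⟨i, eq_of_le_of_card_ge ?_ (by rw [hMcard i, hX.card])⟩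
    have hXP : X ≤ P i := by
      rw [← hX.O2r_sup]
      refine sup_le ?_ (hBP i)
      rw [O2r, closure_le]
      rintro z ⟨hz, ho⟩
      refine (hmemP i ⟨z, hXL0 hz⟩).2 fun k _ => ?_
      show p0 ⟨z, hXL0 hz⟩ k ∈ if k = i then (⊤ : Subgroup (Equiv.Perm (Fin 3))) else zpowers (s k)
      by_cases hki : k = i
      · rw [if_pos hki]; exact mem_top _
      · rw [if_neg hki]
        have h3 : p0 ⟨z, hXL0 hz⟩ ^ 3 = 1 := by
          funext l
          show (p0 ⟨z, hXL0 hz⟩ l) ^ 3 = 1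
          have key : ∀ r : Equiv.Perm (Fin 3), r ^ 3 = 1 ∨ r ^ 2 = 1 := by decide
          rcases key (p0 ⟨z, hXL0 hz⟩ l) with h | h
          · exact h
          · have h5 : (p0 ⟨z, hXL0 hz⟩ l) ^ orderOf z = 1 := by
              rw [← Pi.pow_apply, ← map_pow,
                show (⟨z, hXL0 hz⟩ : ↥L0) ^ orderOf z = 1 from Subtype.ext (pow_orderOf_eq_one z), map_one]
              rfl
            have h6 := pow_gcd_eq_one.2 ⟨h, h5⟩
            rw [Nat.Coprime.gcd_eq_one ((Nat.prime_two.coprime_iff_not_dvd).2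
              fun hd => (Nat.not_even_iff_odd.2 ho) (even_iff_two_dvd.2 hd)), pow_one] at h6
            rw [h6, one_pow]
        rcases hX03 _ (mem_map_of_mem p0 (show (⟨z, hXL0 hz⟩ : ↥L0) ∈ X.subgroupOf L0 from hz)) h3 with h | h | h
        · rw [h]; exact one_mem _
        · rw [h, hsupp k hki]; exact one_mem _
        · rw [h, Pi.mul_apply, hsupp k hki, one_mul]; exact one_mem _
    exact hX.gen (M i) (hBM i) (hXP.trans (hPM i))
  -- `L0` is generated by the `P i`
  have hL0gen : L0 ≤ R ⊔ ⨆ i, P i := by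
    intro x hx
    set U := R ⊔ ⨆ i, P i with hU
    have hUL : U ≤ L0 := sup_le hRL0 (iSup_le hPL0)
    have htop : (U.subgroupOf L0).map p0 = ⊤ := mem_of_mulSingle_mem _ fun i r => by
      obtain ⟨z, hz⟩ := hps (Pi.mulSingle i r)
      refine ⟨z, mem_sup_right (mem_iSup_of_mem i ((hmemP i z).2 ?_)), hz⟩
      rw [hz]
      intro k _
      show (Pi.mulSingle i r : Fin n → Equiv.Perm (Fin 3)) k ∈ if k = i then (⊤ : Subgroup (Equiv.Perm (Fin 3))) else zpowers (s k)
      split
      · exact mem_top _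
      · next h => rw [Pi.mulSingle_eq_of_ne h]; exact one_mem _
    obtain ⟨u, hu, hux⟩ := htop.ge (mem_top (p0 ⟨x, hx⟩))
    have h1 := hkerm (u⁻¹ * ⟨x, hx⟩) (by rw [map_mul, map_inv, hux, inv_mul_cancel])
    rw [show x = (u : G) * ((u : G)⁻¹ * x) by rw [mul_inv_cancel_left]]
    exact mul_mem hu (mem_sup_left h1)
  refine ⟨fun M' hN1 hN2 hpar => ?_, fun X Y hX hXK hY hYK => ?_, fun X Q hX hXK hQB hQn hQc => ?_⟩
  · have hTM : T ≤ M' := (le_inf hT.le le_normalizer).trans hN1
    refine hgen.trans (sup_le (sup_le hN1 (hL0gen.trans (sup_le (hRT.trans hTM) (iSup_le fun i => ?_)))) hN2)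
    rw [hPsup i]
    exact sup_le (hpar _ (hMpar i) ((hMP i).trans (hPK i))) (inf_le_left.trans hTM)
  · obtain ⟨i, rfl⟩ := hclass X hX hXK
    have hYL0 : Y ≤ L0 := hY.gen L0 hBL0 (hYK.trans hKL0)
    refine hYL0.trans ?_
    let Ki : Subgroup G := ((Subgroup.pi Set.univ fun k => if k = i then
      (⊤ : Subgroup (Equiv.Perm (Fin 3))) else ⊥).comap p0).map L0.subtype
    have hKiL : Ki ≤ L0 := map_subtype_le _
    have hmemK : ∀ x : ↥L0, (x : G) ∈ Ki ↔ ∀ k, k ≠ i → p0 x k = 1 := fun x => by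
      constructor
      · rintro ⟨w, hw, hwx⟩ k hk
        have h := hw k (Set.mem_univ k)
        rw [show w = x from Subtype.ext hwx] at h
        simpa [if_neg hk] using h
      · intro h
        refine ⟨x, fun k _ => ?_, rfl⟩
        show p0 x k ∈ if k = i then (⊤ : Subgroup (Equiv.Perm (Fin 3))) else ⊥
        split
        · exact mem_top _
        · next hk => rw [h k hk]; exact one_mem _
    have hKiN : L0 ≤ normalizer (Ki : Set G) := fun g hg => mem_normalizer_fintype fun x hx => by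
      refine (hmemK ⟨g * x * g⁻¹, mul_mem (mul_mem hg (hKiL hx)) (inv_mem hg)⟩).2 fun k hk => ?_
      have h := (hmemK ⟨x, hKiL hx⟩).1 hx k hk
      rw [show (⟨g * x * g⁻¹, _⟩ : ↥L0) = ⟨g, hg⟩ * ⟨x, hKiL hx⟩ * ⟨g, hg⟩⁻¹ from Subtype.ext rfl,
        map_mul, map_mul, map_inv, Pi.mul_apply, Pi.mul_apply, Pi.inv_apply, h, mul_one, mul_inv_cancel]
    have hodd : ∀ (Z : Subgroup G), Z ≤ P i → ∀ z ∈ Z, Odd (orderOf z) → z ∈ Ki := by
      intro Z hZP z hz ho
      refine (hmemK ⟨z, hPL0 i (hZP hz)⟩).2 fun k hk => ?_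
      have h := (hmemP i ⟨z, hPL0 i (hZP hz)⟩).1 (hZP hz) k (Set.mem_univ k)
      simp only [if_neg hk] at h
      have h4 : IsPGroup 2 (zpowers (s k)) := by
        refine (((hT0.map p0).map (Pi.evalMonoidHom (fun _ => Equiv.Perm (Fin 3)) k))).to_le (zpowers_le.2 ?_)
        exact ⟨_, mem_map_of_mem p0 (show j k ∈ T.subgroupOf L0 from joinMaxAb_le 0 T (hjJ k)), rfl⟩
      refine odd_eq_one h4 h (ho.of_dvd_nat ?_)
      refine orderOf_dvd_of_pow_eq_one ?_
      rw [← Pi.pow_apply, ← map_pow, show (⟨z, hPL0 i (hZP hz)⟩ : ↥L0) ^ orderOf z = 1 from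
        Subtype.ext (pow_orderOf_eq_one z), map_one]
      rfl
    have hPKi : O2r (P i) = O2r (M i) := by
      refine le_antisymm ((closure_le _).2 ?_) (O2r_mono (hMP i))
      rintro z ⟨hz, ho⟩
      refine mem_O2r ?_ ho
      -- the index of `M i` in `P i` is a power of two
      haveI : ((M i).subgroupOf (P i)).Normal := Subgroup.normal_subgroupOf_of_le_normalizer (hPM i)
      have hq : IsPGroup 2 (↥(P i) ⧸ (M i).subgroupOf (P i)) := by
        intro w
        obtain ⟨v, rfl⟩ := QuotientGroup.mk_surjective w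
        have hv : (v : G) ∈ ((T ⊓ L0 ⊔ M i : Subgroup G) : Set G) := by
          have h := v.2
          have e : P i = T ⊓ L0 ⊔ M i := by rw [hPsup i, sup_comm]
          exact e.le h
        rw [coe_mul_of_left_le_normalizer_right _ _ ((hT0P i).trans (hPM i))] at hv
        obtain ⟨t, ht, m, hm, htm⟩ := hv
        obtain ⟨k, hk⟩ := hT.two ⟨t, ht.1⟩
        refine ⟨k, ?_⟩
        have e1 : (QuotientGroup.mk v : ↥(P i) ⧸ (M i).subgroupOf (P i)) =
            QuotientGroup.mk ⟨t, hT0P i ht⟩ := by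
          refine QuotientGroup.eq.2 ?_
          show (v : G)⁻¹ * t ∈ M i
          rw [← htm, show (t * m)⁻¹ * t = m⁻¹ by group]
          exact (M i).inv_mem hm
        rw [e1, ← QuotientGroup.mk_pow, QuotientGroup.eq_one_iff]
        show t ^ 2 ^ k ∈ M i
        rw [show t ^ 2 ^ k = 1 from congrArg Subtype.val hk]
        exact one_mem _
      have hgcd : (QuotientGroup.mk ⟨z, hz⟩ : ↥(P i) ⧸ (M i).subgroupOf (P i)) = 1 := by
        refine odd_eq_one (P := ⊤) (hq.of_equiv Subgroup.topEquiv.symm) (mem_top _) (ho.of_dvd_nat ?_)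
        refine orderOf_dvd_of_pow_eq_one ?_
        rw [← QuotientGroup.mk_pow, show (⟨z, hz⟩ : ↥(P i)) ^ orderOf z = 1 from
          Subtype.ext (pow_orderOf_eq_one z)]
        rfl
      exact (QuotientGroup.eq_one_iff (⟨z, hz⟩ : ↥(P i))).1 hgcd
    have hKP : O2r Ki = O2r (P i) := by
      refine le_antisymm (O2r_mono ?_) ((closure_le _).2 ?_)
      · rintro _ ⟨w, hw, rfl⟩
        refine (hmemP i w).2 fun k _ => ?_
        have h := hw k (Set.mem_univ k)
        show p0 w k ∈ if k = i then (⊤ : Subgroup (Equiv.Perm (Fin 3))) else zpowers (s k)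
        by_cases hk : k = i
        · rw [if_pos hk]; exact mem_top _
        · simp only [if_neg hk] at h ⊢
          rw [show p0 w k = 1 from h]; exact one_mem _
      · rintro z ⟨hz, ho⟩
        exact mem_O2r (hodd _ le_rfl z hz ho) ho
    rw [← hPKi, ← hKP]
    exact hKiN.trans (normalizer_le_normalizer_O2r Ki)
  · obtain ⟨i, rfl⟩ := hclass X hX hXK
    have hQR : Q ≤ R := CfsgLib.Even.le_pOf (hQB.trans (hBT.trans hT.le)) hQn (hB2.to_le hQB)
    have hBR : Nat.card B ≤ 2 * Nat.card ↥(B ⊓ R : Subgroup G) :=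
      hQc.trans (Nat.mul_le_mul_left 2 (Subgroup.card_le_of_le (le_inf hQB hQR)))
    have hone : ∀ k, k = i := by
      intro k
      by_contra hki
      let g : ↥B →* Equiv.Perm (Fin 3) × Equiv.Perm (Fin 3) :=
        ((Pi.evalMonoidHom (fun _ => Equiv.Perm (Fin 3)) i).prod
          (Pi.evalMonoidHom (fun _ => Equiv.Perm (Fin 3)) k)).comp (p0.comp (Subgroup.inclusion hBL0))
      have hker' : (B ⊓ R).subgroupOf B ≤ g.ker := by
        intro x hx
        have h0 : p0 (Subgroup.inclusion hBL0 x) = 1 := by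
          have hxR : (x : G) ∈ p0.ker.map L0.subtype := hker.symm ▸ (hx.2 : (x : G) ∈ R)
          obtain ⟨w, hw, hwx⟩ := hxR
          rwa [show Subgroup.inclusion hBL0 x = w from Subtype.ext hwx.symm]
        show ((p0 (Subgroup.inclusion hBL0 x)) i, (p0 (Subgroup.inclusion hBL0 x)) k) = 1
        rw [h0]; rfl
      have h4 : 4 ≤ Nat.card g.range := by
        have ha : (s i, (1 : Equiv.Perm (Fin 3))) ∈ g.range := ⟨⟨(j i : G), hJB (hjJ i)⟩, by
          show (p0 (j i) i, p0 (j i) k) = _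
          rw [hjk i k hki]⟩
        have hb : ((1 : Equiv.Perm (Fin 3)), s k) ∈ g.range := ⟨⟨(j k : G), hJB (hjJ k)⟩, by
          show (p0 (j k) i, p0 (j k) k) = _
          rw [hjk k i (Ne.symm hki)]⟩
        have h : Nat.card (Fin 4) ≤ Nat.card g.range := by
          refine Nat.card_le_card_of_injective
            ![⟨1, one_mem _⟩, ⟨_, ha⟩, ⟨_, hb⟩, ⟨_, mul_mem ha hb⟩] ?_
          intro a b hab
          fin_cases a <;> fin_cases b <;>
            simp [Subtype.ext_iff, Prod.ext_iff, hji i, hji k, Ne.symm (hji i), Ne.symm (hji k), s] at hab ⊢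
        rwa [Nat.card_fin] at h
      have h5 := g.ker.card_mul_index
      rw [Subgroup.index_ker] at h5
      have h6 : Nat.card ↥(B ⊓ R : Subgroup G) ≤ Nat.card g.ker := by
        rw [← Nat.card_congr (subgroupOfEquivOfLe (inf_le_left : B ⊓ R ≤ B)).toEquiv]
        exact Subgroup.card_le_of_le hker'
      have h7 : 0 < Nat.card g.ker := Nat.card_pos
      nlinarith
    have hPeq : P i = L0 := by
      refine le_antisymm (hPL0 i) fun x hx => (hmemP i ⟨x, hx⟩).2 fun k _ => ?_
      show p0 ⟨x, hx⟩ k ∈ if k = i then (⊤ : Subgroup (Equiv.Perm (Fin 3))) else zpowers (s k)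
      rw [if_pos (hone k)]; exact mem_top _
    have hstep : K ⊓ normalizer (B : Set G) ≤ normalizer (M i : Set G) := by
      intro g hg
      have hgL : g ∈ normalizer (L0 : Set G) := hKL0 hg.1
      rw [mem_normalizer_iff_map_conj_eq]
      show (M i).map (MulAut.conj g).toMonoidHom = M i
      refine (eq_of_le_of_card_ge ?_ (card_map_of_injective (conj_injective g)).le).symm
      refine hMle i _ ?_ ?_
      · calc B = B.map (MulAut.conj g).toMonoidHom := (map_conj_of_mem hg.2).symm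
          _ ≤ _ := Subgroup.map_mono (hBM i)
      · rw [hPeq]
        calc L0 = L0.map (MulAut.conj g).toMonoidHom := (map_conj_of_mem hgL).symm
          _ ≤ _ := (Subgroup.map_mono (hPeq ▸ hPM i)).trans (le_normalizer_map _)
    have hCT : ∀ U : Subgroup G, IsPGroup 2 U → U ≤ K ⊓ centralizer (interMaxAb 0 T : Set G) → U ≤ T := by
      intro U hU hle
      obtain ⟨S', hS', hTS'⟩ := exists_isSyl hT.two (le_refl T |>.trans hT.le)
      have hUn : U ≤ normalizer (T : Set G) := fun u hu =>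
        hZ ⟨(hle hu).1, centralizer_le (Oz_le_inter T) (hle hu).2⟩
      exact le_sup_left.trans (hT.max _ (hU.to_sup_of_normal_right' hT.two hUn) le_sup_right
        (sup_le (hle.trans inf_le_left) hT.le)).le
    have hNJ : K ⊓ normalizer (J : Set G) ≤ normalizer (B : Set G) := by
      intro g hg
      have hgc : g ∈ normalizer ((K ⊓ centralizer (interMaxAb 0 T : Set G) : Subgroup G) : Set G) :=
        inf_normalizer_le_normalizer_inf ⟨le_normalizer hg.1,
          normalizer_join_le_normalizer_centralizer_inter T hg.2⟩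
      have h := map_conj_inf_le hT.two hCT hgc
      have heq : T ⊓ (K ⊓ centralizer (interMaxAb 0 T : Set G)) = B := by
        rw [← inf_assoc, inf_eq_left.2 hT.le]; rfl
      rwa [heq] at h
    exact hgen.trans (sup_le (sup_le ((le_inf inf_le_left
      (inf_le_right.trans (normalizer_le_normalizer_Bm T))).trans hstep) (hPeq ▸ hPM i))
      ((le_inf inf_le_left hNJ).trans hstep))

end CfsgLib.SmithN
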