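import Cfsg.Agent.Lib.SmithN.Global

/-!
A subgroup with quotient `S₃` over `B` which is isomorphic to `S₄` or to its product with a group of order
two.
-/

set_option autoImplicit false
set_option linter.style.haveILetI false

open Subgroup CfsgLib.PLoc

namespace CfsgLib.SmithN

/-- Membership of the normal four-group of `S₄`. -/
def inV (x : Equiv.Perm (Fin 4)) : Prop :=
  x = 1 ∨ x = Equiv.swap 0 1 * Equiv.swap 2 3 ∨ x = Equiv.swap 0 2 * Equiv.swap 1 3 ∨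
    x = Equiv.swap 0 3 * Equiv.swap 1 2

instance : DecidablePred inV := fun x => by unfold inV; infer_instance

theorem inV_mul : ∀ a b, inV a → inV b → inV (a * b) ∧ a * b = b * a ∧ a * a = 1 := by decide +kernel

theorem inV_conj : ∀ g a, inV a → inV (g * a * g⁻¹) := by decide +kernel

theorem four_cases : ∀ x, ¬ inV x → ∃ g : Equiv.Perm (Fin 4), (x * (g * x * g⁻¹)) ^ 3 = 1 ∧ x * (g * x * g⁻¹) ≠ 1
    ∨ x ^ 3 = 1 := by decide +kernel

theorem inV_comm : ∀ x, (∀ v, inV v → x * v = v * x) → inV x := by decide +kernel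

theorem inV_commutator : ∀ v, inV v → ∃ u y : Equiv.Perm (Fin 4), inV u ∧ y ^ 3 = 1 ∧ y * u * y⁻¹ * u⁻¹ = v := by
  decide +kernel

/-- The three involutions of the normal four-group. -/
def vv : Fin 3 → Equiv.Perm (Fin 4) :=
  ![Equiv.swap 0 1 * Equiv.swap 2 3, Equiv.swap 0 2 * Equiv.swap 1 3, Equiv.swap 0 3 * Equiv.swap 1 2]

theorem exists_vv {a : Equiv.Perm (Fin 4)} (h : inV a) (h1 : a ≠ 1) : ∃ i, vv i = a := by
  rcases h with h | h | h | h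
  · exact absurd h h1
  · exact ⟨0, h.symm⟩
  · exact ⟨1, h.symm⟩
  · exact ⟨2, h.symm⟩

theorem inV_two_trans (a b c d : Equiv.Perm (Fin 4)) (ha : inV a) (hb : inV b) (hc : inV c) (hd : inV d)
    (ha1 : a ≠ 1) (hb1 : b ≠ 1) (hc1 : c ≠ 1) (hd1 : d ≠ 1) (hab : a ≠ b) (hcd : c ≠ d) :
    ∃ g : Equiv.Perm (Fin 4), g * a * g⁻¹ = c ∧ g * b * g⁻¹ = d := by
  have key : ∀ i j k l : Fin 3, i ≠ j → k ≠ l →
      ∃ g : Equiv.Perm (Fin 4), g * vv i * g⁻¹ = vv k ∧ g * vv j * g⁻¹ = vv l := by decide +kernel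
  obtain ⟨i, rfl⟩ := exists_vv ha ha1
  obtain ⟨j, rfl⟩ := exists_vv hb hb1
  obtain ⟨k, rfl⟩ := exists_vv hc hc1
  obtain ⟨l, rfl⟩ := exists_vv hd hd1
  exact key i j k l (fun e => hab (by rw [e])) (fun e => hcd (by rw [e]))

theorem inV_unique (x a b : Equiv.Perm (Fin 4)) (hx : ¬ inV x) (hx4 : x ^ 4 = 1) (ha : inV a) (hb : inV b)
    (ha1 : a ≠ 1) (hb1 : b ≠ 1) (hxa : x * a = a * x) (hxb : x * b = b * x) : a = b := by
  have key : ∀ i j : Fin 3, ∀ x : Equiv.Perm (Fin 4),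
      x * vv i = vv i * x → x * vv j = vv j * x → i = j ∨ inV x ∨ x ^ 4 ≠ 1 := by decide +kernel
  obtain ⟨i, rfl⟩ := exists_vv ha ha1
  obtain ⟨j, rfl⟩ := exists_vv hb hb1
  rcases key i j x hxa hxb with h | h | h
  · rw [h]
  · exact absurd h hx
  · exact absurd hx4 h

theorem z2_sq : ∀ u : Multiplicative (ZMod 2), u * u = 1 := by decide

theorem z2_cases : ∀ a b : Multiplicative (ZMod 2), a ≠ 1 → b = 1 ∨ b = a := by decide

theorem S4_center : ∀ x : Equiv.Perm (Fin 4), (∀ g, x * g = g * x) → x = 1 := by decide +kernel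

theorem inV_of_four : ∀ x : Equiv.Perm (Fin 4), ¬ inV x → x ^ 8 = 1 → x ^ 4 = 1 := by decide +kernel

variable {G : Type*} [Group G] [Finite G] {B X : Subgroup G}

/-- The facts about one side of the amalgam. -/
structure Side (B X W : Subgroup G) (e : G) (ψ : ↥X →* Equiv.Perm (Fin 4)) : Prop where
  par : Par B X
  surj : Function.Surjective ψ
  core : ∀ x : ↥X, (x : G) ∈ CfsgLib.Even.pOf 2 X ↔ inV (ψ x)
  sq : ∀ q ∈ CfsgLib.Even.pOf 2 X, q * q = 1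
  comm : ∀ q ∈ CfsgLib.Even.pOf 2 X, ∀ r ∈ CfsgLib.Even.pOf 2 X, q * r = r * q
  W_eq : W = CfsgLib.Even.pOf 2 X ⊓ O2r X
  W_card : Nat.card W = 4
  W_inj : ∀ x : ↥X, (x : G) ∈ W → ψ x = 1 → x = 1
  W_surj : ∀ v, inV v → ∃ x : ↥X, (x : G) ∈ W ∧ ψ x = v
  ker : ∀ x : ↥X, ψ x = 1 ↔ (x : G) = 1 ∨ (x : G) = e
  e_mem : e ∈ CfsgLib.Even.pOf 2 X
  e_central : ∀ x ∈ X, x * e = e * x
  e_odd : e ∈ O2r X → e = 1
  card : Nat.card X = 24 * Nat.card (zpowers e)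

theorem side_of_hom (hpar : Par B X) (ψ : ↥X →* Equiv.Perm (Fin 4)) (χ : ↥X →* Multiplicative (ZMod 2))
    (hs : Function.Surjective ψ) (hinj : ∀ x, ψ x = 1 → χ x = 1 → x = 1) :
    ∃ W e, Side B X W e ψ := by
  classical
  haveI := Fact.mk Nat.prime_two
  have hχ2 := z2_sq
  have hker2 : ∀ x : ↥X, ψ x = 1 → x * x = 1 := fun x hx =>
    hinj _ (by rw [map_mul, hx, one_mul]) (by rw [map_mul, hχ2])
  have hkerc : ∀ x : ↥X, ψ x = 1 → ∀ g : ↥X, g * x = x * g := by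
    intro x hx g
    have h : ψ (g * x * g⁻¹ * x⁻¹) = 1 := by
      rw [map_mul, map_mul, map_mul, map_inv, map_inv, hx]; simp
    have h' : χ (g * x * g⁻¹ * x⁻¹) = 1 := by
      rw [map_mul, map_mul, map_mul, map_inv, map_inv, mul_comm (χ g) (χ x)]; simp
    have := hinj _ h h'
    rw [mul_inv_eq_one, mul_inv_eq_iff_eq_mul] at this
    exact this
  set Q := CfsgLib.Even.pOf 2 X with hQ
  -- the core
  let N : Subgroup ↥X :=
    { carrier := {x | inV (ψ x)}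
      one_mem' := by show inV (ψ 1); rw [map_one]; exact Or.inl rfl
      mul_mem' := fun {a b} ha hb => by
        show inV (ψ (a * b)); rw [map_mul]; exact (inV_mul _ _ ha hb).1
      inv_mem' := fun {a} ha => by
        show inV (ψ a⁻¹)
        rw [map_inv, inv_eq_of_mul_eq_one_right (inV_mul _ _ ha ha).2.2]; exact ha }
  have hNn : N.Normal := ⟨fun a ha g => by show inV _; rw [map_mul, map_mul, map_inv]; exact inV_conj _ _ ha⟩
  have hN2 : IsPGroup 2 N := by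
    intro a
    refine ⟨2, Subtype.ext ?_⟩
    have h1 : ψ ((a : ↥X) * a) = 1 := by rw [map_mul]; exact (inV_mul _ _ a.2 a.2).2.2
    have h2 := hker2 _ h1
    rw [SubgroupClass.coe_pow, show (2 : ℕ) ^ 2 = 2 * 2 by norm_num, pow_mul, pow_two, pow_two, h2]
    rfl
  have hcore : ∀ x : ↥X, (x : G) ∈ Q ↔ inV (ψ x) := by
    intro x
    constructor
    · intro hx
      by_contra hv
      haveI := CfsgLib.Solvable.pCore_normal 2 ↥X
      have hxc : x ∈ Cfsg.pCore 2 ↥X := by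
        obtain ⟨x', hx', hxx'⟩ := hx
        rwa [show x = x' from Subtype.ext hxx'.symm]
      set P := (Cfsg.pCore 2 ↥X).map ψ
      have hPn : P.Normal := Subgroup.Normal.map inferInstance ψ hs
      have hP2 : IsPGroup 2 P := (CfsgLib.Solvable.pCore_isPGroup 2 ↥X).map ψ
      have hm : ψ x ∈ P := mem_map_of_mem ψ hxc
      obtain ⟨g, h | h⟩ := four_cases _ hv
      · refine h.2 (odd_eq_one hP2 (mul_mem hm (hPn.conj_mem _ hm g)) ?_)
        exact (show Odd 3 by decide).of_dvd_nat (orderOf_dvd_of_pow_eq_one h.1)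
      · refine hv ?_
        rw [odd_eq_one hP2 hm ((show Odd 3 by decide).of_dvd_nat (orderOf_dvd_of_pow_eq_one h))]
        exact Or.inl rfl
    · intro hv
      exact ⟨x, CfsgLib.Solvable.le_pCore hNn hN2 hv, rfl⟩
  have hQX : Q ≤ X := CfsgLib.Even.pOf_le X
  have hsq : ∀ q ∈ Q, q * q = 1 := fun q hq => congrArg Subtype.val
    (hinj (⟨q, hQX hq⟩ * ⟨q, hQX hq⟩)
      (by rw [map_mul]; exact (inV_mul _ _ ((hcore ⟨q, hQX hq⟩).1 hq) ((hcore ⟨q, hQX hq⟩).1 hq)).2.2)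
      (by rw [map_mul, hχ2]))
  have hcomm : ∀ q ∈ Q, ∀ r ∈ Q, q * r = r * q := by
    intro q hq r hr
    have h2 : (q * r) * (q * r) = 1 := hsq _ (mul_mem hq hr)
    calc q * r = (q * r)⁻¹ := (inv_eq_of_mul_eq_one_right h2).symm
      _ = r * q := by rw [mul_inv_rev, inv_eq_of_mul_eq_one_right (hsq q hq),
          inv_eq_of_mul_eq_one_right (hsq r hr)]
  -- odd elements
  have hodd : ∀ x : ↥X, (x : G) ∈ O2r X → χ x = 1 := by
    intro x hx
    have key : ∀ g ∈ O2r X, ∀ hg : g ∈ X, χ ⟨g, hg⟩ = 1 := by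
      intro g hg
      refine closure_induction (fun y hy hyX => ?_) (fun h => ?_) ?_ ?_ hg
      · have h1 : (⟨y, hyX⟩ : ↥X) ^ orderOf y = 1 := Subtype.ext (pow_orderOf_eq_one y)
        have h2 : (χ ⟨y, hyX⟩) ^ orderOf y = 1 := by rw [← map_pow, h1, map_one]
        obtain ⟨k, hk⟩ := hy.2
        rw [hk, pow_succ, pow_mul, pow_two, hχ2, one_pow, one_mul] at h2
        exact h2
      · exact map_one χ
      · intro a b ha hb iha ihb hab
        rw [show (⟨a * b, hab⟩ : ↥X) = ⟨a, O2r_le X ha⟩ * ⟨b, O2r_le X hb⟩ from rfl, map_mul, iha, ihb, one_mul]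
      · intro a ha iha hai
        rw [show (⟨a⁻¹, hai⟩ : ↥X) = ⟨a, O2r_le X ha⟩⁻¹ from rfl, map_inv, iha, inv_one]
    exact key _ hx x.2
  set W := Q ⊓ O2r X with hW
  have hWinj : ∀ x : ↥X, (x : G) ∈ W → ψ x = 1 → x = 1 := fun x hx h => hinj x h (hodd x hx.2)
  have hWsurj : ∀ v, inV v → ∃ x : ↥X, (x : G) ∈ W ∧ ψ x = v := by
    intro v hv
    obtain ⟨u, y, hu, hy3, huy⟩ := inV_commutator v hv
    obtain ⟨a, rfl⟩ := hs u
    obtain ⟨b0, hb0⟩ := hs y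
    set b := b0 ^ 4 with hb
    have hψb : ψ b = y := by rw [hb, map_pow, hb0, pow_succ, hy3, one_mul]
    have hb3 : b ^ 3 = 1 := by
      have h1 : ψ (b0 ^ 3) = 1 := by rw [map_pow, hb0, hy3]
      have h2 := hker2 _ h1
      rw [hb, ← pow_mul, show 4 * 3 = 3 * 2 * 2 by norm_num, pow_mul, pow_mul, pow_two (b0 ^ 3), h2, one_pow]
    have hbO : (b : G) ∈ O2r X := mem_O2r b.2 ((show Odd 3 by decide).of_dvd_nat
      (orderOf_dvd_of_pow_eq_one (by rw [← SubgroupClass.coe_pow, hb3]; rfl)))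
    refine ⟨b * a * b⁻¹ * a⁻¹, ⟨?_, ?_⟩, by rw [map_mul, map_mul, map_mul, map_inv, map_inv, hψb, huy]⟩
    · refine (hcore _).2 ?_
      rw [map_mul, map_mul, map_mul, map_inv, map_inv, hψb, huy]
      exact hv
    · have hn : X ≤ normalizer (O2r X : Set G) := le_normalizer.trans (normalizer_le_normalizer_O2r X)
      have h1 : (a : G) * (b : G)⁻¹ * (a : G)⁻¹ ∈ O2r X :=
        (mem_normalizer_iff.1 (hn a.2) _).1 ((O2r X).inv_mem hbO)
      have h2 := (O2r X).mul_mem hbO h1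
      simpa [mul_assoc] using h2
  have hWX : W ≤ X := inf_le_left.trans hQX
  have hW4 : Nat.card W = 4 := by
    let f : W → {v : Equiv.Perm (Fin 4) // inV v} := fun w => ⟨ψ ⟨w, hWX w.2⟩, (hcore _).1 w.2.1⟩
    have hb : Function.Bijective f := by
      refine ⟨fun a b hab => ?_, fun v => ?_⟩
      · have h1 : ψ ⟨a, hWX a.2⟩ = ψ ⟨b, hWX b.2⟩ := congrArg Subtype.val hab
        have h2 := hWinj (⟨a, hWX a.2⟩⁻¹ * ⟨b, hWX b.2⟩) (mul_mem (inv_mem a.2) b.2)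
          (by rw [map_mul, map_inv, h1, inv_mul_cancel])
        have h3 := inv_mul_eq_one.1 h2
        exact Subtype.ext (congrArg Subtype.val h3 :)
      · obtain ⟨x, hx, hxv⟩ := hWsurj v v.2
        exact ⟨⟨x, hx⟩, Subtype.ext hxv⟩
    rw [Nat.card_congr (Equiv.ofBijective f hb), Nat.card_eq_fintype_card]
    decide +kernel
  -- the kernel
  obtain ⟨e, he, heq⟩ : ∃ e : ↥X, ψ e = 1 ∧ ∀ x, ψ x = 1 → x = 1 ∨ x = e := by
    by_cases h : ∃ x : ↥X, ψ x = 1 ∧ x ≠ 1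
    · obtain ⟨e, he, he1⟩ := h
      refine ⟨e, he, fun x hx => ?_⟩
      rcases z2_cases (χ e) (χ x) (fun h => he1 (hinj e he h)) with h | h
      · exact Or.inl (hinj x hx h)
      · refine Or.inr (mul_inv_eq_one.1 (hinj _ (by rw [map_mul, map_inv, hx, he]; simp) ?_))
        rw [map_mul, map_inv, h, mul_inv_cancel]
    · push Not at h
      exact ⟨1, map_one ψ, fun x hx => Or.inl (h x hx)⟩
  refine ⟨W, e, hpar, hs, hcore, hsq, hcomm, rfl, hW4, hWinj, hWsurj, fun x => ?_,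
    (hcore e).2 (by rw [he]; exact Or.inl rfl), fun x hx => ?_, fun h => ?_, ?_⟩
  · constructor
    · intro hx
      rcases heq x hx with h | h
      · exact Or.inl (by rw [h]; rfl)
      · exact Or.inr (by rw [h])
    · rintro (h | h)
      · rw [show x = 1 from Subtype.ext h, map_one]
      · rw [show x = e from Subtype.ext h, he]
  · exact congrArg Subtype.val (hkerc e he ⟨x, hx⟩)
  · exact congrArg Subtype.val (hinj e he (hodd e h))
  · have hk : ψ.ker = zpowers e := by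
      refine le_antisymm (fun x hx => ?_) (zpowers_le.2 he)
      rcases heq x hx with h | h
      · rw [h]; exact one_mem _
      · rw [h]; exact mem_zpowers _
    have h := ψ.ker.card_mul_index
    rw [Subgroup.index_ker, MonoidHom.range_eq_top.2 hs, Subgroup.card_top, Nat.card_perm, Nat.card_fin,
      hk, Nat.card_zpowers, ← orderOf_coe] at h
    rw [← h, Nat.card_zpowers, mul_comm]
    rfl

/-- The two possible sides. -/
theorem side_of_iso (hpar : Par B X) (h : Nonempty (↥X ≃* Equiv.Perm (Fin 4)) ∨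
    Nonempty (↥X ≃* Multiplicative (ZMod 2) × Equiv.Perm (Fin 4))) :
    ∃ W e ψ, Side B X W e ψ := by
  rcases h with ⟨⟨f⟩⟩ | ⟨⟨f⟩⟩
  · obtain ⟨W, e, h⟩ := side_of_hom hpar f.toMonoidHom 1 f.surjective
      (fun x hx _ => f.injective (hx.trans (map_one f).symm))
    exact ⟨W, e, _, h⟩
  · obtain ⟨W, e, h⟩ := side_of_hom hpar ((MonoidHom.snd _ _).comp f.toMonoidHom)
      ((MonoidHom.fst _ _).comp f.toMonoidHom) (Prod.snd_surjective.comp f.surjective)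
      (fun x h1 h2 => f.injective ((Prod.ext h2 h1 : f x = 1).trans (map_one f).symm))
    exact ⟨W, e, _, h⟩

namespace Side

variable {W : Subgroup G} {e : G} {ψ : ↥X →* Equiv.Perm (Fin 4)} (h : Side B X W e ψ)
include h

theorem W_le : W ≤ CfsgLib.Even.pOf 2 X := h.W_eq ▸ inf_le_left

theorem W_odd : W ≤ O2r X := h.W_eq ▸ inf_le_right

theorem W_le_X : W ≤ X := h.W_le.trans (CfsgLib.Even.pOf_le X)

theorem Q_le_B : CfsgLib.Even.pOf 2 X ≤ B := h.par.two_mul_core.2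

theorem normal_W : X ≤ normalizer (W : Set G) := by
  rw [h.W_eq]
  exact (le_inf (CfsgLib.Even.le_normalizer_pOf X)
    (le_normalizer.trans (normalizer_le_normalizer_O2r X))).trans inf_normalizer_le_normalizer_inf

theorem decomp {q : G} (hq : q ∈ CfsgLib.Even.pOf 2 X) : ∃ w ∈ W, q = w ∨ q = w * e := by
  have hqX := CfsgLib.Even.pOf_le X hq
  obtain ⟨x, hx, hxv⟩ := h.W_surj _ ((h.core ⟨q, hqX⟩).1 hq)
  refine ⟨x, hx, ?_⟩
  rcases (h.ker (x⁻¹ * ⟨q, hqX⟩)).1 (by rw [map_mul, map_inv, hxv, inv_mul_cancel]) with hk | hk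
  · exact Or.inl (inv_mul_eq_one.1 hk).symm
  · exact Or.inr (eq_mul_of_inv_mul_eq hk)

theorem cent_W {x : G} (hxX : x ∈ X) (hx : ∀ w ∈ W, x * w = w * x) : x ∈ CfsgLib.Even.pOf 2 X := by
  refine (h.core ⟨x, hxX⟩).2 (inV_comm _ fun v hv => ?_)
  obtain ⟨w, hw, rfl⟩ := h.W_surj v hv
  rw [← map_mul, ← map_mul]
  exact congrArg ψ (Subtype.ext (hx w hw))

theorem transitive {a b : G} (ha : a ∈ W) (hb : b ∈ W) (ha1 : a ≠ 1) (hb1 : b ≠ 1) :
    ∃ x ∈ X, x * a * x⁻¹ = b := by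
  classical
  have haX := h.W_le_X ha
  have hbX := h.W_le_X hb
  have hne : ∀ (c : G) (hcX : c ∈ X), c ∈ W → c ≠ 1 → ψ ⟨c, hcX⟩ ≠ 1 := fun c hcX hc hc1 h1 =>
    hc1 (congrArg Subtype.val (h.W_inj ⟨c, hcX⟩ hc h1))
  have hv : ∀ v, inV v → v ≠ 1 → ∃ v', inV v' ∧ v' ≠ 1 ∧ v ≠ v' := by decide +kernel
  obtain ⟨a', ha', ha'1, haa'⟩ := hv _ ((h.core ⟨a, haX⟩).1 (h.W_le ha)) (hne a haX ha ha1)
  obtain ⟨b', hb', hb'1, hbb'⟩ := hv _ ((h.core ⟨b, hbX⟩).1 (h.W_le hb)) (hne b hbX hb hb1)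
  obtain ⟨g, hg, -⟩ := inV_two_trans _ _ _ _ ((h.core ⟨a, haX⟩).1 (h.W_le ha)) ha'
    ((h.core ⟨b, hbX⟩).1 (h.W_le hb)) hb' (hne a haX ha ha1) ha'1 (hne b hbX hb hb1) hb'1 haa' hbb'
  obtain ⟨x, rfl⟩ := h.surj g
  refine ⟨x, x.2, ?_⟩
  have h2 := h.W_inj (x * ⟨a, haX⟩ * x⁻¹ * ⟨b, hbX⟩⁻¹)
    (mul_mem ((mem_normalizer_iff.1 (h.normal_W x.2) a).1 ha) (inv_mem hb))
    (by rw [map_mul, map_mul, map_mul, map_inv, map_inv, hg, mul_inv_cancel])
  exact congrArg Subtype.val (mul_inv_eq_one.1 h2)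

theorem unique_fixed {x a b : G} (hxB : x ∈ B) (hxQ : x ∉ CfsgLib.Even.pOf 2 X) (ha : a ∈ W) (hb : b ∈ W)
    (ha1 : a ≠ 1) (hb1 : b ≠ 1) (hxa : x * a = a * x) (hxb : x * b = b * x) : a = b := by
  have hxX := h.par.le hxB
  have haX := h.W_le_X ha
  have hbX := h.W_le_X hb
  have hv : ¬ inV (ψ ⟨x, hxX⟩) := fun hv => hxQ ((h.core _).2 hv)
  have h4 : ψ ⟨x, hxX⟩ ^ 4 = 1 := by
    refine inV_of_four _ hv ?_
    obtain ⟨k, hk⟩ := h.par.two ⟨x, hxB⟩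
    have h1 : ψ ⟨x, hxX⟩ ^ 2 ^ k = 1 := by
      rw [← map_pow, show (⟨x, hxX⟩ : ↥X) ^ 2 ^ k = 1 from Subtype.ext (congrArg Subtype.val hk :), map_one]
    have h2 : ψ ⟨x, hxX⟩ ^ Nat.card (Equiv.Perm (Fin 4)) = 1 := pow_card_eq_one'
    rw [Nat.card_perm, Nat.card_fin] at h2
    have h3 := pow_gcd_eq_one.2 ⟨h1, h2⟩
    refine orderOf_dvd_iff_pow_eq_one.1 ((orderOf_dvd_of_pow_eq_one h3).trans ?_)
    obtain ⟨i, -, hi⟩ := (Nat.dvd_prime_pow Nat.prime_two).1 (Nat.gcd_dvd_left (2 ^ k) (Nat.factorial 4))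
    have hd := Nat.gcd_dvd_right (2 ^ k) (Nat.factorial 4)
    rw [hi] at hd ⊢
    have hle : i ≤ 3 := by
      by_contra hlt
      have h16 : 2 ^ 4 ∣ Nat.factorial 4 := (pow_dvd_pow 2 (by omega)).trans hd
      exact absurd h16 (by decide)
    exact (pow_dvd_pow 2 hle).trans (by decide)
  have heq : ψ ⟨a, haX⟩ = ψ ⟨b, hbX⟩ := inV_unique _ _ _ hv h4 ((h.core _).1 (h.W_le ha)) ((h.core _).1 (h.W_le hb))
    (fun h1 => ha1 (congrArg Subtype.val (h.W_inj ⟨a, haX⟩ ha h1)))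
    (fun h1 => hb1 (congrArg Subtype.val (h.W_inj ⟨b, hbX⟩ hb h1)))
    (by rw [← map_mul, ← map_mul]; exact congrArg ψ (Subtype.ext hxa))
    (by rw [← map_mul, ← map_mul]; exact congrArg ψ (Subtype.ext hxb))
  have h2 := h.W_inj (⟨a, haX⟩ * ⟨b, hbX⟩⁻¹) (mul_mem ha (inv_mem hb))
    (by rw [map_mul, map_inv, heq, mul_inv_cancel])
  exact congrArg Subtype.val (mul_inv_eq_one.1 h2)

theorem central {q : G} (hq : q ∈ CfsgLib.Even.pOf 2 X) (hc : ∀ x ∈ X, x * q = q * x) : q = 1 ∨ q = e := by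
  have hqX := CfsgLib.Even.pOf_le X hq
  refine (h.ker ⟨q, hqX⟩).1 (S4_center _ fun g => ?_)
  obtain ⟨x, rfl⟩ := h.surj g
  rw [← map_mul, ← map_mul]
  exact congrArg ψ (Subtype.ext (hc x x.2).symm)

theorem two_trans {a b c d : G} (ha : a ∈ W) (hb : b ∈ W) (hc : c ∈ W) (hd : d ∈ W) (ha1 : a ≠ 1)
    (hb1 : b ≠ 1) (hc1 : c ≠ 1) (hd1 : d ≠ 1) (hab : a ≠ b) (hcd : c ≠ d) :
    ∃ x ∈ X, x * a * x⁻¹ = c ∧ x * b * x⁻¹ = d := by
  have hne : ∀ (u v : G) (hu : u ∈ X) (hv : v ∈ X), u ∈ W → v ∈ W → u ≠ v → ψ ⟨u, hu⟩ ≠ ψ ⟨v, hv⟩ := by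
    intro u v hu hv huW hvW huv he
    have h2 := h.W_inj (⟨u, hu⟩ * ⟨v, hv⟩⁻¹) (mul_mem huW (inv_mem hvW))
      (by rw [map_mul, map_inv, he, mul_inv_cancel])
    exact huv (congrArg Subtype.val (mul_inv_eq_one.1 h2))
  have hne1 : ∀ (u : G) (hu : u ∈ X), u ∈ W → u ≠ 1 → ψ ⟨u, hu⟩ ≠ 1 := fun u hu huW hu1 h1 =>
    hu1 (congrArg Subtype.val (h.W_inj ⟨u, hu⟩ huW h1))
  have haX := h.W_le_X ha
  have hbX := h.W_le_X hb
  have hcX := h.W_le_X hc
  have hdX := h.W_le_X hd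
  obtain ⟨g, hg1, hg2⟩ := inV_two_trans _ _ _ _ ((h.core ⟨a, haX⟩).1 (h.W_le ha)) ((h.core ⟨b, hbX⟩).1 (h.W_le hb))
    ((h.core ⟨c, hcX⟩).1 (h.W_le hc)) ((h.core ⟨d, hdX⟩).1 (h.W_le hd)) (hne1 a haX ha ha1) (hne1 b hbX hb hb1)
    (hne1 c hcX hc hc1) (hne1 d hdX hd hd1) (hne a b haX hbX ha hb hab) (hne c d hcX hdX hc hd hcd)
  obtain ⟨x, rfl⟩ := h.surj g
  refine ⟨x, x.2, ?_, ?_⟩
  · have h2 := h.W_inj (x * ⟨a, haX⟩ * x⁻¹ * ⟨c, hcX⟩⁻¹)
      (mul_mem ((mem_normalizer_iff.1 (h.normal_W x.2) a).1 ha) (inv_mem hc))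
      (by rw [map_mul, map_mul, map_mul, map_inv, map_inv, hg1, mul_inv_cancel])
    exact congrArg Subtype.val (mul_inv_eq_one.1 h2)
  · have h2 := h.W_inj (x * ⟨b, hbX⟩ * x⁻¹ * ⟨d, hdX⟩⁻¹)
      (mul_mem ((mem_normalizer_iff.1 (h.normal_W x.2) b).1 hb) (inv_mem hd))
      (by rw [map_mul, map_mul, map_mul, map_inv, map_inv, hg2, mul_inv_cancel])
    exact congrArg Subtype.val (mul_inv_eq_one.1 h2)

end Side

end CfsgLib.SmithN
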