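import Cfsg.Agent.Lib.SmithN.Side
import Cfsg.Agent.Lib.SmithTwo.Transfer

/-!
The structure of a group with two subgroups with quotient `S₃` over a common 2-group without common normal
subgroup: self-centralizing four-groups in the intersection of a Sylow 2-subgroup with `O²(G)`.
-/

set_option autoImplicit false
set_option linter.style.haveILetI false

open Subgroup CfsgLib.PLoc

namespace CfsgLib.SmithN

variable {G : Type*} [Group G] [Finite G]

/-- The output: a four-group `W` with normalizer `X` and self-centralizing in `H = O²(G)`. -/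
structure FourData (S : Subgroup G) (X W : Subgroup G) : Prop where
  le : W ≤ S ⊓ Cfsg.pResidual 2 G
  card : Nat.card W = 4
  sq : ∀ w ∈ W, w * w = 1
  cent : centralizer (W : Set G) ⊓ Cfsg.pResidual 2 G = W
  norm : normalizer (W : Set G) = X
  iso : Nonempty (↥(X ⊓ Cfsg.pResidual 2 G) ≃* Equiv.Perm (Fin 4))
  core : ∀ N : Subgroup G, IsPGroup 2 N → N ≤ X ⊓ Cfsg.pResidual 2 G →
    X ⊓ Cfsg.pResidual 2 G ≤ normalizer (N : Set G) → N ≤ W

theorem O2r_le_residual (X : Subgroup G) : O2r X ≤ Cfsg.pResidual 2 G :=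
  (closure_le _).2 fun _ hg => subset_closure (Nat.Coprime.symm
    ((Nat.prime_two.coprime_iff_not_dvd).2 fun h => (Nat.not_even_iff_odd.2 hg.2) (even_iff_two_dvd.2 h)))

theorem Amb.bot_ne {S : Subgroup G} (hS : S ≠ ⊥) : ∀ x : S, x ≠ 1 → (x : G) ≠ 1 := fun _ h e => h (Subtype.ext e)

section

variable (amb : Amb G)
include amb

/-- A centralizer of a 2-subgroup is a 2-group as soon as its odd elements fix the 2-core of the normalizer. -/
theorem centralizer_isPGroup {W : Subgroup G} (hW2 : IsPGroup 2 W) (hW1 : W ≠ ⊥)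
    (hfix : ∀ y ∈ centralizer (W : Set G), Odd (orderOf y) →
      ∀ r ∈ CfsgLib.Even.pOf 2 (normalizer (W : Set G)) ⊓ centralizer (W : Set G), r * r = 1 ∧ y * r = r * y) :
    IsPGroup 2 (centralizer (W : Set G)) := by
  haveI := Fact.mk Nat.prime_two
  set K := normalizer (W : Set G) with hK
  have hCK : centralizer (W : Set G) ≤ K := centralizer_le_normalizer _
  rintro ⟨g, hg⟩
  obtain ⟨k, m, hm, hkm⟩ := Nat.exists_eq_two_pow_mul_odd (orderOf_pos g).ne'
  refine ⟨k, Subtype.ext ?_⟩
  show g ^ 2 ^ k = 1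
  set y := g ^ 2 ^ k with hy
  have hyC : y ∈ centralizer (W : Set G) := pow_mem hg _
  have hyo : Odd (orderOf y) := hm.of_dvd_nat (orderOf_dvd_of_pow_eq_one (by
    rw [hy, ← pow_mul, ← hkm, pow_orderOf_eq_one]))
  refine odd_eq_one (CfsgLib.Even.pOf_isPGroup K) (amb.charP W hW2 hW1 y (hCK hyC) fun r hr => ?_) hyo
  have hyr : y * r * y⁻¹ ∈ CfsgLib.Even.pOf 2 K :=
    (mem_normalizer_iff.1 (CfsgLib.Even.le_normalizer_pOf K (hCK hyC)) r).1 hr
  have hCn : r ∈ normalizer ((centralizer (W : Set G) : Subgroup G) : Set G) :=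
    normalizer_le_normalizer_centralizer W (CfsgLib.Even.pOf_le K hr)
  have hq : r⁻¹ * (y * r * y⁻¹) ∈ CfsgLib.Even.pOf 2 K ⊓ centralizer (W : Set G) := by
    refine ⟨(CfsgLib.Even.pOf 2 K).mul_mem ((CfsgLib.Even.pOf 2 K).inv_mem hr) hyr, ?_⟩
    have h1 := (mem_normalizer_iff.1 (inv_mem hCn) y).1 hyC
    have h2 := (centralizer (W : Set G)).mul_mem h1 ((centralizer (W : Set G)).inv_mem hyC)
    simpa [mul_assoc] using h2
  obtain ⟨hq2, hqy⟩ := hfix y hyC hyo _ hq
  set q := r⁻¹ * (y * r * y⁻¹) with hqdef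
  have hiter : ∀ i : ℕ, y ^ i * r * (y ^ i)⁻¹ = r * q ^ i := by
    intro i
    induction i with
    | zero => simp
    | succ i ih =>
      have hyq : y * q ^ i * y⁻¹ = q ^ i := mul_inv_eq_iff_eq_mul.2 ((show Commute y q from hqy).pow_right i).eq
      calc y ^ (i + 1) * r * (y ^ (i + 1))⁻¹ = y * (y ^ i * r * (y ^ i)⁻¹) * y⁻¹ := by rw [pow_succ']; group
        _ = (y * r * y⁻¹) * (y * q ^ i * y⁻¹) := by rw [ih]; group
        _ = r * q * q ^ i := by rw [hyq, hqdef, mul_inv_cancel_left]
        _ = r * q ^ (i + 1) := by rw [pow_succ', mul_assoc]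
  have h3 := hiter (orderOf y)
  obtain ⟨j, hj⟩ := hyo
  rw [pow_orderOf_eq_one, one_mul, inv_one, mul_one, hj, pow_succ, pow_mul, pow_two, hq2, one_pow, one_mul,
    left_eq_mul, hqdef, inv_mul_eq_one] at h3
  exact (mul_inv_eq_iff_eq_mul.1 h3.symm).symm

variable {B X W : Subgroup G} {e : G} {ψ : ↥X →* Equiv.Perm (Fin 4)} (h : Side B X W e ψ) (hg : Good B X)
include h hg

theorem core_facts :
    centralizer (CfsgLib.Even.pOf 2 X : Set G) = CfsgLib.Even.pOf 2 X ∧
    normalizer (CfsgLib.Even.pOf 2 X : Set G) = X ∧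
    centralizer (W : Set G) = CfsgLib.Even.pOf 2 X ∧ normalizer (W : Set G) = X := by
  classical
  haveI := Fact.mk Nat.prime_two
  set Q := CfsgLib.Even.pOf 2 X with hQ
  have hQ2 : IsPGroup 2 Q := CfsgLib.Even.pOf_isPGroup X
  have hW1 : W ≠ ⊥ := fun e => by
    have := h.W_card
    rw [e, Subgroup.card_bot] at this
    exact absurd this (by decide)
  have hQ1 : Q ≠ ⊥ := fun e => hW1 (le_bot_iff.1 (e ▸ h.W_le))
  have hQB : Q ≤ B := h.Q_le_B
  have hBQ : ¬ B ≤ Q := fun hle => by
    have h1 : Nat.card B = 2 * Nat.card Q := h.par.two_mul_core.1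
    have h2 := Subgroup.card_le_of_le hle
    have h3 : 0 < Nat.card Q := Nat.card_pos
    omega
  have hCXQ : ∀ x ∈ X, x ∈ centralizer (Q : Set G) → x ∈ Q := fun x hx hc =>
    h.cent_W hx fun w hw => (mem_centralizer_iff.1 hc w (h.W_le hw)).symm
  have hXn : X ≤ normalizer (Q : Set G) := CfsgLib.Even.le_normalizer_pOf X
  obtain ⟨T, hT, hBT⟩ := exists_isSyl h.par.two (h.par.le.trans hXn)
  have hBm : Bm T = B := hg Q T hQ1 hQ2 hXn hT.two hT.le hBT
  have hZJ : interMaxAb 0 T ≤ Q := by
    have hJ : joinMaxAb 0 B = joinMaxAb 0 T := join_eq_of_between hBT (hBm ▸ joinMaxAb_le_Bm T)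
    rw [← interMaxAb_eq_of_join hJ]
    obtain ⟨A, hA⟩ := exists_isMaxAb 0 B
    haveI := hA.comm
    refine interMaxAb_le ⟨hQB, IsMulCommutative.of_setLike_mul_comm h.comm, fun q _ => pow_zero q,
      fun C hC hc _ => ?_⟩
    by_contra hlt
    push Not at hlt
    have hcB : Nat.card B ∣ Nat.card B := dvd_rfl
    have h1 : Nat.card B = 2 * Nat.card Q := h.par.two_mul_core.1
    obtain ⟨d, hd⟩ := Subgroup.card_dvd_of_le hC
    have hd1 : d = 1 := by
      rcases Nat.lt_or_ge d 2 with hd2 | hd2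
      · interval_cases d
        · have : 0 < Nat.card B := Nat.card_pos
          omega
        · rfl
      · exfalso
        have : Nat.card C * 2 ≤ Nat.card C * d := Nat.mul_le_mul_left _ hd2
        rw [← hd, h1] at this
        change Nat.card Q < Nat.card C at hlt
        omega
    have hCB : C = B := eq_of_le_of_card_ge hC (by rw [hd, hd1, mul_one])
    subst hCB
    refine hBQ fun b hb => hCXQ b (h.par.le hb) (mem_centralizer_iff.2 fun q hq => ?_)
    haveI := hc
    exact setLike_mul_comm (hQB hq) hb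
  have hTC : ∀ P : Subgroup G, IsPGroup 2 P → P ≤ centralizer (Q : Set G) → P ≤ Q := by
    intro P hP hPc
    obtain ⟨k, hk, hkT⟩ := hT.exists_conj hP (hPc.trans (centralizer_le_normalizer _))
    have hkn : k ∈ normalizer ((centralizer (Q : Set G) : Subgroup G) : Set G) :=
      normalizer_le_normalizer_centralizer Q hk
    intro p hp
    have h1 : k * p * k⁻¹ ∈ T := hkT ⟨p, hp, rfl⟩
    have h2 : k * p * k⁻¹ ∈ centralizer (Q : Set G) := (mem_normalizer_iff.1 hkn p).1 (hPc hp)
    have h3 : k * p * k⁻¹ ∈ B := hBm ▸ ⟨h1, centralizer_le hZJ h2⟩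
    exact (mem_normalizer_iff.1 hk p).2 (hCXQ _ (h.par.le h3) h2)
  have hCQ : centralizer (Q : Set G) = Q := by
    refine le_antisymm (hTC _ (centralizer_isPGroup amb hQ2 hQ1 fun y hy _ r hr => ?_) le_rfl) fun q hq =>
      mem_centralizer_iff.2 fun r hr => h.comm r hr q hq
    have hrQ : r ∈ Q := hTC _ ((CfsgLib.Even.pOf_isPGroup _).to_le inf_le_left) inf_le_right hr
    exact ⟨h.sq r hrQ, (mem_centralizer_iff.1 hy r hrQ).symm⟩
  -- the normalizer of the core
  have hKX : normalizer (Q : Set G) ≤ normalizer (X : Set G) := by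
    have := amb.solv Q hQ2 hQ1
    have hloc := (local_main (amb.charP Q hQ2 hQ1) hT (amb.cent_local hQ2 rfl hT)).2.2
    rw [hBm] at hloc
    exact hloc X Q h.par hXn hQB le_rfl (le_of_eq h.par.two_mul_core.1)
  have hNQ : normalizer (Q : Set G) = X := by
    refine le_antisymm (fun k hk => ?_) hXn
    have hkX := hKX hk
    have hkW : k ∈ normalizer (W : Set G) := by
      rw [h.W_eq]
      exact inf_normalizer_le_normalizer_inf ⟨hk, normalizer_le_normalizer_O2r X hkX⟩
    have hkC : ∀ x ∈ X, x * (k * e * k⁻¹) = k * e * k⁻¹ * x := by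
      intro x hx
      have hx' : k⁻¹ * x * k ∈ X := by simpa using (mem_normalizer_iff.1 (inv_mem hkX) x).1 hx
      calc x * (k * e * k⁻¹) = k * ((k⁻¹ * x * k) * e) * k⁻¹ := by group
        _ = k * (e * (k⁻¹ * x * k)) * k⁻¹ := by rw [h.e_central _ hx']
        _ = k * e * k⁻¹ * x := by group
    have hke : k * e * k⁻¹ = e := by
      rcases h.central ((mem_normalizer_iff.1 hk e).1 h.e_mem) hkC with h1 | h1
      · have h2 : e = 1 := by
          rw [mul_inv_eq_one] at h1
          exact mul_eq_left.1 h1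
        rw [h1, h2]
      · exact h1
    obtain ⟨a, ha, ha1⟩ : ∃ a ∈ W, a ≠ 1 := by
      by_contra hc
      push Not at hc
      exact hW1 ((eq_bot_iff_forall W).2 hc)
    obtain ⟨b, hb, hb1, hab⟩ : ∃ b ∈ W, b ≠ 1 ∧ a ≠ b := by
      by_contra hc
      push Not at hc
      have hle : Nat.card W ≤ Nat.card (Fin 2) := by
        refine Nat.card_le_card_of_injective (fun w : W => if (w : G) = 1 then (0 : Fin 2) else 1) ?_
        intro u v huv
        apply Subtype.ext
        by_cases hu : (u : G) = 1 <;> by_cases hv : (v : G) = 1 <;> simp [hu, hv] at huv ⊢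
        exact Subtype.ext ((hc u u.2 hu).symm.trans (hc v v.2 hv))
      rw [h.W_card, Nat.card_fin] at hle
      omega
    have hne : ∀ w, w ≠ 1 → k * w * k⁻¹ ≠ 1 := fun w hw h1 => hw (by
      rwa [mul_inv_eq_one, mul_eq_left] at h1)
    obtain ⟨x, hx, hxa, hxb⟩ := h.two_trans ha hb ((mem_normalizer_iff.1 hkW a).1 ha)
      ((mem_normalizer_iff.1 hkW b).1 hb) ha1 hb1 (hne a ha1) (hne b hb1) hab
      (fun h1 => hab (mul_left_cancel (mul_right_cancel h1)))
    set g := x⁻¹ * k with hgdef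
    have hga : g * a * g⁻¹ = a := by
      calc g * a * g⁻¹ = x⁻¹ * (k * a * k⁻¹) * x := by rw [hgdef]; group
        _ = a := by rw [← hxa]; group
    have hgb : g * b * g⁻¹ = b := by
      calc g * b * g⁻¹ = x⁻¹ * (k * b * k⁻¹) * x := by rw [hgdef]; group
        _ = b := by rw [← hxb]; group
    have hge : g * e * g⁻¹ = e := by
      calc g * e * g⁻¹ = x⁻¹ * (k * e * k⁻¹) * x := by rw [hgdef]; group
        _ = x⁻¹ * (x * e) := by rw [hke, h.e_central x hx, mul_assoc]
        _ = e := inv_mul_cancel_left x e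
    have hgQ : g ∈ centralizer (Q : Set G) := by
      set C := centralizer ({g} : Set G)
      have hCm : ∀ t, g * t * g⁻¹ = t → t ∈ C := fun t ht =>
        mem_centralizer_singleton_iff.2 (mul_inv_eq_iff_eq_mul.1 ht).symm
      have hsup : W ≤ C := by
        intro w hw
        have hWcases : w = 1 ∨ w = a ∨ w = b ∨ w = a * b := by
          by_contra hc
          push Not at hc
          obtain ⟨c1, c2, c3, c4⟩ := hc
          have haa : a * a = 1 := h.sq a (h.W_le ha)
          have hab1 : a * b ≠ 1 := fun h1 => hab (mul_left_cancel (haa.trans h1.symm))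
          have haba : a * b ≠ a := fun h1 => hb1 (mul_eq_left.1 h1)
          have habb : a * b ≠ b := fun h1 => ha1 (mul_eq_right.1 h1)
          have h5 : Nat.card (Fin 5) ≤ Nat.card W := by
            refine Nat.card_le_card_of_injective
              ![⟨1, one_mem _⟩, ⟨a, ha⟩, ⟨b, hb⟩, ⟨a * b, mul_mem ha hb⟩, ⟨w, hw⟩] ?_
            intro i j hij
            fin_cases i <;> fin_cases j <;>
              simp [Subtype.ext_iff, ha1, hb1, hab, hab1, haba, habb, c1, c2, c3, c4, Ne.symm ha1, Ne.symm hb1,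
                Ne.symm hab, Ne.symm hab1, Ne.symm haba, Ne.symm habb, Ne.symm c1, Ne.symm c2, Ne.symm c3,
                Ne.symm c4] at hij ⊢
          rw [h.W_card, Nat.card_fin] at h5
          omega
        rcases hWcases with rfl | rfl | rfl | rfl
        · exact one_mem _
        · exact hCm _ hga
        · exact hCm _ hgb
        · exact mul_mem (hCm _ hga) (hCm _ hgb)
      refine mem_centralizer_iff.2 fun q hq => ?_
      have hqC : q ∈ C := by
        obtain ⟨w, hw, rfl | rfl⟩ := h.decomp hq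
        · exact hsup hw
        · exact mul_mem (hsup hw) (hCm _ hge)
      exact mem_centralizer_singleton_iff.1 hqC
    rw [hCQ] at hgQ
    rw [show k = x * g by rw [hgdef, mul_inv_cancel_left]]
    exact mul_mem hx (CfsgLib.Even.pOf_le X hgQ)
  -- the four-group
  have hQW : Q ≤ centralizer (W : Set G) := fun q hq =>
    mem_centralizer_iff.2 fun w hw => h.comm w (h.W_le hw) q hq
  have hsylQ : IsSyl Q (centralizer (W : Set G)) := by
    refine ⟨hQW, hQ2, fun P hP hQP hPc => ?_⟩
    by_contra hne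
    obtain ⟨s, hsP, hsQ, hsn⟩ := exists_normalizing' hP (lt_of_le_of_ne hQP (Ne.symm hne))
    exact hsQ (h.cent_W (hNQ ▸ hsn) fun w hw => (mem_centralizer_iff.1 (hPc hsP) w hw).symm)
  have hCW : centralizer (W : Set G) = Q := by
    refine hsylQ.max _ (centralizer_isPGroup amb (hQ2.to_le h.W_le) hW1 fun y hy hyo r hr => ?_) hQW le_rfl
    set R1 := CfsgLib.Even.pOf 2 (normalizer (W : Set G)) ⊓ centralizer (W : Set G) with hR1
    obtain ⟨k, hk, hkQ⟩ := hsylQ.exists_conj ((CfsgLib.Even.pOf_isPGroup _).to_le inf_le_left : IsPGroup 2 R1)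
      inf_le_right
    have hR1n : centralizer (W : Set G) ≤ normalizer (R1 : Set G) :=
      (le_inf ((centralizer_le_normalizer _).trans (CfsgLib.Even.le_normalizer_pOf _)) le_normalizer).trans
        inf_normalizer_le_normalizer_inf
    rw [map_conj_of_mem (hR1n hk)] at hkQ
    have hrQ : r ∈ Q := hkQ hr
    refine ⟨h.sq r hrQ, ?_⟩
    have hfixW : ∀ w ∈ W, y * w * y⁻¹ = w := fun w hw => by
      rw [(mem_centralizer_iff.1 hy w hw).symm, mul_inv_cancel_right]
    obtain ⟨w, hw, hr' | hr'⟩ := h.decomp hrQ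
    · subst hr'
      exact (mem_centralizer_iff.1 hy _ hw).symm
    · subst hr'
      have h2 : y * (w * e) * y⁻¹ ∈ Q := hkQ ((mem_normalizer_iff.1 (hR1n hy) _).1 hr)
      have h3 : y * (w * e) * y⁻¹ = w * (y * e * y⁻¹) := by
        calc y * (w * e) * y⁻¹ = (y * w * y⁻¹) * (y * e * y⁻¹) := by group
          _ = _ := by rw [hfixW w hw]
      rw [h3] at h2
      have h4 : y * e * y⁻¹ ∈ Q := (Subgroup.mul_mem_cancel_left _ (h.W_le hw)).1 h2
      -- `y e y⁻¹ = e v` with `v` fixed by `y`
      obtain ⟨v, hv, hv' | hv'⟩ := h.decomp h4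
      · have hev : y * e * y⁻¹ = y * v * y⁻¹ := by rw [hv', hfixW v hv]
        have h5 : e = v := mul_left_cancel (mul_right_cancel hev)
        exact (mem_centralizer_iff.1 hy _ (mul_mem hw (h5 ▸ hv))).symm
      · have hiter : ∀ i : ℕ, y ^ i * e * (y ^ i)⁻¹ = v ^ i * e := by
          intro i
          induction i with
          | zero => simp
          | succ i ih =>
            calc y ^ (i + 1) * e * (y ^ (i + 1))⁻¹ = y * (y ^ i * e * (y ^ i)⁻¹) * y⁻¹ := by rw [pow_succ']; group
              _ = (y * v ^ i * y⁻¹) * (y * e * y⁻¹) := by rw [ih]; group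
              _ = v ^ i * (v * e) := by rw [hfixW _ (pow_mem hv i), hv']
              _ = v ^ (i + 1) * e := by rw [pow_succ, mul_assoc]
        have h5 := hiter (orderOf y)
        obtain ⟨j, hj⟩ := hyo
        rw [pow_orderOf_eq_one, one_mul, inv_one, mul_one, hj, pow_succ, pow_mul, pow_two,
          h.sq v (h.W_le hv), one_pow, one_mul] at h5
        have hye : y * e * y⁻¹ = e := hv'.trans h5.symm
        have hwe : y * (w * e) * y⁻¹ = w * e := by rw [h3, hye]
        exact mul_inv_eq_iff_eq_mul.1 hwe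
  refine ⟨hCQ, hNQ, hCW, le_antisymm ?_ h.normal_W⟩
  have h1 : normalizer (W : Set G) ≤ normalizer ((centralizer (W : Set G) : Subgroup G) : Set G) :=
    normalizer_le_normalizer_centralizer W
  rwa [hCW, hNQ] at h1

end

section

variable {B X Y WX WY : Subgroup G} {eX eY : G} {φ : ↥X →* Equiv.Perm (Fin 4)} {χ : ↥Y →* Equiv.Perm (Fin 4)}

/-- The configuration of the two sides. -/
structure Conf (B X Y WX WY : Subgroup G) (eX eY : G) (φ : ↥X →* Equiv.Perm (Fin 4))
    (χ : ↥Y →* Equiv.Perm (Fin 4)) : Prop where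
  sideX : Side B X WX eX φ
  sideY : Side B Y WY eY χ
  noCommon : NoCommon B X Y
  centX : centralizer (WX : Set G) = CfsgLib.Even.pOf 2 X
  centY : centralizer (WY : Set G) = CfsgLib.Even.pOf 2 Y
  normX : normalizer (CfsgLib.Even.pOf 2 X : Set G) = X
  normY : normalizer (CfsgLib.Even.pOf 2 Y : Set G) = Y

namespace Conf

variable (c : Conf B X Y WX WY eX eY φ χ)
include c

theorem symm : Conf B Y X WY WX eY eX χ φ :=
  ⟨c.sideY, c.sideX, fun N h1 h2 h3 => c.noCommon N h1 h3 h2, c.centY, c.centX, c.normY, c.normX⟩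

theorem Q_ne : CfsgLib.Even.pOf 2 X ≠ CfsgLib.Even.pOf 2 Y := by
  intro he
  have h1 := c.noCommon _ c.sideX.Q_le_B (CfsgLib.Even.le_normalizer_pOf X)
    (by rw [he]; exact CfsgLib.Even.le_normalizer_pOf Y)
  have h2 := c.sideX.W_card
  have hb : WX = ⊥ := le_bot_iff.1 (c.sideX.W_le.trans h1.le)
  rw [hb, Subgroup.card_bot] at h2
  exact absurd h2 (by decide)

theorem not_WY_le : ¬ WY ≤ CfsgLib.Even.pOf 2 X := by
  intro hle
  apply c.Q_ne
  refine eq_of_le_of_card_ge ?_ ?_
  · rw [← c.centY]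
    exact fun q hq => mem_centralizer_iff.2 fun w hw => c.sideX.comm w (hle hw) q hq
  · have h1 := c.sideX.par.two_mul_core.1
    have h2 := c.sideY.par.two_mul_core.1
    omega

theorem WX_le_B : WX ≤ B := c.sideX.W_le.trans c.sideX.Q_le_B

theorem B_norm_WX : B ≤ normalizer (WX : Set G) := c.sideX.par.le.trans c.sideX.normal_W

/-- The common element `z`. -/
theorem exists_z : ∃ z : G, z ≠ 1 ∧ z ∈ WX ∧ z ∈ WY ∧ (∀ b ∈ B, z * b = b * z) ∧
    ∀ t, t ∈ WX → t ∈ WY → t = 1 ∨ t = z := by
  classical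
  obtain ⟨w', hw', hw'Q⟩ := SetLike.not_le_iff_exists.1 c.not_WY_le
  have hw'B : w' ∈ B := c.symm.WX_le_B hw'
  obtain ⟨w, hw, hne⟩ : ∃ w ∈ WX, w' * w ≠ w * w' := by
    by_contra hc
    push Not at hc
    exact hw'Q (c.sideX.cent_W (c.sideX.par.le hw'B) hc)
  set z := w' * w * w'⁻¹ * w⁻¹ with hz
  have hz1 : z ≠ 1 := fun h => hne (by rwa [hz, mul_inv_eq_one, mul_inv_eq_iff_eq_mul] at h)
  have hzX : z ∈ WX := WX.mul_mem ((mem_normalizer_iff.1 (c.B_norm_WX hw'B) w).1 hw) (WX.inv_mem hw)
  have hzY : z ∈ WY := by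
    have h1 := (mem_normalizer_iff.1 (c.symm.B_norm_WX (c.WX_le_B hw)) w'⁻¹).1 (WY.inv_mem hw')
    have h2 := WY.mul_mem hw' h1
    rw [hz]
    simpa [mul_assoc] using h2
  have hzw' : w' * z = z * w' := c.sideY.comm _ (c.sideY.W_le hw') _ (c.sideY.W_le hzY)
  have huniq : ∀ t, t ∈ WX → t ∈ WY → t = 1 ∨ t = z := fun t ht ht' => by
    by_cases h1 : t = 1
    · exact Or.inl h1
    · exact Or.inr (c.sideX.unique_fixed hw'B hw'Q ht hzX h1 hz1
        (c.sideY.comm _ (c.sideY.W_le hw') _ (c.sideY.W_le ht')) hzw')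
  refine ⟨z, hz1, hzX, hzY, fun b hb => ?_, huniq⟩
  rcases huniq (b * z * b⁻¹) ((mem_normalizer_iff.1 (c.B_norm_WX hb) z).1 hzX)
    ((mem_normalizer_iff.1 (c.symm.B_norm_WX hb) z).1 hzY) with h | h
  · exact absurd (by rwa [mul_inv_eq_one, mul_eq_left] at h) hz1
  · exact (mul_inv_eq_iff_eq_mul.1 h).symm

theorem WY_inf_Q {z : G} (hz1 : z ≠ 1) (hzX : z ∈ WX) (hzY : z ∈ WY) {v : G} (hv : v ∈ WY)
    (hvQ : v ∈ CfsgLib.Even.pOf 2 X) : v = 1 ∨ v = z := by
  classical
  by_contra hc
  push Not at hc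
  apply c.not_WY_le
  have hle : zpowers z ⊔ zpowers v ≤ WY ⊓ CfsgLib.Even.pOf 2 X :=
    sup_le (zpowers_le.2 ⟨hzY, c.sideX.W_le hzX⟩) (zpowers_le.2 ⟨hv, hvQ⟩)
  have hzz : z * z = 1 := c.sideX.sq z (c.sideX.W_le hzX)
  have hzv1 : z * v ≠ 1 := fun h1 => hc.2 (mul_left_cancel (hzz.trans h1.symm)).symm
  have hzvz : z * v ≠ z := fun h1 => hc.1 (mul_eq_left.1 h1)
  have hzvv : z * v ≠ v := fun h1 => hz1 (mul_eq_right.1 h1)
  have h4 : Nat.card (Fin 4) ≤ Nat.card ↥(WY ⊓ CfsgLib.Even.pOf 2 X) := by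
    refine Nat.card_le_card_of_injective ![⟨1, one_mem _⟩, ⟨z, hle (mem_sup_left (mem_zpowers z))⟩,
      ⟨v, hle (mem_sup_right (mem_zpowers v))⟩,
      ⟨z * v, hle (mul_mem (mem_sup_left (mem_zpowers z)) (mem_sup_right (mem_zpowers v)))⟩] ?_
    intro i j hij
    fin_cases i <;> fin_cases j <;>
      simp [Subtype.ext_iff, hz1, hc.1, hc.2, hzv1, hzvz, hzvv, Ne.symm hz1, Ne.symm hc.1, Ne.symm hc.2,
        Ne.symm hzv1, Ne.symm hzvz, Ne.symm hzvv] at hij ⊢
  rw [Nat.card_fin, ← c.sideY.W_card] at h4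
  exact (eq_of_le_of_card_ge (inf_le_left : WY ⊓ CfsgLib.Even.pOf 2 X ≤ WY) h4).ge.trans inf_le_right

theorem mem_D {d : G} (hd : d ∈ WX ⊔ WY) : ∃ w ∈ WX, ∃ v ∈ WY, d = w * v := by
  have hn : WY ≤ normalizer (WX : Set G) := c.symm.WX_le_B.trans c.B_norm_WX
  have hd' : d ∈ ((WY ⊔ WX : Subgroup G) : Set G) := by rw [sup_comm]; exact hd
  rw [coe_mul_of_left_le_normalizer_right _ _ hn] at hd'
  obtain ⟨v, hv, w, hw, rfl⟩ := hd'
  exact ⟨v * w * v⁻¹, (mem_normalizer_iff.1 (hn hv) w).1 hw, v, hv, by simp⟩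

theorem D_invol {z : G} (hz : z ≠ 1 ∧ z ∈ WX ∧ z ∈ WY ∧ ∀ b ∈ B, z * b = b * z) {d : G}
    (hd : d ∈ WX ⊔ WY) (hd2 : d * d = 1) : d ∈ WX ∨ d ∈ WY := by
  obtain ⟨hz1, hzX, hzY, hzc⟩ := hz
  obtain ⟨w, hw, v, hv, rfl⟩ := c.mem_D hd
  by_cases hvQ : v ∈ CfsgLib.Even.pOf 2 X
  · rcases c.WY_inf_Q hz1 hzX hzY hv hvQ with rfl | rfl
    · exact Or.inl (by rwa [mul_one])
    · exact Or.inl (WX.mul_mem hw hzX)
  · have hw2 : w * w = 1 := c.sideX.sq w (c.sideX.W_le hw)
    have hv2 : v * v = 1 := c.sideY.sq v (c.sideY.W_le hv)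
    have hcomm : w * v = v * w := by
      calc w * v = (w * v)⁻¹ := (inv_eq_of_mul_eq_one_right hd2).symm
        _ = v * w := by rw [mul_inv_rev, inv_eq_of_mul_eq_one_right hw2, inv_eq_of_mul_eq_one_right hv2]
    by_cases hw1 : w = 1
    · exact Or.inr (by rwa [hw1, one_mul])
    · have hvB : v ∈ B := c.symm.WX_le_B hv
      rw [c.sideX.unique_fixed hvB hvQ hw hzX hw1 hz1 hcomm.symm (hzc v hvB).symm]
      exact Or.inr (WY.mul_mem hzY hv)

theorem D_conj {z : G} (hz : z ≠ 1 ∧ z ∈ WX ∧ z ∈ WY ∧ ∀ b ∈ B, z * b = b * z) {d : G}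
    (hd : d ∈ WX ⊔ WY) (hd2 : d * d = 1) (hd1 : d ≠ 1) : ∃ g : G, g * d * g⁻¹ = z := by
  rcases c.D_invol hz hd hd2 with h | h
  · obtain ⟨x, -, hx⟩ := c.sideX.transitive h hz.2.1 hd1 hz.1
    exact ⟨x, hx⟩
  · obtain ⟨x, -, hx⟩ := c.sideY.transitive h hz.2.2.1 hd1 hz.1
    exact ⟨x, hx⟩

theorem D_card : Nat.card ↥(WX ⊔ WY : Subgroup G) = 8 := by
  classical
  obtain ⟨z, hz1, hzX, hzY, -, huniq⟩ := c.exists_z
  have h := CfsgLib.PLoc.card_sup_mul_card_inf (H := WY) (N := WX) (c.symm.WX_le_B.trans c.B_norm_WX)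
  have hz2 : Nat.card ↥(WY ⊓ WX : Subgroup G) = 2 := by
    have heq : WY ⊓ WX = zpowers z := le_antisymm (fun t ht => by
      rcases huniq t ht.2 ht.1 with r | r
      · rw [r]; exact one_mem _
      · rw [r]; exact mem_zpowers _) (zpowers_le.2 ⟨hzY, hzX⟩)
    rw [heq, Nat.card_zpowers]
    exact orderOf_eq_prime (by rw [pow_two]; exact c.sideX.sq z (c.sideX.W_le hzX)) hz1
  rw [hz2, sup_comm, c.sideX.W_card, c.sideY.W_card] at h
  omega

theorem e_symm : eX = 1 → eY = 1 := by
  intro h1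
  have hX := c.sideX.card
  have hY := c.sideY.card
  rw [c.sideX.par.card, h1, Subgroup.zpowers_one_eq_bot, Subgroup.card_bot] at hX
  rw [c.sideY.par.card, hX] at hY
  have h2 : orderOf eY = 1 := by rw [← Nat.card_zpowers]; omega
  exact orderOf_eq_one_iff.1 h2

/-- `B = D₀ ⟨e⟩`. -/
theorem B_cases {b : G} (hb : b ∈ B) : b ∈ WX ⊔ WY ∨ b * eX ∈ WX ⊔ WY := by
  classical
  set D := WX ⊔ WY with hD
  have hDB : D ≤ B := sup_le c.WX_le_B c.symm.WX_le_B
  have he2 : eX * eX = 1 := c.sideX.sq _ c.sideX.e_mem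
  have heB : eX ∈ B := c.sideX.Q_le_B c.sideX.e_mem
  have hcardB : Nat.card B = 8 * Nat.card (zpowers eX) := by
    have h1 := c.sideX.card
    rw [c.sideX.par.card] at h1
    omega
  by_cases he : eX = 1
  · left
    have : D = B := eq_of_le_of_card_ge hDB (by
      rw [hD, c.D_card, hcardB, he, Subgroup.zpowers_one_eq_bot, Subgroup.card_bot])
    exact this.ge hb
  · by_contra hcon
    push Not at hcon
    obtain ⟨h1, h2⟩ := hcon
    have h16 : Nat.card B = 16 := by rw [hcardB, Nat.card_zpowers, orderOf_eq_prime (by rw [pow_two, he2]) he]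
    have heD : eX ∉ D := by
      intro heD
      rcases c.D_invol (z := Classical.choose c.exists_z)
        ⟨(Classical.choose_spec c.exists_z).1, (Classical.choose_spec c.exists_z).2.1,
          (Classical.choose_spec c.exists_z).2.2.1, (Classical.choose_spec c.exists_z).2.2.2.1⟩ heD he2 with h | h
      · exact he (c.sideX.e_odd (c.sideX.W_odd h))
      · obtain ⟨z, hz1, hzX, hzY, hzc, -⟩ := c.exists_z
        rcases c.WY_inf_Q hz1 hzX hzY h c.sideX.e_mem with r | r
        · exact he r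
        · exact he (c.sideX.e_odd (c.sideX.W_odd (by rw [r]; exact hzX)))
    -- `D` has index two
    have hidx : (D.subgroupOf B).index = 2 := by
      have h := (D.subgroupOf B).card_mul_index
      rw [Nat.card_congr (subgroupOfEquivOfLe hDB).toEquiv, show Nat.card D = 8 from c.D_card, h16] at h
      omega
    have h3 := Subgroup.mul_mem_iff_of_index_two hidx (a := ⟨b, hb⟩) (b := ⟨eX, heB⟩)
    simp only [mem_subgroupOf, Subgroup.coe_mul] at h3
    exact h2 (h3.2 ⟨fun h => absurd h h1, fun h => absurd h heD⟩)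

theorem e_not_mem (he : eX ≠ 1) : eX ∉ WX ⊔ WY := by
  intro heD
  obtain ⟨z, hz1, hzX, hzY, hzc, -⟩ := c.exists_z
  rcases c.D_invol ⟨hz1, hzX, hzY, hzc⟩ heD (c.sideX.sq _ c.sideX.e_mem) with h | h
  · exact he (c.sideX.e_odd (c.sideX.W_odd h))
  · rcases c.WY_inf_Q hz1 hzX hzY h c.sideX.e_mem with r | r
    · exact he r
    · exact he (c.sideX.e_odd (c.sideX.W_odd (by rw [r]; exact hzX)))

theorem e_eq {z : G} (hz : z ≠ 1 ∧ z ∈ WX ∧ z ∈ WY ∧ ∀ b ∈ B, z * b = b * z) (he : eX ≠ 1) :
    eY = z * eX := by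
  obtain ⟨hz1, hzX, hzY, hzc⟩ := hz
  have heY : eY ≠ 1 := fun h => he (c.symm.e_symm h)
  have hcY : ∀ w ∈ WX, eY * w = w * eY := fun w hw =>
    (c.sideY.e_central w (c.sideY.par.le (c.WX_le_B hw))).symm
  have heYQ : eY ∈ CfsgLib.Even.pOf 2 X := by
    rw [← c.centX]
    exact mem_centralizer_iff.2 fun w hw => (hcY w hw).symm
  obtain ⟨w', hw', hw'Q⟩ := SetLike.not_le_iff_exists.1 c.not_WY_le
  have hw'B : w' ∈ B := c.symm.WX_le_B hw'
  have hne : ∀ w, w ∈ WX → w * eX ≠ eY → True := fun _ _ _ => trivial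
  have hfix : ∀ w ∈ WX, w' * w = w * w' → w = 1 ∨ w = z := fun w hw hc => by
    by_cases h1 : w = 1
    · exact Or.inl h1
    · exact Or.inr (c.sideX.unique_fixed hw'B hw'Q hw hzX h1 hz1 hc (hzc w' hw'B).symm)
  have heY' : w' * eY = eY * w' := c.sideY.comm _ (c.sideY.W_le hw') _ c.sideY.e_mem
  obtain ⟨w, hw, h | h⟩ := c.sideX.decomp heYQ
  · exfalso
    rcases hfix w hw (h ▸ heY') with r | r
    · exact heY (h.trans r)
    · exact heY (c.sideY.e_odd (c.sideY.W_odd (by rw [h.trans r]; exact hzY)))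
  · have hcw : w' * w = w * w' := by
      have h1 : w' * (w * eX) = (w * eX) * w' := h ▸ heY'
      rw [mul_assoc, ← c.sideX.e_central w' (c.sideX.par.le hw'B), ← mul_assoc, ← mul_assoc] at h1
      exact mul_right_cancel h1
    rcases hfix w hw hcw with r | r
    · exfalso
      rw [r, one_mul] at h
      have hle : zpowers eX ≤ B := zpowers_le.2 (c.sideX.Q_le_B c.sideX.e_mem)
      have hbot := c.noCommon (zpowers eX) hle
        (fun x hx => centralizer_le_normalizer _ (mem_centralizer_iff.2 fun t ht => by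
          obtain ⟨i, rfl⟩ := mem_zpowers_iff.1 ht
          exact ((show Commute eX x from (c.sideX.e_central x hx).symm).zpow_left i).eq))
        (fun x hx => centralizer_le_normalizer _ (mem_centralizer_iff.2 fun t ht => by
          obtain ⟨i, rfl⟩ := mem_zpowers_iff.1 ht
          exact ((show Commute eX x by
            show eX * x = x * eX
            rw [← h]; exact (c.sideY.e_central x hx).symm).zpow_left i).eq))
      exact he (zpowers_eq_bot.1 hbot)
    · rw [h, r]

theorem K4_le {z : G} (hz : z ≠ 1 ∧ z ∈ WX ∧ z ∈ WY ∧ ∀ b ∈ B, z * b = b * z) (he : eX ≠ 1) :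
    eX ∈ CfsgLib.Even.pOf 2 Y := by
  have h1 := c.sideY.e_mem
  rw [c.e_eq hz he] at h1
  exact (Subgroup.mul_mem_cancel_left _ (c.sideY.W_le hz.2.2.1)).1 h1

/-- Every involution of `B` lies in one of the two cores. -/
theorem B_invol {b : G} (hb : b ∈ B) (hb2 : b * b = 1) :
    b ∈ CfsgLib.Even.pOf 2 X ∨ b ∈ CfsgLib.Even.pOf 2 Y := by
  obtain ⟨z, hz1, hzX, hzY, hzc, -⟩ := c.exists_z
  have he2 : eX * eX = 1 := c.sideX.sq _ c.sideX.e_mem
  rcases c.B_cases hb with h | h
  · rcases c.D_invol ⟨hz1, hzX, hzY, hzc⟩ h hb2 with r | r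
    · exact Or.inl (c.sideX.W_le r)
    · exact Or.inr (c.sideY.W_le r)
  · have hbe : b * eX * (b * eX) = 1 := by
      have hc : Commute b eX := c.sideX.e_central b (c.sideX.par.le hb)
      rw [hc.symm.mul_mul_mul_comm, hb2, he2, one_mul]
    have hb' : b = b * eX * eX := by rw [mul_assoc, he2, mul_one]
    rcases c.D_invol ⟨hz1, hzX, hzY, hzc⟩ h hbe with r | r
    · rw [hb']
      exact Or.inl (mul_mem (c.sideX.W_le r) c.sideX.e_mem)
    · rw [hb']
      by_cases he : eX = 1
      · rw [he, mul_one]; exact Or.inr (c.sideY.W_le (by simpa [he] using r))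
      · exact Or.inr (mul_mem (c.sideY.W_le r) (c.K4_le ⟨hz1, hzX, hzY, hzc⟩ he))

/-- The elements moving `B` to itself outside `B`. -/
theorem swap {S : Subgroup G} (hS : IsPGroup 2 S) (hBS : B ≤ S) {s : G} (hs : s ∈ S) (hsB : s ∉ B)
    (hsn : s ∈ normalizer (B : Set G)) :
    (CfsgLib.Even.pOf 2 X).map (MulAut.conj s).toMonoidHom = CfsgLib.Even.pOf 2 Y := by
  classical
  haveI := Fact.mk Nat.prime_two
  set Q' := (CfsgLib.Even.pOf 2 X).map (MulAut.conj s).toMonoidHom with hQ'
  have hQ'B : Q' ≤ B := (Subgroup.map_mono c.sideX.Q_le_B).trans (map_conj_of_mem hsn).le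
  have hsX : s ∉ X := fun hsX => hsB (by
    have h1 := c.sideX.par.syl.max (S ⊓ X) (hS.to_le inf_le_left) (le_inf hBS c.sideX.par.le) inf_le_right
    exact h1.le ⟨hs, hsX⟩)
  have hcard : Nat.card Q' = Nat.card (CfsgLib.Even.pOf 2 Y) := by
    rw [hQ', card_map_of_injective (conj_injective s)]
    have h1 := c.sideX.par.two_mul_core.1
    have h2 := c.sideY.par.two_mul_core.1
    omega
  by_cases hle : Q' ≤ CfsgLib.Even.pOf 2 X
  · exfalso
    refine hsX (c.normX ▸ ?_)
    rw [mem_normalizer_iff_map_conj_eq]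
    exact eq_of_le_of_card_ge hle (card_map_of_injective (conj_injective s)).ge
  · refine eq_of_le_of_card_ge (fun q hq => ?_) hcard.ge
    obtain ⟨p, hp, hpX⟩ := SetLike.not_le_iff_exists.1 hle
    have hinv : ∀ t ∈ Q', t * t = 1 := by
      rintro _ ⟨t, ht, rfl⟩
      rw [← map_mul, c.sideX.sq t ht, map_one]
    have hpY := (c.B_invol (hQ'B hp) (hinv p hp)).resolve_left hpX
    by_contra hqY
    have hqX := (c.B_invol (hQ'B hq) (hinv q hq)).resolve_right hqY
    rcases c.B_invol (hQ'B (mul_mem hp hq)) (hinv _ (mul_mem hp hq)) with r | r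
    · exact hpX ((Subgroup.mul_mem_cancel_right _ hqX).1 r)
    · exact hqY ((Subgroup.mul_mem_cancel_left _ hpY).1 r)

theorem swap_e {S : Subgroup G} (hS : IsPGroup 2 S) (hBS : B ≤ S) {s : G} (hs : s ∈ S) (hsB : s ∉ B)
    (hsn : s ∈ normalizer (B : Set G)) (he : eX ≠ 1) :
    s * eX * s⁻¹ = eY ∧ (X.map (MulAut.conj s).toMonoidHom = Y) := by
  have hQ := c.swap hS hBS hs hsB hsn
  have hXY : X.map (MulAut.conj s).toMonoidHom = Y := by
    rw [← c.normY, ← hQ]
    conv_lhs => rw [← c.normX]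
    exact Subgroup.map_equiv_normalizer_eq _ (MulAut.conj s)
  refine ⟨?_, hXY⟩
  have h1 : s * eX * s⁻¹ ∈ CfsgLib.Even.pOf 2 Y := hQ ▸ mem_map_of_mem _ c.sideX.e_mem
  have h2 : ∀ y ∈ Y, y * (s * eX * s⁻¹) = s * eX * s⁻¹ * y := by
    intro y hy
    rw [← hXY] at hy
    obtain ⟨x, hx, rfl⟩ := hy
    show s * x * s⁻¹ * (s * eX * s⁻¹) = s * eX * s⁻¹ * (s * x * s⁻¹)
    calc s * x * s⁻¹ * (s * eX * s⁻¹) = s * (x * eX) * s⁻¹ := by group
      _ = s * (eX * x) * s⁻¹ := by rw [c.sideX.e_central x hx]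
      _ = _ := by group
  rcases c.sideY.central h1 h2 with r | r
  · exact absurd (by rwa [mul_inv_eq_one, mul_eq_left] at r) he
  · exact r

theorem sq_B {z : G} (hz : z ≠ 1 ∧ z ∈ WX ∧ z ∈ WY ∧ ∀ b ∈ B, z * b = b * z) {b : G} (hb : b ∈ B) :
    b * b = 1 ∨ b * b = z := by
  obtain ⟨hz1, hzX, hzY, hzc⟩ := hz
  have key : ∀ d ∈ WX ⊔ WY, d * d = 1 ∨ d * d = z := by
    intro d hd
    obtain ⟨w, hw, v, hv, rfl⟩ := c.mem_D hd
    have hw2 : w * w = 1 := c.sideX.sq w (c.sideX.W_le hw)
    have hv2 : v * v = 1 := c.sideY.sq v (c.sideY.W_le hv)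
    have e1 : (w * v) * (w * v) = w * (v * w * v⁻¹) := by
      rw [inv_eq_of_mul_eq_one_right hv2]; simp only [mul_assoc]
    have hX : (w * v) * (w * v) ∈ WX := by
      rw [e1]
      exact WX.mul_mem hw ((mem_normalizer_iff.1 (c.B_norm_WX (c.symm.WX_le_B hv)) w).1 hw)
    have hY : (w * v) * (w * v) ∈ WY := by
      have e2 : (w * v) * (w * v) = (w * v * w⁻¹) * v := by
        rw [inv_eq_of_mul_eq_one_right hw2]; simp only [mul_assoc]
      rw [e2]
      exact WY.mul_mem ((mem_normalizer_iff.1 (c.symm.B_norm_WX (c.WX_le_B hw)) v).1 hv) hv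
    obtain ⟨z', hz'1, hz'X, hz'Y, hz'c, huniq⟩ := c.exists_z
    have hzz' : z = z' := (huniq z hzX hzY).resolve_left hz1
    rw [hzz']
    exact huniq _ hX hY
  rcases c.B_cases hb with h | h
  · exact key b h
  · have hc : Commute b eX := c.sideX.e_central b (c.sideX.par.le hb)
    have e1 : b * b = b * eX * (b * eX) := by
      rw [hc.symm.mul_mul_mul_comm, c.sideX.sq _ c.sideX.e_mem, mul_one]
    rw [e1]
    exact key _ h

set_option maxHeartbeats 2000000 in
/-- The element `e` lies outside `O²(G)`. -/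
theorem e_not_residual (amb : Amb G) (S : Sylow 2 G) (hBS : B ≤ (S : Subgroup G)) (he : eX ≠ 1) :
    eX ∉ Cfsg.pResidual 2 G := by
  classical
  haveI := Fact.mk Nat.prime_two
  obtain ⟨z, hz1, hzX, hzY, hzc, huniq⟩ := c.exists_z
  have hz := And.intro hz1 (And.intro hzX (And.intro hzY hzc))
  have he2 : eX * eX = 1 := c.sideX.sq _ c.sideX.e_mem
  have heY : eY = z * eX := c.e_eq hz he
  set SS : Subgroup G := (S : Subgroup G) with hSS
  have hS2 : IsPGroup 2 SS := S.isPGroup'
  set D := WX ⊔ WY with hD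
  have hDB : D ≤ B := sup_le c.WX_le_B c.symm.WX_le_B
  have heB : eX ∈ B := c.sideX.Q_le_B c.sideX.e_mem
  have hez : z * eX = eX * z := hzc eX heB
  have hzB : z ∈ B := c.WX_le_B hzX
  have hcard16 : Nat.card B = 16 := by
    have h1 := c.sideX.card
    rw [c.sideX.par.card, Nat.card_zpowers, orderOf_eq_prime (by rw [pow_two, he2]) he] at h1
    omega
  have hzfix : ∀ n : G, n ∈ normalizer (B : Set G) → n * z * n⁻¹ = z := by
    intro n hn
    obtain ⟨w', hw', hw'Q⟩ := SetLike.not_le_iff_exists.1 c.not_WY_le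
    obtain ⟨w, hw, hne⟩ : ∃ w ∈ WX, w' * w ≠ w * w' := by
      by_contra hcon
      push Not at hcon
      exact hw'Q (c.sideX.cent_W (c.sideX.par.le (c.symm.WX_le_B hw')) hcon)
    have hb : w * w' ∈ B := mul_mem (c.WX_le_B hw) (c.symm.WX_le_B hw')
    have hsq : w * w' * (w * w') = z := by
      refine (c.sq_B hz hb).resolve_left fun h1 => hne ?_
      calc w' * w = w'⁻¹ * w⁻¹ := by
            rw [inv_eq_of_mul_eq_one_right (c.sideY.sq _ (c.sideY.W_le hw')),
              inv_eq_of_mul_eq_one_right (c.sideX.sq _ (c.sideX.W_le hw))]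
        _ = (w * w')⁻¹ := (mul_inv_rev _ _).symm
        _ = w * w' := inv_eq_of_mul_eq_one_right h1
    have hb' := (mem_normalizer_iff.1 hn _).1 hb
    have e1 : n * z * n⁻¹ = (n * (w * w') * n⁻¹) * (n * (w * w') * n⁻¹) := by rw [← hsq]; group
    rw [e1]
    refine (c.sq_B hz hb').resolve_left fun h1 => hz1 ?_
    rw [← e1, mul_inv_eq_one, mul_eq_left] at h1
    exact h1
  -- `S` normalizes `B`
  have hSB : SS ≤ normalizer (B : Set G) := by
    by_contra hnot
    have hlt : SS ⊓ normalizer (B : Set G) < SS :=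
      lt_of_le_of_ne inf_le_left fun h => hnot (h.ge.trans inf_le_right)
    obtain ⟨t, htS, htN, htn⟩ := exists_normalizing' hS2 hlt
    refine htN ⟨htS, ?_⟩
    have hmap : ∀ (Q : Subgroup G), Q ≤ B → (∀ q ∈ Q, q * q = 1) → Nat.card Q = 8 →
        Q.map (MulAut.conj t).toMonoidHom ≤ B := by
      intro Q hQB hQ2 hQ8
      set E := Q.map (MulAut.conj t).toMonoidHom with hE
      have hEN : E ≤ SS ⊓ normalizer (B : Set G) :=
        (Subgroup.map_mono (le_inf (hQB.trans hBS) (hQB.trans le_normalizer))).trans (map_conj_of_mem htn).le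
      have hEsq : ∀ x ∈ E, x * x = 1 := by
        rintro _ ⟨x, hx, rfl⟩
        rw [← map_mul, hQ2 x hx, map_one]
      have hEc : ∀ x ∈ E, ∀ y ∈ E, x * y = y * x := fun x hx y hy => by
        have h2 := hEsq _ (mul_mem hx hy)
        calc x * y = (x * y)⁻¹ := (inv_eq_of_mul_eq_one_right h2).symm
          _ = y * x := by rw [mul_inv_rev, inv_eq_of_mul_eq_one_right (hEsq x hx),
              inv_eq_of_mul_eq_one_right (hEsq y hy)]
      intro u hu
      by_contra huB
      obtain ⟨hue, -⟩ := c.swap_e hS2 hBS (hEN hu).1 huB (hEN hu).2 he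
      have huQ := c.swap hS2 hBS (hEN hu).1 huB (hEN hu).2
      -- the elements of `B` in `E` lie in `⟨z, e⟩`
      have hin : ∀ x ∈ E, x ∈ B → x = 1 ∨ x = z := by
        intro x hxE hxB
        have hux : u * x * u⁻¹ = x := by rw [hEc u hu x hxE, mul_inv_cancel_right]
        have hQQ : x ∈ CfsgLib.Even.pOf 2 X ∧ x ∈ CfsgLib.Even.pOf 2 Y := by
          have huu : u * u = 1 := hEsq u hu
          rcases c.B_invol hxB (hEsq x hxE) with r | r
          · exact ⟨r, hux ▸ (huQ ▸ mem_map_of_mem _ r : u * x * u⁻¹ ∈ CfsgLib.Even.pOf 2 Y)⟩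
          · rw [← huQ] at r
            obtain ⟨q, hq, hqx⟩ := r
            have hqx' : u * q * u⁻¹ = x := hqx
            have : q = x := mul_left_cancel (mul_right_cancel (hqx'.trans hux.symm))
            exact ⟨this ▸ hq, by rw [← huQ]; exact ⟨q, hq, hqx⟩⟩
        obtain ⟨w', hw', hw'Q⟩ := SetLike.not_le_iff_exists.1 c.not_WY_le
        have hw'B := c.symm.WX_le_B hw'
        have hxw' : w' * x = x * w' := c.sideY.comm _ (c.sideY.W_le hw') _ hQQ.2
        obtain ⟨w, hw, hwx | hwx⟩ := c.sideX.decomp hQQ.1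
        · subst hwx
          by_cases h1 : x = 1
          · exact Or.inl h1
          · exact Or.inr (c.sideX.unique_fixed hw'B hw'Q hw hzX h1 hz1 hxw' (hzc w' hw'B).symm)
        · exfalso
          subst hwx
          rw [mul_assoc, ← c.sideX.e_central w' (c.sideX.par.le hw'B), ← mul_assoc, ← mul_assoc] at hxw'
          have hw' := mul_right_cancel hxw'
          have hwz : w = 1 ∨ w = z := by
            by_cases h1 : w = 1
            · exact Or.inl h1
            · exact Or.inr (c.sideX.unique_fixed hw'B hw'Q hw hzX h1 hz1 hw' (hzc w' hw'B).symm)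
          rw [heY] at hue
          have hue' : u * (w * eX) * u⁻¹ = u * w * u⁻¹ * (z * eX) := by rw [← hue]; group
          rcases hwz with r | r <;> subst r
          · rw [hue', mul_one, mul_inv_cancel, one_mul, one_mul] at hux
            exact hz1 (mul_eq_right.1 hux)
          · rw [hue', hzfix u (hEN hu).2, ← mul_assoc, c.sideX.sq _ (c.sideX.W_le hzX), one_mul] at hux
            exact hz1 (mul_eq_right.1 hux.symm)
      have hle4 : Nat.card E ≤ Nat.card (Fin 4) := by
        refine Nat.card_le_card_of_injective (fun x : E =>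
          if (x : G) ∈ B then (if (x : G) = 1 then (0 : Fin 4) else 1)
          else (if u⁻¹ * (x : G) = 1 then 2 else 3)) ?_
        intro a b hab
        apply Subtype.ext
        have key : ∀ x : G, x ∈ E → x ∉ B → u⁻¹ * x ∈ B := fun x hx hxB => by
          have h1 := c.swap hS2 hBS (hEN hx).1 hxB (hEN hx).2
          have hfix : u⁻¹ * x ∈ normalizer (CfsgLib.Even.pOf 2 X : Set G) := by
            rw [mem_normalizer_iff_map_conj_eq]
            refine eq_of_le_of_card_ge ?_ (card_map_of_injective (conj_injective (u⁻¹ * x))).ge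
            rintro _ ⟨q, hq, rfl⟩
            have h2 : x * q * x⁻¹ ∈ CfsgLib.Even.pOf 2 Y := h1 ▸ mem_map_of_mem _ hq
            rw [← huQ] at h2
            obtain ⟨q', hq', hqq⟩ := h2
            have hqq' : u * q' * u⁻¹ = x * q * x⁻¹ := hqq
            show u⁻¹ * x * q * (u⁻¹ * x)⁻¹ ∈ _
            rw [show u⁻¹ * x * q * (u⁻¹ * x)⁻¹ = u⁻¹ * (x * q * x⁻¹) * u by group, ← hqq',
              show u⁻¹ * (u * q' * u⁻¹) * u = q' by group]
            exact hq'
          rw [c.normX] at hfix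
          have h3 := c.sideX.par.syl.max (SS ⊓ X) (hS2.to_le inf_le_left) (le_inf hBS c.sideX.par.le) inf_le_right
          exact h3.le ⟨SS.mul_mem (SS.inv_mem (hEN hu).1) (hEN hx).1, hfix⟩
        by_cases ha : (a : G) ∈ B <;> by_cases hb : (b : G) ∈ B <;> simp [ha, hb, -OneMemClass.coe_eq_one] at hab
        · rcases hin a a.2 ha with r | r <;> rcases hin b b.2 hb with r' | r' <;> simp [r, r', hz1, Ne.symm hz1, -OneMemClass.coe_eq_one] at hab ⊢
        · by_cases h1 : (a : G) = 1 <;> by_cases h2 : u⁻¹ * (b : G) = 1 <;> simp [h1, h2, -OneMemClass.coe_eq_one] at hab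
        · by_cases h1 : u⁻¹ * (a : G) = 1 <;> by_cases h2 : (b : G) = 1 <;> simp [h1, h2, -OneMemClass.coe_eq_one] at hab
        · have ha' := hin _ (mul_mem (inv_mem hu) a.2) (key a a.2 ha)
          have hb' := hin _ (mul_mem (inv_mem hu) b.2) (key b b.2 hb)
          refine mul_left_cancel (a := u⁻¹) ?_
          rcases ha' with r | r <;> rcases hb' with r' | r' <;> simp [r, r', hz1, Ne.symm hz1, -OneMemClass.coe_eq_one] at hab ⊢
      rw [hE, card_map_of_injective (conj_injective t), hQ8, Nat.card_fin] at hle4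
      omega
    have hQ8 : ∀ (U : Subgroup G), Par B U → Nat.card (CfsgLib.Even.pOf 2 U) = 8 := fun U hU => by
      have h1 := hU.two_mul_core.1
      omega
    have hle1 := hmap _ c.sideX.Q_le_B c.sideX.sq (hQ8 X c.sideX.par)
    have hle2 := hmap _ c.sideY.Q_le_B c.sideY.sq (hQ8 Y c.sideY.par)
    have hBQQ : CfsgLib.Even.pOf 2 X ⊔ CfsgLib.Even.pOf 2 Y = B := by
      refine le_antisymm (sup_le c.sideX.Q_le_B c.sideY.Q_le_B) fun b hb => ?_
      rcases c.B_cases hb with r | r
      · exact (sup_le (c.sideX.W_le.trans le_sup_left) (c.sideY.W_le.trans le_sup_right)) r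
      · rw [show b = b * eX * eX by rw [mul_assoc, he2, mul_one]]
        exact mul_mem ((sup_le (c.sideX.W_le.trans le_sup_left) (c.sideY.W_le.trans le_sup_right)) r)
          (mem_sup_left c.sideX.e_mem)
    show t ∈ normalizer (B : Set G)
    rw [mem_normalizer_iff_map_conj_eq]
    refine eq_of_le_of_card_ge ?_ (card_map_of_injective (conj_injective t)).ge
    conv_lhs => rw [← hBQQ]
    rw [Subgroup.map_sup]
    exact sup_le hle1 hle2
  -- `e` is not conjugate to `z`
  have hnc : ∀ g : G, g * eX * g⁻¹ ≠ z := by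
    intro g hgz
    by_cases hBeq : B = SS
    · -- Burnside's fusion argument
      have hSz : SS ≤ centralizer ({z} : Set G) := fun s hs =>
        mem_centralizer_singleton_iff.2 (hzc s (hBeq.ge hs)).symm
      have hgS : ((g • S : Sylow 2 G) : Subgroup G) ≤ centralizer ({z} : Set G) := by
        intro x hx
        rw [Sylow.coe_subgroup_smul] at hx
        obtain ⟨s, hs, rfl⟩ := hx
        rw [mem_centralizer_singleton_iff, ← hgz]
        show g * s * g⁻¹ * (g * eX * g⁻¹) = g * eX * g⁻¹ * (g * s * g⁻¹)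
        calc g * s * g⁻¹ * (g * eX * g⁻¹) = g * (s * eX) * g⁻¹ := by group
          _ = g * (eX * s) * g⁻¹ := by rw [c.sideX.e_central s (c.sideX.par.le (hBeq.ge hs))]
          _ = _ := by group
      obtain ⟨k, hk, hkeq⟩ := CfsgLib.Transfer.exists_mem_smul_eq (g • S) S hgS hSz
      rw [← mul_smul] at hkeq
      have hn := Sylow.smul_eq_iff_mem_normalizer.1 hkeq
      have h1 : (k * g) * eX * (k * g)⁻¹ = z := by
        calc (k * g) * eX * (k * g)⁻¹ = k * (g * eX * g⁻¹) * k⁻¹ := by group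
          _ = z := by rw [hgz, mem_centralizer_singleton_iff.1 hk, mul_inv_cancel_right]
      have h2 := hzfix (k * g) (by rw [hBeq]; exact hn)
      have h3 : eX = z := mul_left_cancel (mul_right_cancel (h1.trans h2.symm))
      exact he (c.sideX.e_odd (c.sideX.W_odd (h3 ▸ hzX)))
    · obtain ⟨s, hsS, hsB⟩ := SetLike.exists_of_lt (lt_of_le_of_ne hBS hBeq)
      have hse := (c.swap_e hS2 hBS hsS hsB (hSB hsS) he).1
      rw [heY] at hse
      have hOz : Oz SS ≤ zpowers z := by
        intro v hv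
        obtain ⟨hvS, hvc, hv2⟩ := mem_Oz.1 hv
        have hvB : v ∈ B := by
          by_contra hvB
          apply c.Q_ne
          have h1 := c.swap hS2 hBS hvS hvB (hSB hvS)
          rw [← h1]
          ext x
          constructor
          · intro hx
            refine ⟨x, hx, ?_⟩
            show v * x * v⁻¹ = x
            rw [← hvc x (hBS (c.sideX.Q_le_B hx)), mul_inv_cancel_right]
          · rintro ⟨x', hx', rfl⟩
            show v * x' * v⁻¹ ∈ _
            rwa [← hvc x' (hBS (c.sideX.Q_le_B hx')), mul_inv_cancel_right]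
        have hvQ : v ∈ CfsgLib.Even.pOf 2 X := by
          rw [← c.centX]
          exact mem_centralizer_iff.2 fun w hw => hvc w (hBS (c.WX_le_B hw))
        obtain ⟨w', hw', hw'Q⟩ := SetLike.not_le_iff_exists.1 c.not_WY_le
        have hw'B := c.symm.WX_le_B hw'
        obtain ⟨w, hw, hwv | hwv⟩ := c.sideX.decomp hvQ
        · by_cases h1 : w = 1
          · rw [hwv, h1]; exact one_mem _
          · rw [hwv, c.sideX.unique_fixed hw'B hw'Q hw hzX h1 hz1
              (hwv ▸ hvc w' (hBS hw'B)) (hzc w' hw'B).symm]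
            exact mem_zpowers _
        · exfalso
          have h1 : w' * (w * eX) = (w * eX) * w' := hwv ▸ hvc w' (hBS hw'B)
          rw [mul_assoc, ← c.sideX.e_central w' (c.sideX.par.le hw'B), ← mul_assoc, ← mul_assoc] at h1
          have hcw := mul_right_cancel h1
          have hwz : w = 1 ∨ w = z := by
            by_cases h1 : w = 1
            · exact Or.inl h1
            · exact Or.inr (c.sideX.unique_fixed hw'B hw'Q hw hzX h1 hz1 hcw (hzc w' hw'B).symm)
          have hsv : s * (w * eX) * s⁻¹ = w * eX := by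
            rw [← hwv, hvc s hsS, mul_inv_cancel_right]
          have hsv' : s * (w * eX) * s⁻¹ = s * w * s⁻¹ * (z * eX) := by rw [← hse]; group
          rcases hwz with r | r <;> subst r
          · rw [hsv', mul_one, mul_inv_cancel, one_mul, one_mul] at hsv
            exact hz1 (mul_eq_right.1 hsv)
          · rw [hsv', hzfix s (hSB hsS), ← mul_assoc, c.sideX.sq _ (c.sideX.W_le hzX), one_mul] at hsv
            exact hz1 (mul_eq_right.1 hsv.symm)
      -- `X` would be a 2-group
      obtain ⟨y, hyX, hy3⟩ := c.sideX.par.exists_odd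
      have hXN : ∀ x ∈ X, g * x * g⁻¹ ∈ normalizer (SS : Set G) := by
        intro x hx
        refine amb.cent S (centralizer_le hOz (mem_centralizer_iff.2 fun t ht => ?_))
        obtain ⟨i, rfl⟩ := mem_zpowers_iff.1 ht
        refine ((show Commute z (g * x * g⁻¹) from ?_).zpow_left i).eq
        show z * (g * x * g⁻¹) = g * x * g⁻¹ * z
        rw [← hgz]
        calc g * eX * g⁻¹ * (g * x * g⁻¹) = g * (eX * x) * g⁻¹ := by group
          _ = g * (x * eX) * g⁻¹ := by rw [c.sideX.e_central x hx]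
          _ = _ := by group
      set P := SS.comap (MulAut.conj g).toMonoidHom with hP
      have hP2 : IsPGroup 2 P := hS2.comap_of_injective _ (conj_injective g)
      have hBP : B ≤ P := fun b hb => by
        show g * b * g⁻¹ ∈ SS
        have h1 := (c.sideX.par.two.map (MulAut.conj g).toMonoidHom).inf_normalizer_sylow S
        exact (h1.le ⟨mem_map_of_mem _ hb, hXN b (c.sideX.par.le hb)⟩).2
      have hXP : X ≤ P := c.sideX.par.gen P hBP fun x hx => mem_normalizer_fintype fun p hp => by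
        show g * (x * p * x⁻¹) * g⁻¹ ∈ SS
        have h1 := (mem_normalizer_iff.1 (hXN x hx) (g * p * g⁻¹)).1 hp
        rw [show g * (x * p * x⁻¹) * g⁻¹ = g * x * g⁻¹ * (g * p * g⁻¹) * (g * x * g⁻¹)⁻¹ by group]
        exact h1
      have h4 := odd_eq_one hP2 (hXP hyX) (by rw [hy3]; decide)
      rw [h4, orderOf_one] at hy3
      exact absurd hy3 (by decide)
  -- the transfer
  have hfin : ∀ M : Subgroup G, M.relIndex SS = 2 → (∀ x ∈ M, x * x = 1 → x ∈ D) → eX ∉ Cfsg.pResidual 2 G :=
    fun M hM hinv => CfsgLib.SmithTwo.notMem_pResidual S M hM he2 fun g hg => by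
      have h1 : g * eX * g⁻¹ * (g * eX * g⁻¹) = 1 := by
        calc g * eX * g⁻¹ * (g * eX * g⁻¹) = g * (eX * eX) * g⁻¹ := by group
          _ = 1 := by rw [he2, mul_one, mul_inv_cancel]
      have h2 : g * eX * g⁻¹ ≠ 1 := fun h => he (by rwa [mul_inv_eq_one, mul_eq_left] at h)
      obtain ⟨k, hk⟩ := c.D_conj hz (hinv _ hg h1) h1 h2
      exact hnc (k * g) (by rw [← hk]; group)
  by_cases hBeq : B = SS
  · refine hfin D ?_ fun x hx _ => hx
    have h := (D.subgroupOf SS).card_mul_index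
    rw [Nat.card_congr (subgroupOfEquivOfLe (hDB.trans hBS)).toEquiv, show Nat.card D = 8 from c.D_card, ← hBeq, hcard16] at h
    show (D.subgroupOf SS).index = 2
    rw [← hBeq]
    omega
  obtain ⟨s, hsS, hsB⟩ := SetLike.exists_of_lt (lt_of_le_of_ne hBS hBeq)
  -- elements outside `B` normalize `D` and square into it
  have hprop : ∀ u ∈ SS, u ∉ B → u ∈ normalizer (D : Set G) ∧ u * u ∈ D ∧ (∀ d ∈ WX, u * d * u⁻¹ ∈ WY) := by
    intro u hu huB
    obtain ⟨hue, hXY⟩ := c.swap_e hS2 hBS hu huB (hSB hu) he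
    have huQ := c.swap hS2 hBS hu huB (hSB hu)
    have hWmap : ∀ d ∈ WX, u * d * u⁻¹ ∈ WY := by
      intro d hd
      rw [c.sideY.W_eq]
      refine ⟨huQ ▸ mem_map_of_mem _ (c.sideX.W_le hd), ?_⟩
      have h1 : (O2r X).map (MulAut.conj u).toMonoidHom ≤ O2r Y := by
        rw [O2r, MonoidHom.map_closure, closure_le]
        rintro _ ⟨x, ⟨hx, ho⟩, rfl⟩
        refine mem_O2r (hXY ▸ mem_map_of_mem _ hx) ?_
        rwa [orderOf_injective (MulAut.conj u).toMonoidHom (MulAut.conj u).injective x]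
      exact h1 (mem_map_of_mem _ (c.sideX.W_odd hd))
    have huinv : u⁻¹ ∉ B := fun h => huB (by simpa using inv_mem h)
    have hWmap' : ∀ d ∈ WY, u * d * u⁻¹ ∈ WX := by
      intro d hd
      have huu : u * u ∈ B := by
        by_contra huu
        have h2 := c.swap hS2 hBS (mul_mem hu hu) huu (hSB (mul_mem hu hu))
        have h2' := c.swap hS2 hBS (inv_mem hu) huinv (hSB (inv_mem hu))
        apply c.Q_ne
        have e1 : (CfsgLib.Even.pOf 2 Y).map (MulAut.conj u).toMonoidHom = CfsgLib.Even.pOf 2 X := by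
          rw [← h2', CfsgLib.Balance.map_conj_conj, mul_inv_cancel, CfsgLib.Balance.map_conj_one]
        rw [← h2, ← CfsgLib.Balance.map_conj_conj, huQ, e1]
      have h1 := hWmap
      -- `u² ∈ B` normalizes `WX`; `u` maps `WX` onto `WY`
      have hsurj : WX.map (MulAut.conj u).toMonoidHom = WY := eq_of_le_of_card_ge
        (by rintro _ ⟨x, hx, rfl⟩; exact hWmap x hx)
        (by rw [card_map_of_injective (conj_injective u), c.sideX.W_card, c.sideY.W_card])
      rw [← hsurj] at hd
      obtain ⟨x, hx, rfl⟩ := hd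
      show u * (u * x * u⁻¹) * u⁻¹ ∈ WX
      have h3 := (mem_normalizer_iff.1 (c.B_norm_WX huu) x).1 hx
      simpa [mul_assoc] using h3
    refine ⟨mem_normalizer_fintype fun d hd => ?_, ?_, hWmap⟩
    · obtain ⟨w, hw, v, hv, rfl⟩ := c.mem_D hd
      rw [show u * (w * v) * u⁻¹ = (u * w * u⁻¹) * (u * v * u⁻¹) by group]
      exact D.mul_mem (mem_sup_right (hWmap w hw)) (mem_sup_left (hWmap' v hv))
    · -- the square
      have huu : u * u ∈ B := by
        by_contra huu
        obtain ⟨h2, -⟩ := c.swap_e hS2 hBS (mul_mem hu hu) huu (hSB (mul_mem hu hu)) he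
        rw [heY] at hue h2
        have h3 : u * u * eX * (u * u)⁻¹ = u * (u * eX * u⁻¹) * u⁻¹ := by group
        rw [h3, hue] at h2
        have h4 : u * (z * eX) * u⁻¹ = eX := by
          calc u * (z * eX) * u⁻¹ = (u * z * u⁻¹) * (u * eX * u⁻¹) := by group
            _ = z * (z * eX) := by rw [hzfix u (hSB hu), hue]
            _ = eX := by rw [← mul_assoc, c.sideX.sq _ (c.sideX.W_le hzX), one_mul]
        rw [h4] at h2
        exact hz1 (mul_eq_right.1 h2.symm)
      rcases c.B_cases huu with r | r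
      · exact r
      exfalso
      set d := u * u * eX with hd
      have hud : u * d * u⁻¹ = z * d := by
        rw [heY] at hue
        calc u * d * u⁻¹ = u * u * (u * eX * u⁻¹) := by rw [hd]; group
          _ = u * u * (z * eX) := by rw [hue]
          _ = z * d := by rw [hd, ← mul_assoc, (hzc (u * u) huu).symm, mul_assoc z]
      have hWX_fix : ∀ t ∈ WX, t ∈ WY → u * t * u⁻¹ = t := by
        intro t ht ht'
        rcases huniq t ht ht' with r' | r'
        · rw [r', mul_one, mul_inv_cancel]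
        · rw [r', hzfix u (hSB hu)]
      by_cases hdW : d ∈ WX
      · have h5 : z * d ∈ WY := hud ▸ hWmap d hdW
        have h6 : d ∈ WY := (Subgroup.mul_mem_cancel_left _ hzY).1 h5
        rw [hWX_fix d hdW h6] at hud
        exact hz1 (mul_eq_right.1 hud.symm)
      by_cases hdW' : d ∈ WY
      · have h5 : z * d ∈ WX := hud ▸ hWmap' d hdW'
        exact hdW ((Subgroup.mul_mem_cancel_left _ hzX).1 h5)
      -- `d = w v`
      obtain ⟨w, hw, v, hv, hwv⟩ := c.mem_D r
      have hsurj : WX.map (MulAut.conj u).toMonoidHom = WY := eq_of_le_of_card_ge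
        (by rintro _ ⟨x, hx, rfl⟩; exact hWmap x hx)
        (by rw [card_map_of_injective (conj_injective u), c.sideX.W_card, c.sideY.W_card])
      obtain ⟨x, hx, hxv⟩ : ∃ x ∈ WX, u * x * u⁻¹ = v := by
        rw [← hsurj] at hv
        obtain ⟨x, hx, hxv⟩ := hv
        exact ⟨x, hx, hxv⟩
      have heBc : ∀ b ∈ B, eX * b = b * eX := fun b hb => (c.sideX.e_central b (c.sideX.par.le hb)).symm
      have hudx : u * v * u⁻¹ = d * x * d⁻¹ := by
        rw [← hxv]
        calc u * (u * x * u⁻¹) * u⁻¹ = (u * u) * x * (u * u)⁻¹ := by group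
          _ = (u * u) * (eX * x * eX⁻¹) * (u * u)⁻¹ := by rw [heBc x (c.WX_le_B hx), mul_inv_cancel_right]
          _ = d * x * d⁻¹ := by rw [hd]; group
      -- the component in `WX` is not central
      have hdef : ∀ t, t ∈ WX → v * t * v⁻¹ = t ∨ v * t * v⁻¹ = z * t := by
        intro t ht
        have h7 : v * t * v⁻¹ * t⁻¹ ∈ WX :=
          WX.mul_mem ((mem_normalizer_iff.1 (c.B_norm_WX (c.symm.WX_le_B hv)) t).1 ht) (WX.inv_mem ht)
        have h8 : v * t * v⁻¹ * t⁻¹ ∈ WY := by
          have h9 := (mem_normalizer_iff.1 (c.symm.B_norm_WX (c.WX_le_B ht)) v⁻¹).1 (WY.inv_mem hv)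
          have h10 := WY.mul_mem hv h9
          simpa [mul_assoc] using h10
        rcases huniq _ h7 h8 with r' | r'
        · exact Or.inl (mul_inv_eq_one.1 r')
        · exact Or.inr (mul_inv_eq_iff_eq_mul.1 r')
      have hw2 := c.sideX.sq w (c.sideX.W_le hw)
      have hv2 := c.sideY.sq v (c.sideY.W_le hv)
      have hwz : w ≠ 1 ∧ w ≠ z := by
        refine ⟨fun h => hdW' ?_, fun h => hdW' ?_⟩
        · rw [hwv, h, one_mul]; exact hv
        · rw [hwv, h]; exact WY.mul_mem hzY hv
      have hvz : v ∉ WX := fun hv' => hdW (by rw [hwv]; exact WX.mul_mem hw hv')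
      have hvQ : v ∉ CfsgLib.Even.pOf 2 X := fun hvQ => hvz (by
        rcases c.WY_inf_Q hz1 hzX hzY hv hvQ with r' | r' <;> rw [r']
        · exact one_mem _
        · exact hzX)
      have hvw : v * w * v⁻¹ = z * w := (hdef w hw).resolve_left fun h => hwz.2
        (c.sideX.unique_fixed (c.symm.WX_le_B hv) hvQ hw hzX hwz.1 hz1 (mul_inv_eq_iff_eq_mul.1 h)
          (hzc v (c.symm.WX_le_B hv)).symm)
      have hxz : x ∉ WY := fun hx' => hvz (by rw [← hxv, hWX_fix x hx hx']; exact hx)
      -- `w` and `x` differ by a central element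
      have hwx : x = w ∨ x = z * w := by
        by_contra hcon
        push Not at hcon
        have hx1 : x ≠ 1 := fun h => hxz (by rw [h]; exact one_mem _)
        have hxz' : x ≠ z := fun h => hxz (by rw [h]; exact hzY)
        have hzz : z * z = 1 := c.sideX.sq z (c.sideX.W_le hzX)
        have hzw1 : z * w ≠ 1 := fun h => hwz.2 (mul_left_cancel (hzz.trans h.symm)).symm
        have hzwz : z * w ≠ z := fun h => hwz.1 (mul_eq_left.1 h)
        have hzww : z * w ≠ w := fun h => hz1 (mul_eq_right.1 h)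
        have h5 : Nat.card (Fin 5) ≤ Nat.card WX := by
          refine Nat.card_le_card_of_injective
            ![⟨1, one_mem _⟩, ⟨z, hzX⟩, ⟨w, hw⟩, ⟨z * w, WX.mul_mem hzX hw⟩, ⟨x, hx⟩] ?_
          intro i j hij
          fin_cases i <;> fin_cases j <;>
            simp [Subtype.ext_iff, hz1, hwz.1, hwz.2, hx1, hxz', hzw1, hzwz, hzww, hcon.1, hcon.2,
              Ne.symm hz1, Ne.symm hwz.1, Ne.symm hwz.2, Ne.symm hx1, Ne.symm hxz', Ne.symm hzw1,
              Ne.symm hzwz, Ne.symm hzww, Ne.symm hcon.1, Ne.symm hcon.2] at hij ⊢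
        rw [c.sideX.W_card, Nat.card_fin] at h5
        omega
      have hwB := c.WX_le_B hw
      have hzd : ∀ t : G, t ∈ B → d * t * d⁻¹ = w * (v * t * v⁻¹) * w⁻¹ := fun t _ => by rw [hwv]; group
      have hww : w * (z * w) * w⁻¹ = z * w := by
        rw [← mul_assoc, ← hzc w hwB, mul_inv_cancel_right]
      have hzz : z * z = 1 := c.sideX.sq z (c.sideX.W_le hzX)
      have key2 : u * w * u⁻¹ = v ∨ u * w * u⁻¹ = z * v := by
        rcases hwx with rfl | rfl
        · exact Or.inl hxv
        · right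
          have h11 : u * (z * w) * u⁻¹ = z * (u * w * u⁻¹) := by
            calc u * (z * w) * u⁻¹ = (u * z * u⁻¹) * (u * w * u⁻¹) := by group
              _ = _ := by rw [hzfix u (hSB hu)]
          rw [h11] at hxv
          rw [← hxv, ← mul_assoc, hzz, one_mul]
      have hdw : d * w * d⁻¹ = z * w := by rw [hzd w hwB, hvw, hww]
      have hdwv : u * d * u⁻¹ = d := by
        have hwv' : v * w = z * (w * v) := by
          rw [← mul_assoc, ← hvw, inv_mul_cancel_right]
        rw [hwv, show u * (w * v) * u⁻¹ = (u * w * u⁻¹) * (u * v * u⁻¹) by group, hudx]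
        rcases hwx with hx' | hx' <;> rw [hx'] at hxv ⊢
        · rw [hdw, hxv, ← mul_assoc, ← hzc v (c.symm.WX_le_B hv), mul_assoc, hwv', ← mul_assoc, hzz, one_mul]
        · have h11 : u * w * u⁻¹ = z * v := by
            rcases key2 with k | k
            · exfalso
              have : u * (z * w) * u⁻¹ = u * w * u⁻¹ := by rw [hxv, k]
              exact hz1 (mul_eq_right.1 (mul_left_cancel (mul_right_cancel this)))
            · exact k
          have h12 : d * (z * w) * d⁻¹ = w := by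
            rw [show d * (z * w) * d⁻¹ = (d * z * d⁻¹) * (d * w * d⁻¹) by group, hdw,
              ← hzc d (hDB r), mul_inv_cancel_right, ← mul_assoc, hzz, one_mul]
          rw [h11, h12, mul_assoc, hwv', ← mul_assoc, hzz, one_mul]
      rw [hdwv] at hud
      exact hz1 (mul_eq_right.1 hud.symm)
  -- an element outside `B` whose coset over `D` has no involution
  obtain ⟨t, htS, htB, htinv⟩ : ∃ t ∈ SS, t ∉ B ∧ ∀ d ∈ D, t * d * (t * d) ≠ 1 := by
    by_cases hex : ∃ d ∈ D, s * d * (s * d) = 1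
    · obtain ⟨d0, hd0, hv2⟩ := hex
      set v := s * d0 with hv
      have hvS : v ∈ SS := mul_mem hsS (hBS (hDB hd0))
      have hvB : v ∉ B := fun h => hsB (by
        have := mul_mem h (inv_mem (hDB hd0))
        simpa [hv, mul_assoc] using this)
      obtain ⟨hvD, -, hvW⟩ := hprop v hvS hvB
      obtain ⟨hve, -⟩ := c.swap_e hS2 hBS hvS hvB (hSB hvS) he
      rw [heY] at hve
      refine ⟨v * eX, mul_mem hvS (hBS heB), fun h => hvB ?_, fun d hd h => ?_⟩
      · have := mul_mem h (inv_mem heB)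
        simpa [mul_assoc] using this
      have hvi : v⁻¹ = v := inv_eq_of_mul_eq_one_right hv2
      have hec : ∀ b ∈ B, eX * b = b * eX := fun b hb => (c.sideX.e_central b (c.sideX.par.le hb)).symm
      have hvdB : v * d * v⁻¹ ∈ B := (mem_normalizer_iff.1 (hSB hvS) d).1 (hDB hd)
      have h' : z * (v * d * v⁻¹) * d = 1 := by
        rw [← h]
        calc z * (v * d * v⁻¹) * d = (z * eX) * (v * d * v⁻¹) * (eX * d) := by
              rw [mul_assoc z eX, hec _ hvdB]
              simp only [mul_assoc]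
              rw [← mul_assoc eX eX d, he2, one_mul]
          _ = (v * eX * v⁻¹) * (v * d * v⁻¹) * (eX * d) := by rw [hve]
          _ = v * eX * d * (v⁻¹ * eX * d) := by group
          _ = v * eX * d * (v * eX * d) := by rw [hvi]
      have hvd : v * d * v⁻¹ = z * d⁻¹ := by
        have hzz : z * z = 1 := c.sideX.sq z (c.sideX.W_le hzX)
        calc v * d * v⁻¹ = z * (z * (v * d * v⁻¹) * d) * d⁻¹ := by
              simp only [mul_assoc, mul_inv_cancel, mul_one]
              rw [← mul_assoc z z, hzz, one_mul]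
          _ = z * d⁻¹ := by rw [h', mul_one]
      by_cases hd2 : d * d = 1
      · have hdi : d⁻¹ = d := inv_eq_of_mul_eq_one_right hd2
        rw [hdi] at hvd
        have hfix : ∀ t, t ∈ WX → t ∈ WY → v * t * v⁻¹ = t := fun t ht ht' => by
          rcases huniq t ht ht' with r' | r'
          · rw [r', mul_one, mul_inv_cancel]
          · rw [r', hzfix v (hSB hvS)]
        rcases c.D_invol hz hd hd2 with r' | r'
        · have h1 : d ∈ WY := (Subgroup.mul_mem_cancel_left _ hzY).1 (hvd ▸ hvW d r')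
          rw [hfix d r' h1] at hvd
          exact hz1 (mul_eq_right.1 hvd.symm)
        · have h1 : v * (z * d) * v⁻¹ = d := by
            rw [← hvd, hvi]
            calc v * (v * d * v) * v = (v * v) * d * (v * v) := by group
              _ = d := by rw [hv2, one_mul, mul_one]
          by_cases hdX : d ∈ WX
          · rw [hfix d hdX r'] at hvd
            exact hz1 (mul_eq_right.1 hvd.symm)
          · have hsurj : WX.map (MulAut.conj v).toMonoidHom = WY := eq_of_le_of_card_ge
              (by rintro _ ⟨x, hx, rfl⟩; exact hvW x hx)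
              (by rw [card_map_of_injective (conj_injective v), c.sideX.W_card, c.sideY.W_card])
            have h2 : d ∈ WX.map (MulAut.conj v).toMonoidHom := hsurj ▸ r'
            obtain ⟨x, hx, hxd⟩ := h2
            have hxd' : v * x * v⁻¹ = d := hxd
            have : x = z * d := mul_left_cancel (mul_right_cancel (hxd'.trans h1.symm))
            exact hdX ((Subgroup.mul_mem_cancel_left _ hzX).1 (this ▸ hx))
      · -- `d` of order four: `v` inverts it
        have hd4 : d * d = z := (c.sq_B hz (hDB hd)).resolve_left hd2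
        have hdz : z * d⁻¹ = d := by rw [← hd4, mul_inv_cancel_right]
        rw [hdz] at hvd
        obtain ⟨w, hw, w', hw', rfl⟩ := c.mem_D hd
        have hw2 := c.sideX.sq w (c.sideX.W_le hw)
        have hw'2 := c.sideY.sq w' (c.sideY.W_le hw')
        -- compute with `x = v w v⁻¹`
        have hxY : v * w * v⁻¹ ∈ WY := hvW w hw
        have hyX : v * w' * v⁻¹ ∈ WX := by
          have hsurj : WX.map (MulAut.conj v).toMonoidHom = WY := eq_of_le_of_card_ge
            (by rintro _ ⟨x, hx, rfl⟩; exact hvW x hx)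
            (by rw [card_map_of_injective (conj_injective v), c.sideX.W_card, c.sideY.W_card])
          have h2 : w' ∈ WX.map (MulAut.conj v).toMonoidHom := hsurj ▸ hw'
          obtain ⟨x, hx, hxd⟩ := h2
          have hxd' : v * x * v⁻¹ = w' := hxd
          have : v * w' * v⁻¹ = x := by
            rw [← hxd', hvi]
            calc v * (v * x * v) * v = (v * v) * x * (v * v) := by group
              _ = x := by rw [hv2, one_mul, mul_one]
          rw [this]; exact hx
        have h3 : (v * w * v⁻¹) * (v * w' * v⁻¹) = w * w' := by rw [← hvd]; group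
        set p := v * w * v⁻¹ with hp
        set q := v * w' * v⁻¹ with hq
        -- `w' p ∈ WY` equals `w' w w' q` in `WX`
        have hcX : w' * w * w' * q ∈ WX := by
          refine WX.mul_mem ?_ hyX
          have := (mem_normalizer_iff.1 (c.B_norm_WX (c.symm.WX_le_B hw')) w).1 hw
          rwa [inv_eq_of_mul_eq_one_right hw'2] at this
        have hpq : w' * p = w' * w * w' * q := by
          have hq2 : q * q = 1 := c.sideX.sq q (c.sideX.W_le hyX)
          have : p = w * w' * q := by rw [← h3, mul_assoc, hq2, mul_one]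
          rw [this]; simp only [mul_assoc]
        have hpY : w' * p ∈ WY := WY.mul_mem hw' hxY
        have hsame : p = w' ∨ p = w' * z := by
          rcases huniq _ (hpq ▸ hcX) hpY with r' | r'
          · exact Or.inl (mul_left_cancel (r'.trans hw'2.symm))
          · exact Or.inr (by rw [← r', ← mul_assoc, hw'2, one_mul])
        have hvv : ∀ a : G, v * (v * a * v⁻¹) * v⁻¹ = a := fun a => by
          rw [hvi]
          calc v * (v * a * v) * v = (v * v) * a * (v * v) := by group
            _ = a := by rw [hv2, one_mul, mul_one]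
        have hzw' : w' * z = z * w' := (hzc w' (c.symm.WX_le_B hw')).symm
        apply hd2
        rcases hsame with r' | r'
        · have hqw : q = w := by rw [hq, ← r', hp, hvv]
          rw [r', hqw] at h3
          calc w * w' * (w * w') = w * w' * (w' * w) := by rw [h3]
            _ = 1 := by rw [mul_assoc, ← mul_assoc w' w', hw'2, one_mul, hw2]
        · have hqw : q = w * z := by
            have h6 : v * p * v⁻¹ = w := hvv w
            rw [r'] at h6
            have : v * (w' * z) * v⁻¹ = q * z := by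
              rw [hq, show v * (w' * z) * v⁻¹ = (v * w' * v⁻¹) * (v * z * v⁻¹) by group, hzfix v (hSB hvS)]
            rw [this] at h6
            rw [← h6, mul_assoc, c.sideX.sq z (c.sideX.W_le hzX), mul_one]
          rw [r', hqw] at h3
          have h7 : w' * z * (w * z) = w' * w := by
            calc w' * z * (w * z) = w' * (z * w) * z := by simp only [mul_assoc]
              _ = w' * (w * z) * z := by rw [hzc w (c.WX_le_B hw)]
              _ = w' * w * (z * z) := by simp only [mul_assoc]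
              _ = w' * w := by rw [c.sideX.sq z (c.sideX.W_le hzX), mul_one]
          rw [h7] at h3
          calc w * w' * (w * w') = w * w' * (w' * w) := by rw [h3]
            _ = 1 := by rw [mul_assoc, ← mul_assoc w' w', hw'2, one_mul, hw2]
    · push Not at hex
      exact ⟨s, hsS, hsB, hex⟩
  obtain ⟨htD, ht2, -⟩ := hprop t htS htB
  set M0 := zpowers t ⊔ D with hM0
  have hmem : ∀ x ∈ M0, x ∈ D ∨ ∃ d ∈ D, x = t * d := by
    intro x hx
    have hx' : x ∈ ((zpowers t ⊔ D : Subgroup G) : Set G) := hx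
    rw [coe_mul_of_left_le_normalizer_right _ _ (zpowers_le.2 htD)] at hx'
    obtain ⟨_, ⟨i, rfl⟩, d, hd, rfl⟩ := hx'
    rcases Int.even_or_odd i with ⟨j, rfl⟩ | ⟨j, rfl⟩
    · left
      refine D.mul_mem ?_ hd
      show t ^ (j + j) ∈ D
      rw [zpow_add, ← (Commute.refl t).mul_zpow]
      exact D.zpow_mem ht2 j
    · right
      refine ⟨(t * t) ^ j * d, D.mul_mem (D.zpow_mem ht2 j) hd, ?_⟩
      show t ^ (2 * j + 1) * d = t * ((t * t) ^ j * d)
      rw [← mul_assoc, add_comm, zpow_add, zpow_one, two_mul, zpow_add, (Commute.refl t).mul_zpow]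
  have heM : eX ∉ M0 := by
    intro h
    rcases hmem _ h with r | ⟨d, hd, r⟩
    · exact c.e_not_mem he r
    · exact htB (by
        rw [show t = eX * d⁻¹ by rw [r, mul_inv_cancel_right]]
        exact mul_mem heB (inv_mem (hDB hd)))
  refine hfin M0 ?_ fun x hx hx2 => ?_
  · have hM0S : M0 ≤ SS := sup_le (zpowers_le.2 htS) (hDB.trans hBS)
    have hlt : D < M0 := lt_of_le_of_ne le_sup_right fun h => htB (hDB (h.ge (mem_sup_left (mem_zpowers t))))
    have h8 : 8 < Nat.card M0 := by
      rw [← c.D_card, ← hD]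
      exact lt_of_le_of_ne (Subgroup.card_le_of_le hlt.le) fun h => hlt.ne (eq_of_le_of_card_ge hlt.le h.ge)
    -- `B` has index two in `S`
    have hidxB : (B.subgroupOf SS).index = 2 := by
      rw [Subgroup.index_eq_two_iff]
      refine ⟨⟨s, hsS⟩, fun b => ?_⟩
      simp only [mem_subgroupOf, Subgroup.coe_mul]
      by_cases hb : (b : G) ∈ B
      · refine Or.inr ⟨hb, fun h => hsB ?_⟩
        have := mul_mem (inv_mem hb) h
        simpa using this
      · refine Or.inl ⟨?_, hb⟩
        by_contra hbs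
        obtain ⟨hse, -⟩ := c.swap_e hS2 hBS hsS hsB (hSB hsS) he
        obtain ⟨hbe, -⟩ := c.swap_e hS2 hBS b.2 hb (hSB b.2) he
        obtain ⟨hbse, -⟩ := c.swap_e hS2 hBS (mul_mem b.2 hsS) hbs (hSB (mul_mem b.2 hsS)) he
        rw [heY] at hse hbe hbse
        have h3 : (b : G) * s * eX * ((b : G) * s)⁻¹ = b * (s * eX * s⁻¹) * (b : G)⁻¹ := by group
        rw [h3, hse, show (b : G) * (z * eX) * (b : G)⁻¹ = (b * z * (b : G)⁻¹) * (b * eX * (b : G)⁻¹) by group,
          hzfix b (hSB b.2), hbe, ← mul_assoc, c.sideX.sq _ (c.sideX.W_le hzX), one_mul] at hbse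
        exact hz1 (mul_eq_right.1 hbse.symm)
    have hS32 : Nat.card SS = 32 := by
      have h := (B.subgroupOf SS).card_mul_index
      rw [Nat.card_congr (subgroupOfEquivOfLe hBS).toEquiv, hidxB, hcard16] at h
      omega
    have hne : Nat.card M0 ≠ 32 := fun h => heM (by
      rw [eq_of_le_of_card_ge hM0S (by rw [hS32, h])]; exact hBS heB)
    obtain ⟨i, hi, hi'⟩ := (Nat.dvd_prime_pow Nat.prime_two).1
      (show Nat.card M0 ∣ 2 ^ 5 by rw [show (2 : ℕ) ^ 5 = 32 by norm_num, ← hS32]; exact card_dvd_of_le hM0S)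
    have h16 : Nat.card M0 = 16 := by
      rw [hi'] at h8 hne ⊢
      interval_cases i <;> omega
    have h := (M0.subgroupOf SS).card_mul_index
    rw [Nat.card_congr (subgroupOfEquivOfLe hM0S).toEquiv, hS32, h16] at h
    show (M0.subgroupOf SS).index = 2
    omega
  · rcases hmem x hx with r | ⟨d, hd, rfl⟩
    · exact r
    · exact absurd hx2 (htinv d hd)

end Conf

end

/-- The structure theorem. -/
theorem structure_four (amb : Amb G) (S : Sylow 2 G) {B X Y : Subgroup G} (hBS : B ≤ (S : Subgroup G))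
    (hX : Par B X) (hY : Par B Y) (hgX : Good B X) (hgY : Good B Y) (hno : NoCommon B X Y) :
    ∃ WX WY : Subgroup G, FourData (S : Subgroup G) X WX ∧ FourData (S : Subgroup G) Y WY ∧
      X ⊓ Cfsg.pResidual 2 G ≠ Y ⊓ Cfsg.pResidual 2 G ∧
      Nat.card ↥((X ⊓ Cfsg.pResidual 2 G) ⊓ (Y ⊓ Cfsg.pResidual 2 G) : Subgroup G) = 8 := by
  classical
  haveI := Fact.mk Nat.prime_two
  obtain ⟨hXi, hYi⟩ : (Nonempty (↥X ≃* Equiv.Perm (Fin 4)) ∨
      Nonempty (↥X ≃* Multiplicative (ZMod 2) × Equiv.Perm (Fin 4))) ∧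
      (Nonempty (↥Y ≃* Equiv.Perm (Fin 4)) ∨
      Nonempty (↥Y ≃* Multiplicative (ZMod 2) × Equiv.Perm (Fin 4))) := by
    rcases amalgam hX hY hno with ⟨a, b⟩ | ⟨a, b⟩
    · exact ⟨Or.inl a, Or.inl b⟩
    · exact ⟨Or.inr a, Or.inr b⟩
  obtain ⟨WX, eX, φ, hsX⟩ := side_of_iso hX hXi
  obtain ⟨WY, eY, χ, hsY⟩ := side_of_iso hY hYi
  obtain ⟨-, hNX, hCX, hNWX⟩ := core_facts amb hsX hgX
  obtain ⟨-, hNY, hCY, hNWY⟩ := core_facts amb hsY hgY
  have c : Conf B X Y WX WY eX eY φ χ := ⟨hsX, hsY, hno, hCX, hCY, hNX, hNY⟩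
  set H := Cfsg.pResidual 2 G with hH
  have main : ∀ {X Y WX WY : Subgroup G} {eX eY : G} {φ : ↥X →* Equiv.Perm (Fin 4)}
      {χ : ↥Y →* Equiv.Perm (Fin 4)}, Conf B X Y WX WY eX eY φ χ → normalizer (WX : Set G) = X →
      FourData (S : Subgroup G) X WX ∧ B ⊓ H = WX ⊔ WY ∧ CfsgLib.Even.pOf 2 X ⊓ H = WX := by
    intro X Y WX WY eX eY φ χ c hN
    have hWH : WX ≤ H := c.sideX.W_odd.trans (O2r_le_residual X)
    have hWH' : WY ≤ H := c.sideY.W_odd.trans (O2r_le_residual Y)
    have heH : eX = 1 ∨ eX ∉ H := (em (eX = 1)).imp_right (c.e_not_residual amb S hBS)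
    have hQH : CfsgLib.Even.pOf 2 X ⊓ H = WX := by
      refine le_antisymm ?_ (le_inf c.sideX.W_le hWH)
      rintro q ⟨hq, hqH⟩
      obtain ⟨w, hw, rfl | rfl⟩ := c.sideX.decomp hq
      · exact hw
      · rcases heH with r | r
        · rw [r, mul_one]; exact hw
        · exact absurd ((Subgroup.mul_mem_cancel_left _ (hWH hw)).1 hqH) r
    have hBH : B ⊓ H = WX ⊔ WY := by
      refine le_antisymm ?_ (le_inf (sup_le c.WX_le_B c.symm.WX_le_B) (sup_le hWH hWH'))
      rintro b ⟨hb, hbH⟩
      rcases c.B_cases hb with r | r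
      · exact r
      · rcases heH with r' | r'
        · rwa [r', mul_one] at r
        · exact absurd ((Subgroup.mul_mem_cancel_left _ hbH).1 ((sup_le hWH hWH') r)) r'
    set U := X ⊓ H with hU
    set g : ↥U →* Equiv.Perm (Fin 4) := φ.comp (Subgroup.inclusion inf_le_left) with hg
    have hginj : Function.Injective g := by
      rw [injective_iff_map_eq_one]
      intro x hx
      rcases (c.sideX.ker (Subgroup.inclusion inf_le_left x)).1 hx with r | r
      · exact Subtype.ext r
      · rcases heH with r' | r'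
        · exact Subtype.ext (r.trans r')
        · exact absurd (r ▸ x.2.2 : eX ∈ H) r'
    obtain ⟨y, hy, hy3⟩ := c.sideX.par.exists_odd
    have hyH : y ∈ H := O2r_le_residual X (mem_O2r hy (by rw [hy3]; decide))
    have hgsurj : Function.Surjective g := by
      have h8 : 8 ∣ Nat.card U := by
        rw [← c.D_card]
        exact card_dvd_of_le (hBH ▸ inf_le_inf_right H c.sideX.par.le)
      have h3 : 3 ∣ Nat.card U := by
        rw [← hy3]
        exact Subgroup.orderOf_dvd_natCard _ ⟨hy, hyH⟩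
      have h24 : 24 ∣ Nat.card U := Nat.Coprime.mul_dvd_of_dvd_of_dvd (m := 8) (n := 3) (by norm_num) h8 h3
      have hle : Nat.card U ≤ 24 := by
        have := Nat.card_le_card_of_injective g hginj
        rw [Nat.card_perm, Nat.card_fin] at this
        exact this.trans_eq (by decide)
      refine ((Nat.bijective_iff_injective_and_card g).2 ⟨hginj, ?_⟩).2
      rw [Nat.card_perm, Nat.card_fin, show Nat.factorial 4 = 24 by decide]
      exact le_antisymm hle (Nat.le_of_dvd Nat.card_pos h24)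
    refine ⟨⟨le_inf (c.WX_le_B.trans hBS) hWH, c.sideX.W_card,
      fun w hw => c.sideX.sq w (c.sideX.W_le hw), ?_, hN, ⟨MulEquiv.ofBijective g ⟨hginj, hgsurj⟩⟩, ?_⟩, hBH, hQH⟩
    · rw [c.centX]
      exact hQH
    · intro N hN2 hNU hUN
      intro n hn
      refine hQH.le ⟨?_, (hNU hn).2⟩
      by_contra hnQ
      have hnv : ¬ inV (φ ⟨n, (hNU hn).1⟩) := fun hv => hnQ ((c.sideX.core _).2 hv)
      set P := (N.subgroupOf U).map g with hP
      haveI : (N.subgroupOf U).Normal := Subgroup.normal_subgroupOf_of_le_normalizer hUN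
      have hPn : P.Normal := Subgroup.Normal.map inferInstance g hgsurj
      have hP2 : IsPGroup 2 P := (hN2.comap_of_injective U.subtype U.subtype_injective).map g
      have hm : φ ⟨n, (hNU hn).1⟩ ∈ P := ⟨⟨n, hNU hn⟩, hn, rfl⟩
      obtain ⟨k, hk | hk⟩ := four_cases _ hnv
      · refine hk.2 (odd_eq_one hP2 (mul_mem hm (hPn.conj_mem _ hm k)) ?_)
        exact (show Odd 3 by decide).of_dvd_nat (orderOf_dvd_of_pow_eq_one hk.1)
      · refine hnv ?_
        rw [odd_eq_one hP2 hm ((show Odd 3 by decide).of_dvd_nat (orderOf_dvd_of_pow_eq_one hk))]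
        exact Or.inl rfl
  obtain ⟨fX, hBH, hQH⟩ := main c hNWX
  obtain ⟨fY, -, -⟩ := main c.symm hNWY
  refine ⟨WX, WY, fX, fY, fun heq => ?_, ?_⟩
  · apply c.not_WY_le
    have h1 : WY ≤ X ⊓ H := heq ▸ (le_inf c.sideY.W_le_X (hsY.W_odd.trans (O2r_le_residual Y)))
    have h2 := fX.core WY (hY.two.to_le c.symm.WX_le_B) h1 (by
      rw [heq]; exact inf_le_left.trans c.sideY.normal_W)
    exact h2.trans c.sideX.W_le
  · have hne : X ≠ Y := fun h => c.Q_ne (by rw [h])
    rw [show (X ⊓ H) ⊓ (Y ⊓ H) = (X ⊓ Y) ⊓ H by rw [inf_inf_inf_comm, inf_idem], hX.inf_eq hY hne, hBH, c.D_card]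

end CfsgLib.SmithN
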